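import Cfsg.Agent.Lib.SLComm.Count
/-!
# Counting series for the classes of symplectic and orthogonal groups, `q` odd

* `choiceSet`, `wcnt`, `choiceSet_card` : finitely supported choices of given weighted degree;
* `scoef`, `wcnt_symp_le`, `wcnt_orth_le` : the bounds `10.8 q^n` and `19 q^n`.
-/
set_option autoImplicit false
set_option linter.unusedVariables false
set_option linter.unusedSectionVars false

namespace Cfsg.Agent.SpOClassCount

open SLComm

/-- The number of weighted choices. -/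
def wcnt (c : ℕ → ℕ → ℕ) : List ℕ → ℕ → ℕ
  | [], n => if n = 0 then 1 else 0
  | w :: ws, n => ∑ j ∈ (Finset.range (n + 1)).filter (fun j => w * j ≤ n), c w j * wcnt c ws (n - w * j)

section Choice

variable {α : Type*} (A : ℕ → Set α) (one : α) (dg : α → ℕ)

/-- Choices in `A i`, trivial outside `ws`, of weighted degree `n`. -/
def choiceSet (ws : List ℕ) (n : ℕ) : Set (ℕ → α) :=
  {x | (∀ i, i ∉ ws → x i = one) ∧ (∀ i ∈ ws, x i ∈ A i) ∧ (ws.map fun w => w * dg (x w)).sum = n}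

theorem choiceSet_card (c : ℕ → ℕ → ℕ)
    (hA : ∀ w j, {a ∈ A w | dg a = j}.Finite ∧ {a ∈ A w | dg a = j}.ncard ≤ c w j) :
    ∀ (ws : List ℕ), ws.Nodup → (∀ w ∈ ws, 0 < w) → ∀ n,
      (choiceSet A one dg ws n).Finite ∧ (choiceSet A one dg ws n).ncard ≤ wcnt c ws n
  | [], _, _, n => by
    have hsub : choiceSet A one dg [] n ⊆ {fun _ => one} := fun x hx => funext fun i => hx.1 i (by simp)
    refine ⟨(Set.finite_singleton _).subset hsub, ?_⟩
    simp only [wcnt]
    split_ifs with h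
    · exact (Set.ncard_le_ncard hsub (Set.finite_singleton _)).trans (by simp)
    · rw [show choiceSet A one dg [] n = ∅ from
        Set.eq_empty_of_forall_notMem fun f hf => h (by simpa using hf.2.2.symm)]
      simp
  | w :: ws, hnd, hpos, n => by
    classical
    obtain ⟨hw, hnd'⟩ := List.nodup_cons.1 hnd
    have ih := fun m => choiceSet_card c hA ws hnd' (fun x hx => hpos x (List.mem_cons_of_mem _ hx)) m
    set J := (Finset.range (n + 1)).filter (fun j => w * j ≤ n)
    have hsub : choiceSet A one dg (w :: ws) n ⊆ ⋃ j ∈ J,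
        (fun x : α × (ℕ → α) => Function.update x.2 w x.1) ''
          ({a ∈ A w | dg a = j} ×ˢ choiceSet A one dg ws (n - w * j)) := by
      rintro f ⟨h1, h2, h3⟩
      rw [List.map_cons, List.sum_cons] at h3
      refine Set.mem_iUnion₂.2 ⟨dg (f w), ?_, (f w, Function.update f w one),
        ⟨⟨h2 w List.mem_cons_self, rfl⟩, ⟨fun i hi => ?_, fun i hi => ?_, ?_⟩⟩, ?_⟩
      · have hwj := Nat.le_mul_of_pos_left (dg (f w)) (hpos w List.mem_cons_self)
        simp only [J, Finset.mem_filter, Finset.mem_range]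
        omega
      · dsimp only
        by_cases e : i = w
        · subst e; simp
        · rw [Function.update_of_ne e]; exact h1 i (by simp [e, hi])
      · dsimp only
        rw [Function.update_of_ne (fun e : i = w => hw (e ▸ hi))]
        exact h2 i (List.mem_cons_of_mem _ hi)
      · dsimp only
        rw [List.map_congr_left (g := fun x => x * dg (f x)) fun x hx => by
          rw [Function.update_of_ne (fun e : x = w => hw (e ▸ hx))]]
        omega
      · simp
    have hfin : ∀ j ∈ J, ((fun x : α × (ℕ → α) => Function.update x.2 w x.1) ''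
        ({a ∈ A w | dg a = j} ×ˢ choiceSet A one dg ws (n - w * j))).Finite := fun j _ =>
      ((hA w j).1.prod (ih _).1).image _
    refine ⟨(J.finite_toSet.biUnion hfin).subset hsub, ?_⟩
    refine (Set.ncard_le_ncard hsub (J.finite_toSet.biUnion hfin)).trans ?_
    refine (Finset.set_ncard_biUnion_le J _).trans ?_
    rw [wcnt]
    refine Finset.sum_le_sum fun j hj => ?_
    refine (Set.ncard_image_le ((hA w j).1.prod (ih _).1)).trans ?_
    rw [Set.ncard_prod]
    exact Nat.mul_le_mul (hA w j).2 (ih _).2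

end Choice

/-- The weighted number of self-reciprocal polynomials of degree `d`, signs at `1` and `-1`. -/
def wgtE (q : ℕ) : ℕ → ℕ
  | 0 => 1
  | 1 => q + 6
  | m + 2 => q ^ m * (q ^ 2 + 6 * q + 1)

/-- The same in odd degree `2 m + 1`. -/
def wgtO (q : ℕ) : ℕ → ℕ
  | 0 => 4
  | m + 1 => q ^ m * (4 * q + 4)

/-- The same by degree. -/
def wgt (q d : ℕ) : ℕ := if d % 2 = 0 then wgtE q (d / 2) else wgtO q (d / 2)

/-- Palindromic polynomials of degree `d`. -/
def palc (q d : ℕ) : ℕ := if d % 2 = 0 then q ^ (d / 2) else 0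

/-- The coefficient at exponent `w`; signs occur when `w % 2 = s`. -/
def scoef (s q w d : ℕ) : ℕ := if w % 2 = s then wgt q d else palc q d

section Sums

variable (c : ℕ → ℕ → ℕ) (y : ℚ)

/-- Partial sums over even degrees. -/
def esum (ws : List ℕ) (R : ℕ) : ℚ := ∑ r ∈ Finset.range R, (wcnt c ws (2 * r) : ℚ) * y ^ r

/-- Partial sums over odd degrees. -/
def osum (ws : List ℕ) (R : ℕ) : ℚ := ∑ r ∈ Finset.range R, (wcnt c ws (2 * r + 1) : ℚ) * y ^ r

variable {y}

theorem shift_sum_le (hy : 0 ≤ y) {f : ℕ → ℚ} (hf : ∀ r, 0 ≤ f r) (k R : ℕ) :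
    ∑ r ∈ (Finset.range R).filter (fun r => k ≤ r), f (r - k) * y ^ r ≤
      y ^ k * ∑ r ∈ Finset.range R, f r * y ^ r := by
  rw [show (Finset.range R).filter (fun r => k ≤ r) = Finset.Ico k R by
    ext r; simp only [Finset.mem_filter, Finset.mem_range, Finset.mem_Ico]; omega,
    Finset.sum_Ico_eq_sum_range, Finset.mul_sum]
  refine le_trans (le_of_eq (Finset.sum_congr rfl (g := fun r => y ^ k * (f r * y ^ r)) fun r _ => ?_))
    (Finset.sum_le_sum_of_subset_of_nonneg (Finset.range_subset_range.2 (Nat.sub_le R k))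
      fun r _ _ => mul_nonneg (pow_nonneg hy _) (mul_nonneg (hf r) (pow_nonneg hy _)))
  rw [Nat.add_sub_cancel_left, pow_add]
  ring

theorem wcnt_cons_range (w : ℕ) (hw : 0 < w) (ws : List ℕ) {n D : ℕ} (hn : n < D) :
    (wcnt c (w :: ws) n : ℚ) =
      ∑ d ∈ Finset.range D, if w * d ≤ n then (c w d : ℚ) * wcnt c ws (n - w * d) else 0 := by
  rw [wcnt, Nat.cast_sum, ← Finset.sum_filter]
  refine Finset.sum_congr ?_ fun d _ => Nat.cast_mul _ _
  ext d
  simp only [Finset.mem_filter, Finset.mem_range]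
  have := Nat.le_mul_of_pos_left d hw
  omega

theorem esum_cons_le (hy : 0 ≤ y) {w : ℕ} (hw : 0 < w) (ws : List ℕ) {Pe Po : ℚ}
    (he : ∀ D, ∑ d ∈ Finset.range D, (if w * d % 2 = 0 then (c w d : ℚ) * y ^ (w * d / 2) else 0) ≤ Pe)
    (ho : ∀ D, ∑ d ∈ Finset.range D, (if w * d % 2 = 1 then (c w d : ℚ) * y ^ (w * d / 2) else 0) ≤ Po)
    (R : ℕ) :
    esum c y (w :: ws) R ≤ Pe * esum c y ws R + y * Po * osum c y ws R ∧
      osum c y (w :: ws) R ≤ Pe * osum c y ws R + Po * esum c y ws R := by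
  set E := esum c y ws R with hE
  set O := osum c y ws R with hO
  have hE0 : 0 ≤ E := Finset.sum_nonneg fun r _ => mul_nonneg (Nat.cast_nonneg _) (pow_nonneg hy _)
  have hO0 : 0 ≤ O := Finset.sum_nonneg fun r _ => mul_nonneg (Nat.cast_nonneg _) (pow_nonneg hy _)
  set D := 2 * R + 1
  have swap : ∀ t : ℕ, t ≤ 1 → ∑ r ∈ Finset.range R, (wcnt c (w :: ws) (2 * r + t) : ℚ) * y ^ r =
      ∑ d ∈ Finset.range D, (c w d : ℚ) * ∑ r ∈ (Finset.range R).filter (fun r => w * d ≤ 2 * r + t),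
        (wcnt c ws (2 * r + t - w * d) : ℚ) * y ^ r := by
    intro t ht
    simp only [Finset.mul_sum, Finset.sum_filter]
    rw [Finset.sum_comm]
    refine Finset.sum_congr rfl fun r hr => ?_
    rw [wcnt_cons_range c w hw ws (D := D) (by have := Finset.mem_range.1 hr; simp only [D]; omega),
      Finset.sum_mul]
    refine Finset.sum_congr rfl fun d _ => ?_
    split_ifs <;> ring
  constructor
  · have h := swap 0 (by norm_num)
    simp only [add_zero] at h
    rw [show esum c y (w :: ws) R = _ from h]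
    refine le_trans (Finset.sum_le_sum (g := fun d =>
      (if w * d % 2 = 0 then (c w d : ℚ) * y ^ (w * d / 2) else 0) * E +
        (if w * d % 2 = 1 then (c w d : ℚ) * y ^ (w * d / 2) else 0) * (y * O)) fun d _ => ?_) ?_
    · rcases Nat.mod_two_eq_zero_or_one (w * d) with hp | hp
      · rw [if_pos hp, if_neg (by omega), zero_mul, add_zero, mul_assoc]
        refine mul_le_mul_of_nonneg_left ?_ (Nat.cast_nonneg _)
        refine le_trans (le_of_eq ?_) (shift_sum_le hy (f := fun r => (wcnt c ws (2 * r) : ℚ))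
          (fun r => Nat.cast_nonneg _) (w * d / 2) R)
        refine Finset.sum_congr ?_ fun r hr => ?_
        · ext r; simp only [Finset.mem_filter, Finset.mem_range]; omega
        · have := (Finset.mem_filter.1 hr).2
          rw [show 2 * r - w * d = 2 * (r - w * d / 2) by omega]
      · rw [if_neg (by omega), if_pos hp, zero_mul, zero_add, mul_assoc, ← mul_assoc (y ^ _), ← pow_succ]
        refine mul_le_mul_of_nonneg_left ?_ (Nat.cast_nonneg _)
        refine le_trans (le_of_eq ?_) (shift_sum_le hy (f := fun r => (wcnt c ws (2 * r + 1) : ℚ))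
          (fun r => Nat.cast_nonneg _) (w * d / 2 + 1) R)
        refine Finset.sum_congr ?_ fun r hr => ?_
        · ext r; simp only [Finset.mem_filter, Finset.mem_range]; omega
        · have := (Finset.mem_filter.1 hr).2
          rw [show 2 * r - w * d = 2 * (r - (w * d / 2 + 1)) + 1 by omega]
    · rw [Finset.sum_add_distrib, ← Finset.sum_mul, ← Finset.sum_mul, show y * Po * O = Po * (y * O) by ring]
      exact add_le_add (mul_le_mul_of_nonneg_right (he D) hE0) (mul_le_mul_of_nonneg_right (ho D) (mul_nonneg hy hO0))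
  · rw [show osum c y (w :: ws) R = _ from swap 1 le_rfl]
    refine le_trans (Finset.sum_le_sum (g := fun d =>
      (if w * d % 2 = 0 then (c w d : ℚ) * y ^ (w * d / 2) else 0) * O +
        (if w * d % 2 = 1 then (c w d : ℚ) * y ^ (w * d / 2) else 0) * E) fun d _ => ?_) ?_
    · rcases Nat.mod_two_eq_zero_or_one (w * d) with hp | hp
      · rw [if_pos hp, if_neg (by omega), zero_mul, add_zero, mul_assoc]
        refine mul_le_mul_of_nonneg_left ?_ (Nat.cast_nonneg _)
        refine le_trans (le_of_eq ?_) (shift_sum_le hy (f := fun r => (wcnt c ws (2 * r + 1) : ℚ))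
          (fun r => Nat.cast_nonneg _) (w * d / 2) R)
        refine Finset.sum_congr ?_ fun r hr => ?_
        · ext r; simp only [Finset.mem_filter, Finset.mem_range]; omega
        · have := (Finset.mem_filter.1 hr).2
          rw [show 2 * r + 1 - w * d = 2 * (r - w * d / 2) + 1 by omega]
      · rw [if_neg (by omega), if_pos hp, zero_mul, zero_add, mul_assoc]
        refine mul_le_mul_of_nonneg_left ?_ (Nat.cast_nonneg _)
        refine le_trans (le_of_eq ?_) (shift_sum_le hy (f := fun r => (wcnt c ws (2 * r) : ℚ))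
          (fun r => Nat.cast_nonneg _) (w * d / 2) R)
        refine Finset.sum_congr ?_ fun r hr => ?_
        · ext r; simp only [Finset.mem_filter, Finset.mem_range]; omega
        · have := (Finset.mem_filter.1 hr).2
          rw [show 2 * r + 1 - w * d = 2 * (r - w * d / 2) by omega]
    · rw [Finset.sum_add_distrib, ← Finset.sum_mul, ← Finset.sum_mul]
      exact add_le_add (mul_le_mul_of_nonneg_right (he D) hO0) (mul_le_mul_of_nonneg_right (ho D) hE0)

theorem wcnt_one_cons_le (q : ℕ) (hy : y = (q : ℚ)⁻¹) (hq : 0 < q) (ws : List ℕ) (n : ℕ) {A B : ℚ}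
    (hA : ∀ m, (c 1 (2 * m) : ℚ) ≤ A * (q : ℚ) ^ m) (hB : ∀ m, (c 1 (2 * m + 1) : ℚ) ≤ B * (q : ℚ) ^ m) :
    (wcnt c (1 :: ws) (2 * n) : ℚ) ≤
      (q : ℚ) ^ n * (A * esum c y ws (n + 1) + y * B * osum c y ws (n + 1)) := by
  have hq' : (0 : ℚ) < q := by exact_mod_cast hq
  have hqy : (q : ℚ) * y = 1 := by rw [hy, mul_inv_cancel₀ hq'.ne']
  have hy0 : 0 ≤ y := by rw [hy]; positivity
  have hA0 : 0 ≤ A := by have := hA 0; rw [pow_zero, mul_one] at this; exact (Nat.cast_nonneg _).trans this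
  have hB0 : 0 ≤ B := by have := hB 0; rw [pow_zero, mul_one] at this; exact (Nat.cast_nonneg _).trans this
  rw [wcnt_cons_range c 1 one_pos ws (D := 2 * (n + 1)) (by omega)]
  simp only [one_mul]
  have split : ∀ (M : ℕ) (h : ℕ → ℚ), ∑ d ∈ Finset.range (2 * M), h d =
      ∑ m ∈ Finset.range M, (h (2 * m) + h (2 * m + 1)) := by
    intro M h
    induction M with
    | zero => simp
    | succ M ih => rw [show 2 * (M + 1) = 2 * M + 1 + 1 by ring, Finset.sum_range_succ, Finset.sum_range_succ,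
        Finset.sum_range_succ, ih]; ring
  rw [split, Finset.sum_add_distrib, mul_add]
  refine add_le_add ?_ ?_
  · rw [esum, ← Finset.sum_range_reflect (fun r => (wcnt c ws (2 * r) : ℚ) * y ^ r) (n + 1), Finset.mul_sum,
      Finset.mul_sum]
    refine Finset.sum_le_sum fun m hm => ?_
    have hm' := Finset.mem_range.1 hm
    rw [if_pos (by omega), show n + 1 - 1 - m = n - m by omega, show 2 * n - 2 * m = 2 * (n - m) by omega]
    refine le_trans (mul_le_mul_of_nonneg_right (hA m) (Nat.cast_nonneg _)) (le_of_eq ?_)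
    have e : (q : ℚ) ^ m = (q : ℚ) ^ n * y ^ (n - m) := by
      conv_rhs => rw [show n = m + (n - m) by omega, pow_add, Nat.add_sub_cancel_left, mul_assoc, ← mul_pow, hqy,
        one_pow, mul_one]
    rw [e]; ring
  · rw [Finset.sum_range_succ, if_neg (by omega), add_zero]
    refine le_trans ?_ (mul_le_mul_of_nonneg_left (mul_le_mul_of_nonneg_left
      (Finset.sum_le_sum_of_subset_of_nonneg (f := fun r => (wcnt c ws (2 * r + 1) : ℚ) * y ^ r)
        (Finset.range_subset_range.2 (Nat.le_succ n)) fun r _ _ => mul_nonneg (Nat.cast_nonneg _) (pow_nonneg hy0 _))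
      (mul_nonneg hy0 hB0)) (pow_nonneg hq'.le n))
    rw [← Finset.sum_range_reflect (fun r => (wcnt c ws (2 * r + 1) : ℚ) * y ^ r) n, Finset.mul_sum, Finset.mul_sum]
    refine Finset.sum_le_sum fun m hm => ?_
    have hm' := Finset.mem_range.1 hm
    rw [if_pos (by omega), show 2 * n - (2 * m + 1) = 2 * (n - 1 - m) + 1 by omega]
    refine le_trans (mul_le_mul_of_nonneg_right (hB m) (Nat.cast_nonneg _)) (le_of_eq ?_)
    have e : (q : ℚ) ^ m = (q : ℚ) ^ n * (y * y ^ (n - 1 - m)) := by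
      rw [← pow_succ']
      conv_rhs => rw [show n = m + (n - 1 - m + 1) by omega, pow_add]
      rw [show m + (n - 1 - m + 1) - 1 - m = n - 1 - m by omega, mul_assoc, ← mul_pow, hqy, one_pow, mul_one]
    rw [e]; ring

end Sums

/-- The majorant of the factor at weight `w`, for `q = 3`. -/
def gain (s w : ℕ) : ℚ × ℚ :=
  if w % 2 = s then
    if w % 2 = 1 then
      ((1 + 6 * (1 / 3) ^ w + ((1 / 3) ^ w) ^ 2) / (1 - (1 / 3) ^ (w - 1)),
        (1 / 3) ^ (w / 2) * (4 * (1 + (1 / 3) ^ w)) / (1 - (1 / 3) ^ (w - 1)))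
    else
      ((1 + 6 * (1 / 3) ^ w + ((1 / 3) ^ w) ^ 2 + (1 / 3) ^ (w / 2) * (4 * (1 + (1 / 3) ^ w))) /
        (1 - (1 / 3) ^ (w - 1)), 0)
  else (1 / (1 - (1 / 3) ^ (w - 1)), 0)

/-- The majorants of the even and the odd sums. -/
def eo (s : ℕ) : List ℕ → ℚ × ℚ
  | [] => (1, 0)
  | w :: ws =>
    ((gain s w).1 * (eo s ws).1 + 1 / 3 * (gain s w).2 * (eo s ws).2,
      (gain s w).1 * (eo s ws).2 + (gain s w).2 * (eo s ws).1)

theorem den_pos {w : ℕ} (hw : 2 ≤ w) : (0 : ℚ) < 1 - (1 / 3) ^ (w - 1) := by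
  have : ((1 : ℚ) / 3) ^ (w - 1) < 1 := pow_lt_one₀ (by norm_num) (by norm_num) (by omega)
  linarith

theorem gain_nonneg (s : ℕ) {w : ℕ} (hw : 2 ≤ w) : 1 ≤ (gain s w).1 ∧ 0 ≤ (gain s w).2 := by
  have hd := den_pos hw
  have hz : (0 : ℚ) ≤ (1 / 3) ^ w := by positivity
  have hh : (0 : ℚ) ≤ (1 / 3) ^ (w - 1) := by positivity
  have hk : (0 : ℚ) ≤ (1 / 3) ^ (w / 2) * (4 * (1 + (1 / 3) ^ w)) := by positivity
  unfold gain
  split_ifs <;> refine ⟨?_, ?_⟩ <;> simp only [le_refl] <;>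
    first
    | (rw [le_div_iff₀ hd]; nlinarith)
    | exact div_nonneg hk hd.le

theorem eo_nonneg (s : ℕ) : ∀ ws : List ℕ, (∀ w ∈ ws, 2 ≤ w) → 0 ≤ (eo s ws).1 ∧ 0 ≤ (eo s ws).2
  | [], _ => by simp [eo]
  | w :: ws, h => by
    obtain ⟨a, b⟩ := eo_nonneg s ws fun v hv => h v (List.mem_cons_of_mem _ hv)
    obtain ⟨g1, g2⟩ := gain_nonneg s (h w List.mem_cons_self)
    have g1' : 0 ≤ (gain s w).1 := zero_le_one.trans g1
    simp only [eo]
    constructor <;> positivity

theorem sum_pairs_le (h : ℕ → ℚ) (h0 : ∀ d, 0 ≤ h d) (D : ℕ) :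
    ∑ d ∈ Finset.range D, h d ≤ ∑ m ∈ Finset.range D, (h (2 * m) + h (2 * m + 1)) := by
  refine (Finset.sum_le_sum_of_subset_of_nonneg (Finset.range_subset_range.2 (by omega : D ≤ 2 * D))
    fun d _ _ => h0 d).trans (le_of_eq ?_)
  clear h0
  induction D with
  | zero => simp
  | succ M ih => rw [show 2 * (M + 1) = 2 * M + 1 + 1 by ring, Finset.sum_range_succ, Finset.sum_range_succ,
      Finset.sum_range_succ, ih]; ring

section Factor

variable {q : ℕ} (hq : 3 ≤ q)
include hq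

theorem inv_facts {w : ℕ} (hw : 2 ≤ w) :
    0 ≤ ((q : ℚ)⁻¹) ^ w ∧ ((q : ℚ)⁻¹) ^ w ≤ (1 / 3) ^ w ∧ (q : ℚ) * ((q : ℚ)⁻¹) ^ w = ((q : ℚ)⁻¹) ^ (w - 1) ∧
      ((q : ℚ)⁻¹) ^ (w - 1) ≤ (1 / 3) ^ (w - 1) ∧ (q : ℚ) * ((q : ℚ)⁻¹) ^ w < 1 := by
  have h3 : (3 : ℚ) ≤ q := by exact_mod_cast hq
  have hy : (q : ℚ)⁻¹ ≤ 1 / 3 := by rw [one_div]; exact inv_anti₀ (by norm_num) h3
  have hy0 : (0 : ℚ) ≤ (q : ℚ)⁻¹ := by positivity
  have e : (q : ℚ) * ((q : ℚ)⁻¹) ^ w = ((q : ℚ)⁻¹) ^ (w - 1) := by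
    obtain ⟨v, rfl⟩ : ∃ v, w = v + 1 := ⟨w - 1, by omega⟩
    rw [Nat.add_sub_cancel, pow_succ', ← mul_assoc, mul_inv_cancel₀ (by positivity), one_mul]
  refine ⟨by positivity, pow_le_pow_left₀ hy0 hy w, e, pow_le_pow_left₀ hy0 hy _, ?_⟩
  rw [e]
  have := den_pos hw
  have := pow_le_pow_left₀ hy0 hy (w - 1)
  linarith

theorem geo_le {z : ℚ} (hz : 0 ≤ z) (hz1 : (q : ℚ) * z < 1) (D : ℕ) :
    ∑ m ∈ Finset.range D, ((q : ℚ) * z) ^ m ≤ 1 / (1 - q * z) := by
  rw [le_div_iff₀ (by linarith), geom_sum_mul_neg]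
  have : (0 : ℚ) ≤ ((q : ℚ) * z) ^ D := by positivity
  linarith

theorem wgtE_sum_le {z : ℚ} (hz : 0 ≤ z) (hz1 : (q : ℚ) * z < 1) (D : ℕ) :
    ∑ m ∈ Finset.range D, (wgtE q m : ℚ) * z ^ m ≤ (1 + 6 * z + z ^ 2) / (1 - q * z) := by
  refine (Finset.sum_le_sum_of_subset_of_nonneg (Finset.range_subset_range.2 (by omega : D ≤ D + 2))
    fun m _ _ => by positivity).trans ?_
  rw [Finset.sum_range_succ', Finset.sum_range_succ']
  simp only [wgtE, zero_add, Nat.reduceAdd]
  push_cast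
  rw [Finset.sum_congr rfl (g := fun m => (((q : ℚ) ^ 2 + 6 * q + 1) * z ^ 2) * ((q : ℚ) * z) ^ m)
    (fun m _ => by rw [mul_pow]; ring), ← Finset.mul_sum]
  refine le_trans (add_le_add (add_le_add (mul_le_mul_of_nonneg_left (geo_le hq hz hz1 D) (by positivity)) le_rfl)
    le_rfl) (le_of_eq ?_)
  have : (1 : ℚ) - q * z ≠ 0 := by linarith
  field_simp
  ring

theorem wgtO_sum_le {z : ℚ} (hz : 0 ≤ z) (hz1 : (q : ℚ) * z < 1) (D : ℕ) :
    ∑ m ∈ Finset.range D, (wgtO q m : ℚ) * z ^ m ≤ 4 * (1 + z) / (1 - q * z) := by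
  refine (Finset.sum_le_sum_of_subset_of_nonneg (Finset.range_subset_range.2 (by omega : D ≤ D + 1))
    fun m _ _ => by positivity).trans ?_
  rw [Finset.sum_range_succ']
  simp only [wgtO, pow_zero, mul_one]
  push_cast
  rw [Finset.sum_congr rfl (g := fun m => ((4 * (q : ℚ) + 4) * z) * ((q : ℚ) * z) ^ m)
    (fun m _ => by rw [mul_pow]; ring), ← Finset.mul_sum]
  refine le_trans (add_le_add (mul_le_mul_of_nonneg_left (geo_le hq hz hz1 D) (by positivity)) le_rfl) (le_of_eq ?_)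
  have : (1 : ℚ) - q * z ≠ 0 := by linarith
  field_simp
  ring

/-- The factor at weight `w` is at most its value at `q = 3`. -/
theorem factor_le (s : ℕ) {w : ℕ} (hw : 2 ≤ w) (D : ℕ) :
    (∑ d ∈ Finset.range D, (if w * d % 2 = 0 then (scoef s q w d : ℚ) * ((q : ℚ)⁻¹) ^ (w * d / 2) else 0)) ≤
        (gain s w).1 ∧
      (∑ d ∈ Finset.range D, (if w * d % 2 = 1 then (scoef s q w d : ℚ) * ((q : ℚ)⁻¹) ^ (w * d / 2) else 0)) ≤
        (gain s w).2 := by
  obtain ⟨hz0, hz, hqz, hh, hqz1⟩ := inv_facts hq hw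
  have hden := den_pos hw
  set y := (q : ℚ)⁻¹ with hy
  have hy0 : 0 ≤ y := by positivity
  have hy3 : y ≤ 1 / 3 := by
    have h3 : (3 : ℚ) ≤ q := by exact_mod_cast hq
    rw [hy, one_div]; exact inv_anti₀ (by norm_num) h3
  set z := y ^ w
  set den : ℚ := 1 - (1 / 3) ^ (w - 1)
  have hdle : den ≤ 1 - q * z := by rw [hqz]; simp only [den]; linarith
  have hE : ∀ D, ∑ m ∈ Finset.range D, (wgtE q m : ℚ) * z ^ m ≤
      (1 + 6 * (1 / 3) ^ w + ((1 / 3) ^ w) ^ 2) / den := fun D =>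
    (wgtE_sum_le hq hz0 hqz1 D).trans (div_le_div₀ (by positivity) (by gcongr) hden hdle)
  have hO : ∀ D, y ^ (w / 2) * ∑ m ∈ Finset.range D, (wgtO q m : ℚ) * z ^ m ≤
      (1 / 3) ^ (w / 2) * (4 * (1 + (1 / 3) ^ w)) / den := fun D => by
    rw [mul_div_assoc]
    exact mul_le_mul (pow_le_pow_left₀ hy0 hy3 _)
      ((wgtO_sum_le hq hz0 hqz1 D).trans (div_le_div₀ (by positivity) (by gcongr) hden hdle))
      (Finset.sum_nonneg fun m _ => by positivity) (by positivity)
  have hP : ∀ D, ∑ m ∈ Finset.range D, ((q : ℚ) * z) ^ m ≤ 1 / den := fun D =>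
    (geo_le hq hz0 hqz1 D).trans (one_div_le_one_div_of_le hden hdle)
  have ev : ∀ m, y ^ (w * (2 * m) / 2) = z ^ m := fun m => by
    rw [← pow_mul]; congr 1
    rw [show w * (2 * m) = 2 * (w * m) by ring]; omega
  have od : ∀ m, y ^ (w * (2 * m + 1) / 2) = y ^ (w / 2) * z ^ m := fun m => by
    rw [← pow_mul, ← pow_add]; congr 1
    rw [show w * (2 * m + 1) = 2 * (w * m) + w by ring]; omega
  have me : ∀ m, w * (2 * m) % 2 = 0 := fun m => by rw [show w * (2 * m) = 2 * (w * m) by ring]; omega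
  have mo : ∀ m, w * (2 * m + 1) % 2 = w % 2 := fun m => by
    rw [show w * (2 * m + 1) = 2 * (w * m) + w by ring]; omega
  have s2 : ∀ m : ℕ, 2 * m % 2 = 0 ∧ (2 * m + 1) % 2 = 1 ∧ 2 * m / 2 = m ∧ (2 * m + 1) / 2 = m := fun m => by omega
  constructor
  · refine (sum_pairs_le _ (fun d => by split_ifs <;> positivity) D).trans ?_
    simp only [me, mo, if_true, ev, od]
    unfold gain scoef wgt palc
    simp only [(s2 _).1, (s2 _).2.1, (s2 _).2.2.1, (s2 _).2.2.2, if_true, one_ne_zero, if_false]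
    split_ifs with h1 h2 h3 h4 <;> try (exfalso; omega)
    all_goals simp only [Nat.cast_zero, zero_mul, add_zero, Nat.cast_pow]
    all_goals first
      | exact hE D
      | (rw [Finset.sum_add_distrib, add_div]
         refine add_le_add (hE D) (le_trans (le_of_eq ?_) (hO D))
         rw [Finset.mul_sum]
         exact Finset.sum_congr rfl fun m _ => by ring)
      | (simpa only [← mul_pow] using hP D)
  · refine (sum_pairs_le _ (fun d => by split_ifs <;> positivity) D).trans ?_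
    simp only [me, mo, zero_ne_one, if_false, zero_add, od]
    unfold gain scoef wgt palc
    simp only [(s2 _).2.1, (s2 _).2.2.2, one_ne_zero, if_false]
    split_ifs with h1 h2 <;> try (exfalso; omega)
    all_goals simp only [Nat.cast_zero, zero_mul, Finset.sum_const_zero, le_refl]
    refine le_trans (le_of_eq ?_) (hO D)
    rw [Finset.mul_sum]
    exact Finset.sum_congr rfl fun m _ => by ring

theorem sums_le_eo (s : ℕ) (R : ℕ) : ∀ ws : List ℕ, (∀ w ∈ ws, 2 ≤ w) →
    esum (scoef s q) (q : ℚ)⁻¹ ws R ≤ (eo s ws).1 ∧ osum (scoef s q) (q : ℚ)⁻¹ ws R ≤ (eo s ws).2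
  | [], _ => by
    constructor
    · refine (Finset.sum_le_sum_of_subset_of_nonneg (Finset.range_subset_range.2 (Nat.le_succ R))
        fun m _ _ => by positivity).trans ?_
      rw [Finset.sum_range_succ']
      simp [wcnt, eo]
    · simp [osum, wcnt, eo]
  | w :: ws, h => by
    have hw := h w List.mem_cons_self
    have h' : ∀ v ∈ ws, 2 ≤ v := fun v hv => h v (List.mem_cons_of_mem _ hv)
    obtain ⟨he, ho⟩ := sums_le_eo s R ws h'
    have hy0 : (0 : ℚ) ≤ (q : ℚ)⁻¹ := by positivity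
    have hy3 : (q : ℚ)⁻¹ ≤ 1 / 3 := by
      have h3 : (3 : ℚ) ≤ q := by exact_mod_cast hq
      rw [one_div]; exact inv_anti₀ (by norm_num) h3
    obtain ⟨g1, g2⟩ := gain_nonneg s hw
    have g1' : 0 ≤ (gain s w).1 := zero_le_one.trans g1
    obtain ⟨n1, n2⟩ := eo_nonneg s ws h'
    obtain ⟨r1, r2⟩ := esum_cons_le (scoef s q) hy0 (by omega : 0 < w) ws
      (fun D => (factor_le hq s hw D).1) (fun D => (factor_le hq s hw D).2) R
    simp only [eo]
    refine ⟨r1.trans (add_le_add (mul_le_mul_of_nonneg_left he g1') ?_),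
      r2.trans (add_le_add (mul_le_mul_of_nonneg_left ho g1') (mul_le_mul_of_nonneg_left he g2))⟩
    refine mul_le_mul (mul_le_mul_of_nonneg_right hy3 g2) ho (Finset.sum_nonneg fun r _ => ?_) (by positivity)
    positivity

end Factor

/-- Majorant of the tail. -/
def tl (w : ℕ) : ℚ := 30 * (3 / 5) ^ w

theorem gain_tail (s : ℕ) {w : ℕ} (hw : 21 ≤ w) :
    (gain s w).1 + (gain s w).2 ≤ 1 + 10 * (3 / 5) ^ w := by
  have hd := den_pos (show 2 ≤ w by omega)
  set R : ℚ := (3 / 5) ^ w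
  set z : ℚ := (1 / 3) ^ w with hz
  set a : ℚ := (1 / 3) ^ (w / 2)
  have hR : 0 < R := by positivity
  have hR1 : R ≤ (3 / 5) ^ 21 := pow_le_pow_of_le_one (by norm_num) (by norm_num) hw
  have hz0 : 0 ≤ z := by positivity
  have hzR : z ≤ 1 / 50 * R := by
    rw [hz, show ((1 : ℚ) / 3) ^ w = (5 / 9) ^ w * R by rw [← mul_pow]; norm_num]
    refine mul_le_mul_of_nonneg_right ((pow_le_pow_of_le_one (by norm_num) (by norm_num) hw).trans ?_) hR.le
    norm_num
  have ha : a ≤ 5 / 3 * R := by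
    have h1 : a ≤ ((3 / 5 : ℚ) ^ 2) ^ (w / 2) := pow_le_pow_left₀ (by norm_num) (by norm_num) _
    rw [← pow_mul] at h1
    have h2 : ((3 : ℚ) / 5) ^ (2 * (w / 2) + 1) ≤ R := pow_le_pow_of_le_one (by norm_num) (by norm_num) (by omega)
    rw [pow_succ] at h2
    linarith
  have ha0 : 0 ≤ a := by positivity
  have hden : 1 - 3 * z = (1 : ℚ) - (1 / 3) ^ (w - 1) := by
    have : ((1 : ℚ) / 3) ^ w = (1 / 3) ^ (w - 1) * (1 / 3) := by rw [← pow_succ]; congr 1; omega
    rw [hz, this]; ring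
  have key : 1 + 6 * z + z ^ 2 + a * (4 * (1 + z)) ≤ (1 + 10 * R) * (1 - 3 * z) := by
    have e3 : (3 / 5 : ℚ) ^ 21 ≤ 1 / 10000 := by norm_num
    nlinarith [mul_le_mul ha (le_refl z) hz0 (by positivity), mul_le_mul hzR hzR hz0 (by positivity),
      mul_le_mul_of_nonneg_left hzR hR.le, mul_le_mul_of_nonneg_left (hR1.trans e3) hR.le]
  rw [hden] at key
  have k0 : (0 : ℚ) ≤ a * (4 * (1 + z)) := by positivity
  unfold gain
  split_ifs <;> dsimp only
  · rw [← add_div, div_le_iff₀ hd]; linarith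
  · rw [add_zero, div_le_iff₀ hd]; linarith
  · rw [add_zero, div_le_iff₀ hd]; nlinarith

theorem eo_tail (s : ℕ) : ∀ n, 20 ≤ n →
    (eo s (downTwo n)).1 + ((eo s (downTwo n)).1 + (eo s (downTwo n)).2) * tl n ≤
        (eo s (downTwo 20)).1 + ((eo s (downTwo 20)).1 + (eo s (downTwo 20)).2) * tl 20 ∧
      (eo s (downTwo n)).2 + ((eo s (downTwo n)).1 + (eo s (downTwo n)).2) * tl n ≤
        (eo s (downTwo 20)).2 + ((eo s (downTwo 20)).1 + (eo s (downTwo 20)).2) * tl 20 := by
  intro n hn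
  induction n, hn using Nat.le_induction with
  | base => exact ⟨le_rfl, le_rfl⟩
  | succ n hn ih =>
    obtain ⟨k, rfl⟩ : ∃ k, n = k + 1 := ⟨n - 1, by omega⟩
    have h2 : ∀ w ∈ downTwo (k + 1), 2 ≤ w := fun w hw => by
      have key : ∀ m, ∀ v ∈ downTwo m, 2 ≤ v := by
        intro m
        induction m with
        | zero => intro v hv; simp [downTwo] at hv
        | succ m ihm =>
          intro v hv
          rcases m with _ | m
          · simp [downTwo] at hv
          · rcases List.mem_cons.1 hv with rfl | hv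
            · omega
            · exact ihm v hv
      exact key _ w hw
    obtain ⟨n1, n2⟩ := eo_nonneg s _ h2
    obtain ⟨g1, g2⟩ := gain_nonneg s (show 2 ≤ k + 2 by omega)
    have hg := gain_tail s (show 21 ≤ k + 2 by omega)
    rw [show downTwo (k + 1 + 1) = (k + 2) :: downTwo (k + 1) from rfl]
    simp only [eo]
    set E := (eo s (downTwo (k + 1))).1
    set O := (eo s (downTwo (k + 1))).2
    set a := (gain s (k + 2)).1
    set b := (gain s (k + 2)).2
    set R : ℚ := (3 / 5) ^ (k + 2)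
    have e1 : tl (k + 1) = 50 * R := by simp only [tl, R, pow_succ]; ring
    have e2 : tl (k + 1 + 1) = 30 * R := by simp only [tl, R]
    rw [e1] at ih
    rw [e2]
    have hR : 0 < R := by positivity
    have hR1 : R ≤ 1 / 10000 :=
      (pow_le_pow_of_le_one (by norm_num) (by norm_num) (show 21 ≤ k + 2 by omega)).trans (by norm_num)
    have hZ : a * E + 1 / 3 * b * O + (a * O + b * E) ≤ (1 + 10 * R) * (E + O) := by nlinarith
    have hT : (a * E + 1 / 3 * b * O + (a * O + b * E)) * (30 * R) ≤ (E + O) * (40 * R) := by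
      refine (mul_le_mul_of_nonneg_right hZ (by positivity)).trans ?_
      nlinarith [mul_nonneg (add_nonneg n1 n2) hR.le]
    constructor
    · refine le_trans ?_ ih.1
      nlinarith
    · refine le_trans ?_ ih.2
      nlinarith

theorem eo_final : (eo 0 (downTwo 20)).1 + ((eo 0 (downTwo 20)).1 + (eo 0 (downTwo 20)).2) * tl 20 ≤ 108 / 10 ∧
    28 / 9 * ((eo 1 (downTwo 20)).1 + ((eo 1 (downTwo 20)).1 + (eo 1 (downTwo 20)).2) * tl 20) +
      16 / 9 * ((eo 1 (downTwo 20)).2 + ((eo 1 (downTwo 20)).1 + (eo 1 (downTwo 20)).2) * tl 20) ≤ 170 / 10 ∧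
    (eo 2 (downTwo 20)).1 + ((eo 2 (downTwo 20)).1 + (eo 2 (downTwo 20)).2) * tl 20 ≤ 2 := by
  decide +kernel

theorem two_le_mem_downTwo {n : ℕ} {w : ℕ} (hw : w ∈ downTwo n) : 2 ≤ w := by
  induction n with
  | zero => simp [downTwo] at hw
  | succ n ih =>
    rcases n with _ | n
    · simp [downTwo] at hw
    · rcases List.mem_cons.1 hw with rfl | hw
      · omega
      · exact ih hw

theorem eo_le {s N : ℕ} (hN : 20 ≤ N) :
    (eo s (downTwo N)).1 ≤ (eo s (downTwo 20)).1 + ((eo s (downTwo 20)).1 + (eo s (downTwo 20)).2) * tl 20 ∧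
      (eo s (downTwo N)).2 ≤ (eo s (downTwo 20)).2 + ((eo s (downTwo 20)).1 + (eo s (downTwo 20)).2) * tl 20 := by
  obtain ⟨n1, n2⟩ := eo_nonneg s (downTwo N) fun w hw => two_le_mem_downTwo hw
  have h0 : 0 ≤ ((eo s (downTwo N)).1 + (eo s (downTwo N)).2) * tl N := by unfold tl; positivity
  exact ⟨le_trans (le_add_of_nonneg_right h0) (eo_tail s N hN).1,
    le_trans (le_add_of_nonneg_right h0) (eo_tail s N hN).2⟩

variable {q : ℕ}

theorem wgt_bounds (hq : 3 ≤ q) (m : ℕ) : (wgt q (2 * m) : ℚ) ≤ 28 / 9 * (q : ℚ) ^ m ∧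
    (wgt q (2 * m + 1) : ℚ) ≤ 16 / 3 * (q : ℚ) ^ m := by
  have h3 : (3 : ℚ) ≤ q := by exact_mod_cast hq
  simp only [wgt, show 2 * m % 2 = 0 by omega, show (2 * m + 1) % 2 = 1 by omega, show 2 * m / 2 = m by omega,
    show (2 * m + 1) / 2 = m by omega, if_true, one_ne_zero, if_false]
  constructor
  · rcases m with _ | _ | m <;> simp only [wgtE] <;> push_cast
    · norm_num
    · linarith
    · have key : (q : ℚ) ^ 2 + 6 * q + 1 ≤ 28 / 9 * q ^ 2 := by nlinarith
      have := mul_le_mul_of_nonneg_left key (show (0 : ℚ) ≤ (q : ℚ) ^ m by positivity)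
      linarith [show (q : ℚ) ^ (m + 1 + 1) = (q : ℚ) ^ m * (q : ℚ) ^ 2 by ring]
  · rcases m with _ | m <;> simp only [wgtO] <;> push_cast
    · norm_num
    · have key : 4 * (q : ℚ) + 4 ≤ 16 / 3 * q := by linarith
      have := mul_le_mul_of_nonneg_left key (show (0 : ℚ) ≤ (q : ℚ) ^ m by positivity)
      rw [pow_succ]
      linarith

theorem palc_bounds (m : ℕ) : (palc q (2 * m) : ℚ) ≤ 1 * (q : ℚ) ^ m ∧
    (palc q (2 * m + 1) : ℚ) ≤ 0 * (q : ℚ) ^ m := by
  simp [palc, show 2 * m % 2 = 0 by omega, show (2 * m + 1) % 2 = 1 by omega, show 2 * m / 2 = m by omega]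

/-- The series bound for `Sp`. -/
theorem wcnt_symp_le (hq : 3 ≤ q) {n N : ℕ} (hN : 20 ≤ N) :
    5 * wcnt (scoef 0 q) (1 :: downTwo N) (2 * n) ≤ 54 * q ^ n := by
  have h := wcnt_one_cons_le (scoef 0 q) (y := (q : ℚ)⁻¹) q rfl (by omega) (downTwo N) n
    (A := 1) (B := 0) (fun m => by simpa [scoef] using (palc_bounds m).1)
    (fun m => by simpa [scoef] using (palc_bounds m).2)
  have he := ((sums_le_eo hq 0 (n + 1) (downTwo N) fun w hw => two_le_mem_downTwo hw).1.trans (eo_le hN).1).trans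
    eo_final.1
  rw [one_mul, mul_zero, zero_mul, add_zero] at h
  have h2 := h.trans (mul_le_mul_of_nonneg_left he (by positivity))
  have : ((5 * wcnt (scoef 0 q) (1 :: downTwo N) (2 * n) : ℕ) : ℚ) ≤ ((54 * q ^ n : ℕ) : ℚ) := by
    push_cast; linarith
  exact_mod_cast this

/-- The series bound for `O`. -/
theorem wcnt_orth_le (hq : 3 ≤ q) {n N : ℕ} (hN : 20 ≤ N) :
    wcnt (scoef 1 q) (1 :: downTwo N) (2 * n) + wcnt (scoef 2 q) (1 :: downTwo N) (2 * n) ≤ 19 * q ^ n := by
  have h := wcnt_one_cons_le (scoef 1 q) (y := (q : ℚ)⁻¹) q rfl (by omega) (downTwo N) n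
    (A := 28 / 9) (B := 16 / 3) (fun m => by simpa [scoef] using (wgt_bounds hq m).1)
    (fun m => by simpa [scoef] using (wgt_bounds hq m).2)
  have hT := wcnt_one_cons_le (scoef 2 q) (y := (q : ℚ)⁻¹) q rfl (by omega) (downTwo N) n
    (A := 1) (B := 0) (fun m => by simpa [scoef] using (palc_bounds m).1)
    (fun m => by simpa [scoef] using (palc_bounds m).2)
  obtain ⟨e1, o1⟩ := sums_le_eo hq 1 (n + 1) (downTwo N) fun w hw => two_le_mem_downTwo hw
  have e2 := ((sums_le_eo hq 2 (n + 1) (downTwo N) fun w hw => two_le_mem_downTwo hw).1.trans (eo_le hN).1).trans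
    eo_final.2.2
  rw [one_mul, mul_zero, zero_mul, add_zero] at hT
  have hT2 := hT.trans (mul_le_mul_of_nonneg_left e2 (by positivity))
  set E := esum (scoef 1 q) (q : ℚ)⁻¹ (downTwo N) (n + 1)
  set O := osum (scoef 1 q) (q : ℚ)⁻¹ (downTwo N) (n + 1)
  have hO0 : 0 ≤ O := Finset.sum_nonneg fun r _ => by positivity
  have hy3 : (q : ℚ)⁻¹ * (16 / 3) ≤ 16 / 9 := by
    have h3 : (3 : ℚ) ≤ q := by exact_mod_cast hq
    rw [inv_mul_le_iff₀ (by linarith)]; linarith
  have key : 28 / 9 * E + (q : ℚ)⁻¹ * (16 / 3) * O ≤ 170 / 10 :=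
    (add_le_add (mul_le_mul_of_nonneg_left (e1.trans (eo_le hN).1) (by norm_num))
      ((mul_le_mul_of_nonneg_right hy3 hO0).trans
        (mul_le_mul_of_nonneg_left (o1.trans (eo_le hN).2) (by norm_num)))).trans eo_final.2.1
  have h2 := h.trans (mul_le_mul_of_nonneg_left key (by positivity))
  have : ((wcnt (scoef 1 q) (1 :: downTwo N) (2 * n) + wcnt (scoef 2 q) (1 :: downTwo N) (2 * n) : ℕ) : ℚ) ≤
      ((19 * q ^ n : ℕ) : ℚ) := by
    push_cast; linarith
  exact_mod_cast this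

end Cfsg.Agent.SpOClassCount
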