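import Cfsg.Agent.Lib.SLComm.Design
import Cfsg.Agent.Lib.SLComm.ClassData
import Cfsg.Agent.Lib.SpOClassCount.Series
/-!
# Self-reciprocal polynomials, odd characteristic
-/
set_option autoImplicit false
set_option linter.unusedVariables false
set_option linter.unusedSectionVars false

namespace Cfsg.Agent.SpOClassCount

open Polynomial SLComm

variable {F : Type*} [Field F]

/-- Monic, with non-zero constant term, equal to its monic reciprocal. -/
def IsRec (P : F[X]) : Prop := P.Monic ∧ P.coeff 0 ≠ 0 ∧ invPoly P = P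

theorem isRec_one : IsRec (1 : F[X]) :=
  ⟨monic_one, by simp, by rw [invPoly, coeff_one_zero, inv_one, map_one, one_mul, ← C_1, reverse_C]⟩

theorem isRec_linear {c : F} (hc : c * c = 1) : IsRec (X - C c) := by
  have hc0 : c ≠ 0 := left_ne_zero_of_mul_eq_one hc
  refine ⟨monic_X_sub_C c, by simp [hc0], ?_⟩
  rw [invPoly_linear hc0, inv_eq_of_mul_eq_one_left hc]

theorem IsRec.mul {P Q : F[X]} (hP : IsRec P) (hQ : IsRec Q) : IsRec (P * Q) :=
  ⟨hP.1.mul hQ.1, by rw [mul_coeff_zero]; exact mul_ne_zero hP.2.1 hQ.2.1,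
    by rw [invPoly_mul, hP.2.2, hQ.2.2]⟩

theorem IsRec.pow {P : F[X]} (hP : IsRec P) : ∀ k : ℕ, IsRec (P ^ k)
  | 0 => by rw [pow_zero]; exact isRec_one
  | k + 1 => by rw [pow_succ]; exact (hP.pow k).mul hP

theorem IsRec.of_mul_left {P Q : F[X]} (h : IsRec (P * Q)) (hP : IsRec P) : IsRec Q := by
  refine ⟨hP.1.of_mul_monic_left h.1, fun e => h.2.1 (by rw [mul_coeff_zero, e, mul_zero]), ?_⟩
  have := h.2.2
  rw [invPoly_mul, hP.2.2] at this
  exact mul_left_cancel₀ hP.1.ne_zero this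

theorem IsRec.coeff_sq {P : F[X]} (h : IsRec P) : P.coeff 0 * P.coeff 0 = 1 := by
  have h1 := invPoly_coeff_zero h.1 (h := P)
  rw [h.2.2] at h1
  conv_lhs => arg 2; rw [h1]
  exact mul_inv_cancel₀ h.2.1

theorem IsRec.coeff_eq {P : F[X]} (h : IsRec P) {i : ℕ} (hi : i ≤ P.natDegree) :
    P.coeff i = P.coeff 0 * P.coeff (P.natDegree - i) := by
  conv_lhs => rw [← h.2.2]
  rw [invPoly, coeff_C_mul, coeff_reverse, revAt_le hi, inv_eq_of_mul_eq_one_left h.coeff_sq]

theorem IsRec.eval_symm {P : F[X]} (h : IsRec P) {c : F} (hc : c * c = 1) :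
    P.eval c * c ^ P.natDegree = P.coeff 0 * P.eval c := by
  letI : Invertible c := ⟨c, hc, hc⟩
  have h1 := eval₂_reverse_mul_pow (RingHom.id F) c P
  rw [show ⅟ c = c from rfl] at h1
  have h2 : P = C (P.coeff 0) * P.reverse := by
    conv_lhs => rw [← h.2.2]
    rw [invPoly, inv_eq_of_mul_eq_one_left h.coeff_sq]
  have h1' : P.reverse.eval c * c ^ P.natDegree = P.eval c := h1
  conv_lhs => arg 1; rw [h2, eval_mul, eval_C]
  rw [mul_assoc, h1']

/-- A root at `1` of odd order makes the constant term `-1`. -/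
theorem IsRec.coeff_zero_of_eval_one {P : F[X]} (h : IsRec P) (h1 : P.eval 1 ≠ 0) : P.coeff 0 = 1 := by
  have := h.eval_symm (one_mul (1 : F))
  rw [one_pow, mul_one] at this
  exact (mul_right_cancel₀ h1 (by rw [one_mul, ← this])).symm

theorem IsRec.even_of_eval_neg_one (h2 : (2 : F) ≠ 0) {P : F[X]} (h : IsRec P) (h0 : P.coeff 0 = 1)
    (h1 : P.eval (-1) ≠ 0) : Even P.natDegree := by
  have := h.eval_symm (neg_mul_neg (1 : F) 1 |>.trans (one_mul 1))
  rw [h0, one_mul] at this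
  have e : (-1 : F) ^ P.natDegree = 1 := mul_left_cancel₀ h1 (by rw [mul_one]; exact this)
  rcases Nat.even_or_odd P.natDegree with he | ho
  · exact he
  · rw [ho.neg_one_pow] at e
    exact absurd (show (2 : F) = 0 by linear_combination -e) h2

theorem isRec_div {P : F[X]} (h : IsRec P) {c : F} (hc : c * c = 1) {Q : F[X]} (hQ : P = (X - C c) * Q) :
    IsRec Q ∧ P.natDegree = Q.natDegree + 1 := by
  have hQr := (hQ ▸ h).of_mul_left (isRec_linear hc)
  exact ⟨hQr, by rw [hQ, (monic_X_sub_C c).natDegree_mul hQr.1, natDegree_X_sub_C, add_comm]⟩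

/-- Even multiplicities at `1` and `-1` force even degree and constant term one. -/
theorem IsRec.even_data (h2 : (2 : F) ≠ 0) {P : F[X]} (h : IsRec P) (ha : Even (P.rootMultiplicity 1))
    (hb : Even (P.rootMultiplicity (-1))) : Even P.natDegree ∧ P.coeff 0 = 1 := by
  have hsq : (-1 : F) * -1 = 1 := by ring
  obtain ⟨Q, hQ, hQ1⟩ := exists_eq_pow_rootMultiplicity_mul_and_not_dvd P h.1.ne_zero 1
  have hQr : IsRec Q := by
    refine IsRec.of_mul_left (P := (X - C (1 : F)) ^ P.rootMultiplicity 1) ?_ ((isRec_linear (one_mul 1)).pow _)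
    rw [← hQ]; exact h
  have hQ0 := hQr.coeff_zero_of_eval_one fun e => hQ1 (dvd_iff_isRoot.2 e)
  have h0 : P.coeff 0 = 1 := by
    rw [hQ, mul_coeff_zero, hQ0, mul_one, coeff_zero_eq_eval_zero, eval_pow, eval_sub, eval_X, eval_C, zero_sub,
      ha.neg_one_pow]
  obtain ⟨R, hR, hR1⟩ := exists_eq_pow_rootMultiplicity_mul_and_not_dvd P h.1.ne_zero (-1)
  have hRr : IsRec R := by
    refine IsRec.of_mul_left (P := (X - C (-1 : F)) ^ P.rootMultiplicity (-1)) ?_ ((isRec_linear hsq).pow _)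
    rw [← hR]; exact h
  have hR0 : R.coeff 0 = 1 := by
    have h0' := h0
    rw [hR, mul_coeff_zero, coeff_zero_eq_eval_zero ((X - C (-1 : F)) ^ _), eval_pow, eval_sub, eval_X, eval_C,
      zero_sub, neg_neg, one_pow, one_mul] at h0'
    exact h0' 
  have := hRr.even_of_eval_neg_one h2 hR0 fun e => hR1 (dvd_iff_isRoot.2 e)
  refine ⟨?_, h0⟩
  rw [hR, ((monic_X_sub_C (-1 : F)).pow _).natDegree_mul hRr.1, natDegree_pow, natDegree_X_sub_C, mul_one]
  exact hb.add this

section Count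

variable [Finite F]

theorem recSet_finite (d : ℕ) : {P : F[X] | IsRec P ∧ P.natDegree = d}.Finite :=
  (monicNe_finite_card (F := F) d).1.subset fun P hP => ⟨hP.1.1, hP.2, hP.1.2.1⟩

/-- Determined by half of the coefficients. -/
theorem ncard_rec_le (d m : ℕ) (c : F) (hm : ∀ i, m < i → i < d → d - i ≤ m ∨ (d = 2 * i ∧ c = -1)) (h2 : (2 : F) ≠ 0) :
    {P : F[X] | IsRec P ∧ P.natDegree = d ∧ P.coeff 0 = c}.ncard ≤ Nat.card F ^ m := by
  classical
  haveI := Fintype.ofFinite F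
  refine le_trans (Set.ncard_le_ncard_of_injOn (t := (Set.univ : Set (Fin m → F)))
    (fun P i => P.coeff (i.val + 1)) (fun P _ => Set.mem_univ _) ?_ Set.finite_univ) ?_
  · rintro P ⟨hP, hPd, hPc⟩ R ⟨hR, hRd, hRc⟩ he
    have low : ∀ j, j ≤ m → P.coeff j = R.coeff j := by
      intro j hj
      rcases j with _ | j
      · rw [hPc, hRc]
      · exact congrFun he ⟨j, hj⟩
    ext i
    rcases lt_trichotomy i d with hi | hi | hi
    · rcases le_or_gt i m with hle | hlt
      · exact low i hle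
      rcases hm i hlt hi with h | ⟨hd, hc⟩
      · rw [hP.coeff_eq (by omega), hR.coeff_eq (by omega), hPc, hRc, hPd, hRd, low _ h]
      · have mid : ∀ T : F[X], IsRec T → T.natDegree = d → T.coeff 0 = c → T.coeff i = 0 := by
          intro T hT hTd hTc
          have h := hT.coeff_eq (i := i) (by omega)
          rw [hTd, hTc, hc, show d - i = i by omega] at h
          exact (mul_eq_zero.1 (show (2 : F) * T.coeff i = 0 by linear_combination h)).resolve_left h2
        rw [mid P hP hPd hPc, mid R hR hRd hRc]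
    · subst hi
      have e1 := hP.1.coeff_natDegree
      have e2 := hR.1.coeff_natDegree
      rw [hPd] at e1; rw [hRd] at e2
      rw [e1, e2]
    · rw [coeff_eq_zero_of_natDegree_lt (by omega), coeff_eq_zero_of_natDegree_lt (by omega)]
  · rw [Set.ncard_univ, Nat.card_fun, Nat.card_fin]

theorem ncard_pal_le (h2 : (2 : F) ≠ 0) (d : ℕ) :
    {P : F[X] | IsRec P ∧ Even P.natDegree ∧ P.coeff 0 = 1 ∧ P.natDegree = d}.ncard ≤ palc (Nat.card F) d := by
  unfold palc
  split_ifs with hd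
  · refine (Set.ncard_le_ncard ?_ ((recSet_finite d).subset fun P hP => ⟨hP.1, hP.2.1⟩)).trans
      (ncard_rec_le d (d / 2) 1 (fun i h1 h3 => Or.inl (by omega)) h2)
    exact fun P hP => ⟨hP.1, hP.2.2.2, hP.2.2.1⟩
  · rw [Set.eq_empty_of_forall_notMem (s := {P : F[X] | IsRec P ∧ Even P.natDegree ∧ P.coeff 0 = 1 ∧ P.natDegree = d})
      fun P hP => hd (by rw [← hP.2.2.2]; exact Nat.even_iff.1 hP.2.1), Set.ncard_empty]

/-- The bound for all self-reciprocal polynomials of degree `d`. -/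
def nrec (q d : ℕ) : ℕ :=
  if d = 0 then 1 else if d % 2 = 0 then q ^ (d / 2) + q ^ (d / 2 - 1) else 2 * q ^ (d / 2)

theorem ncard_recSet_le (h2 : (2 : F) ≠ 0) (d : ℕ) :
    {P : F[X] | IsRec P ∧ P.natDegree = d}.ncard ≤ nrec (Nat.card F) d := by
  unfold nrec
  split_ifs with h0 hd
  · refine (Set.ncard_le_ncard (t := {1}) (fun P hP => ?_) (Set.finite_singleton _)).trans (by simp)
    exact hP.1.1.natDegree_eq_zero.1 (hP.2.trans h0)
  all_goals
    have hsub : {P : F[X] | IsRec P ∧ P.natDegree = d} ⊆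
        {P : F[X] | IsRec P ∧ P.natDegree = d ∧ P.coeff 0 = 1} ∪
          {P : F[X] | IsRec P ∧ P.natDegree = d ∧ P.coeff 0 = -1} := fun P hP => by
      rcases mul_self_eq_one_iff.1 hP.1.coeff_sq with h | h
      · exact Or.inl ⟨hP.1, hP.2, h⟩
      · exact Or.inr ⟨hP.1, hP.2, h⟩
    have hf : ∀ c : F, {P : F[X] | IsRec P ∧ P.natDegree = d ∧ P.coeff 0 = c}.Finite := fun c =>
      (recSet_finite d).subset fun P hP => ⟨hP.1, hP.2.1⟩
    refine ((Set.ncard_le_ncard hsub ((hf 1).union (hf (-1)))).trans (Set.ncard_union_le _ _)).trans ?_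
  · exact add_le_add (ncard_rec_le d (d / 2) 1 (fun i h1 h3 => Or.inl (by omega)) h2)
      (ncard_rec_le d (d / 2 - 1) (-1) (fun i h1 h3 => by
        by_cases h : d = 2 * i
        · exact Or.inr ⟨h, rfl⟩
        · exact Or.inl (by omega)) h2)
  · rw [two_mul]
    exact add_le_add (ncard_rec_le d (d / 2) 1 (fun i h1 h3 => Or.inl (by omega)) h2)
      (ncard_rec_le d (d / 2) (-1) (fun i h1 h3 => Or.inl (by omega)) h2)

/-- A polynomial with a pair of signs. -/
abbrev Datum (F : Type*) [Field F] : Type _ := F[X] × Bool × Bool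

/-- Admissible data: at a signed exponent a sign may be set at a root; otherwise even degree. -/
def admSet (s w : ℕ) : Set (Datum F) :=
  {x | IsRec x.1 ∧ if w % 2 = s then (x.2.1 = true → x.1.IsRoot 1) ∧ (x.2.2 = true → x.1.IsRoot (-1))
    else Even x.1.natDegree ∧ x.1.coeff 0 = 1 ∧ x.2.1 = false ∧ x.2.2 = false}

theorem admSet_card (h2 : (2 : F) ≠ 0) (s w d : ℕ) :
    {x ∈ admSet (F := F) s w | x.1.natDegree = d}.Finite ∧
      {x ∈ admSet (F := F) s w | x.1.natDegree = d}.ncard ≤ scoef s (Nat.card F) w d := by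
  classical
  have hsq : (-1 : F) * -1 = 1 := by ring
  have hfin : {x ∈ admSet (F := F) s w | x.1.natDegree = d}.Finite :=
    ((recSet_finite d).prod (Set.finite_univ (α := Bool × Bool))).subset fun x hx =>
      ⟨⟨hx.1.1, hx.2⟩, Set.mem_univ _⟩
  refine ⟨hfin, ?_⟩
  unfold scoef
  split_ifs with hw
  swap
  · refine le_trans (Set.ncard_le_ncard_of_injOn (fun x : Datum F => x.1) (fun x hx => ?_) ?_
      ((recSet_finite d).subset fun P hP => ⟨hP.1, hP.2.2.2⟩)) (ncard_pal_le h2 d)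
    · obtain ⟨⟨hr, hc⟩, hd⟩ := hx
      rw [if_neg hw] at hc
      exact ⟨hr, hc.1, hc.2.1, hd⟩
    · rintro ⟨P, a, b⟩ ⟨⟨-, hc⟩, -⟩ ⟨R, a', b'⟩ ⟨⟨-, hc'⟩, -⟩ he
      rw [if_neg hw] at hc hc'
      simp only [Prod.mk.injEq]
      exact ⟨he, hc.2.2.1.trans hc'.2.2.1.symm, hc.2.2.2.trans hc'.2.2.2.symm⟩
  -- divide by the linear factors of the signs
  set N := fun j => {P : F[X] | IsRec P ∧ P.natDegree = j}
  let T₁ : Set (Datum F) := (fun P => (P, false, false)) '' N d
  let T₂ : Set (Datum F) := if d = 0 then ∅ else (fun P => ((X - C (1 : F)) * P, true, false)) '' N (d - 1)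
  let T₃ : Set (Datum F) := if d = 0 then ∅ else (fun P => ((X - C (-1 : F)) * P, false, true)) '' N (d - 1)
  let T₄ : Set (Datum F) := if d < 2 then ∅ else
    (fun P => ((X - C (1 : F)) * ((X - C (-1 : F)) * P), true, true)) '' N (d - 2)
  have hT₂ : T₂.Finite ∧ T₂.ncard ≤ if d = 0 then 0 else nrec (Nat.card F) (d - 1) := by
    simp only [T₂]; split_ifs
    · simp
    · exact ⟨(recSet_finite _).image _, (Set.ncard_image_le (recSet_finite _)).trans (ncard_recSet_le h2 _)⟩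
  have hT₃ : T₃.Finite ∧ T₃.ncard ≤ if d = 0 then 0 else nrec (Nat.card F) (d - 1) := by
    simp only [T₃]; split_ifs
    · simp
    · exact ⟨(recSet_finite _).image _, (Set.ncard_image_le (recSet_finite _)).trans (ncard_recSet_le h2 _)⟩
  have hT₄ : T₄.Finite ∧ T₄.ncard ≤ if d < 2 then 0 else nrec (Nat.card F) (d - 2) := by
    simp only [T₄]; split_ifs
    · simp
    · exact ⟨(recSet_finite _).image _, (Set.ncard_image_le (recSet_finite _)).trans (ncard_recSet_le h2 _)⟩
  have hT₁ : T₁.Finite ∧ T₁.ncard ≤ nrec (Nat.card F) d :=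
    ⟨(recSet_finite _).image _, (Set.ncard_image_le (recSet_finite _)).trans (ncard_recSet_le h2 _)⟩
  have hsub : {x ∈ admSet (F := F) s w | x.1.natDegree = d} ⊆ T₁ ∪ T₂ ∪ (T₃ ∪ T₄) := by
    rintro ⟨P, a, b⟩ ⟨⟨hr, hc⟩, hd⟩
    rw [if_pos hw] at hc
    simp only at hc hd hr
    cases a <;> cases b
    · exact Or.inl (Or.inl ⟨P, ⟨hr, hd⟩, rfl⟩)
    · obtain ⟨Q, hQ⟩ := dvd_iff_isRoot.2 (hc.2 rfl)
      obtain ⟨hQr, hQd⟩ := isRec_div hr hsq hQ
      refine Or.inr (Or.inl ?_)
      simp only [T₃, if_neg (show d ≠ 0 by omega)]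
      exact ⟨Q, ⟨hQr, by omega⟩, by rw [hQ]⟩
    · obtain ⟨Q, hQ⟩ := dvd_iff_isRoot.2 (hc.1 rfl)
      obtain ⟨hQr, hQd⟩ := isRec_div hr (one_mul 1) hQ
      refine Or.inl (Or.inr ?_)
      simp only [T₂, if_neg (show d ≠ 0 by omega)]
      exact ⟨Q, ⟨hQr, by omega⟩, by rw [hQ]⟩
    · obtain ⟨Q, hQ⟩ := dvd_iff_isRoot.2 (hc.1 rfl)
      obtain ⟨hQr, hQd⟩ := isRec_div hr (one_mul 1) hQ
      have hQ1 : Q.IsRoot (-1) := by
        have h := hc.2 rfl
        rw [IsRoot, hQ, eval_mul] at h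
        refine (mul_eq_zero.1 h).resolve_left ?_
        rw [eval_sub, eval_X, eval_C, show (-1 : F) - 1 = -2 by ring]
        exact neg_ne_zero.2 h2
      obtain ⟨R, hR⟩ := dvd_iff_isRoot.2 hQ1
      obtain ⟨hRr, hRd⟩ := isRec_div hQr hsq hR
      refine Or.inr (Or.inr ?_)
      simp only [T₄, if_neg (show ¬ d < 2 by omega)]
      exact ⟨R, ⟨hRr, by omega⟩, by rw [hQ, hR]⟩
  refine ((Set.ncard_le_ncard hsub ((hT₁.1.union hT₂.1).union (hT₃.1.union hT₄.1))).trans
    ((Set.ncard_union_le _ _).trans (add_le_add (Set.ncard_union_le _ _) (Set.ncard_union_le _ _)))).trans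
    ((add_le_add (add_le_add hT₁.2 hT₂.2) (add_le_add hT₃.2 hT₄.2)).trans ?_)
  generalize Nat.card F = q
  obtain ⟨m, rfl | rfl⟩ := Nat.even_or_odd' d
  · rcases m with _ | _ | m
    · simp [nrec, wgt, wgtE]
    · simp [nrec, wgt, wgtE] <;> omega
    · simp only [nrec, wgt, wgtE, show 2 * (m + 1 + 1) % 2 = 0 by omega, show 2 * (m + 1 + 1) / 2 = m + 2 by omega,
        show 2 * (m + 1 + 1) - 1 = 2 * m + 3 by omega, show (2 * m + 3) / 2 = m + 1 by omega,
        show 2 * (m + 1 + 1) - 2 = 2 * m + 2 by omega, show (2 * m + 2) / 2 = m + 1 by omega,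
        show (2 * m + 3) % 2 = 1 by omega, show (2 * m + 2) % 2 = 0 by omega, show ¬ 2 * (m + 1 + 1) < 2 by omega,
        show 2 * (m + 1 + 1) ≠ 0 by omega, show 2 * m + 3 ≠ 0 by omega, show 2 * m + 2 ≠ 0 by omega,
        one_ne_zero, if_true, if_false, Nat.add_sub_cancel]
      refine le_of_eq ?_
      rw [show m + 2 - 1 = m + 1 by omega]
      ring
  · rcases m with _ | m
    · simp [nrec, wgt, wgtO]
    · simp only [nrec, wgt, wgtO, show (2 * (m + 1) + 1) % 2 = 1 by omega, show (2 * (m + 1) + 1) / 2 = m + 1 by omega,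
        show 2 * (m + 1) + 1 - 1 = 2 * m + 2 by omega, show (2 * m + 2) / 2 = m + 1 by omega,
        show 2 * (m + 1) + 1 - 2 = 2 * m + 1 by omega, show (2 * m + 1) / 2 = m by omega,
        show (2 * m + 1) % 2 = 1 by omega, show (2 * m + 2) % 2 = 0 by omega, show ¬ 2 * (m + 1) + 1 < 2 by omega,
        show 2 * (m + 1) + 1 ≠ 0 by omega, show 2 * m + 1 ≠ 0 by omega, show 2 * m + 2 ≠ 0 by omega,
        one_ne_zero, if_true, if_false, Nat.add_sub_cancel]
      exact le_of_eq (by ring)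

end Count

end Cfsg.Agent.SpOClassCount
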