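import Cfsg.Agent.Lib.Forms.UnipotentClasses
import Mathlib.LinearAlgebra.Matrix.Charpoly.Coeff
/-!
# The determinant of a symmetric form preserved by a unipotent matrix

* `det_flip` : changing the square class of one block form of odd size changes that of the determinant.
-/
set_option autoImplicit false
set_option linter.unusedVariables false
set_option linter.unusedSectionVars false

open Matrix
open scoped Classical

namespace Cfsg.Agent.SpOClassCount

open Forms Forms.UnipCent Forms.UnipCls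

variable {F : Type*} [Field F] [Finite F]

theorem isSquare_mul_iff (h2 : (2 : F) ≠ 0) {a b : F} (ha : a ≠ 0) (hb : b ≠ 0) :
    IsSquare (a * b) ↔ (IsSquare a ↔ IsSquare b) := by
  haveI := Fintype.ofFinite F
  have h : ringChar F ≠ 2 := fun e => h2 (by
    haveI : CharP F 2 := ringChar.of_eq e
    exact CharTwo.two_eq_zero)
  rw [← quadraticChar_one_iff_isSquare (mul_ne_zero ha hb), ← quadraticChar_one_iff_isSquare ha,
    ← quadraticChar_one_iff_isSquare hb, map_mul]
  rcases quadraticChar_dichotomy ha with e | e <;> rcases quadraticChar_dichotomy hb with e' | e' <;>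
    simp [e, e']

theorem isSquare_sq_mul (h2 : (2 : F) ≠ 0) {a b : F} (ha : a ≠ 0) (hb : b ≠ 0) :
    IsSquare (a * b * a) ↔ IsSquare b := by
  rw [mul_right_comm, isSquare_mul_iff h2 (mul_ne_zero ha ha) hb, iff_iff_eq]
  simp

theorem det_one_add_nilpotent {n : Type*} [Fintype n] [DecidableEq n] {N : Matrix n n F} (hN : IsNilpotent N) :
    (1 + N).det = 1 := by
  have h := Matrix.isNilpotent_charpoly_sub_pow_of_isNilpotent hN.neg
  rw [isNilpotent_iff_eq_zero, sub_eq_zero] at h
  have h1 := Matrix.eval_charpoly (-N) (1 : F)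
  rw [h, Polynomial.eval_pow, Polynomial.eval_X, one_pow, map_one, sub_neg_eq_add] at h1
  exact h1.symm

variable {κ : Type} [Fintype κ] [DecidableEq κ] (d : κ → ℕ) (hd : ∀ k, 1 ≤ d k)

/-- Changing the square class of the block form at one odd size changes the class of the determinant. -/
theorem det_flip (h2 : (2 : F) ≠ 0) {H H' : GL (Ix d) F} (hH : UnipCls.IsForm d (1 : F) H)
    (hH' : UnipCls.IsForm d (1 : F) H') (D₀ : ↥(Finset.univ.image d)) (hodd : Odd (D₀ : ℕ))
    (hG : ∀ D, D ≠ D₀ → ∃ B : Matrix (Fb d D) (Fb d D) F, IsUnit B ∧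
      ad (RingHom.id F) B * G d hd H D * B = G d hd H' D)
    (hne : ¬ (IsSquare (G d hd H D₀).det ↔ IsSquare (G d hd H' D₀).det)) :
    ¬ (IsSquare (H : Matrix (Ix d) (Ix d) F).det ↔ IsSquare (H' : Matrix (Ix d) (Ix d) F).det) := by
  set θ := RingHom.id F
  have hnz : ∀ K : GL (Ix d) F, (K : Matrix (Ix d) (Ix d) F).det ≠ 0 := fun K =>
    ((Matrix.isUnit_iff_isUnit_det _).1 K.isUnit).ne_zero
  -- diagonal representatives at `D₀`
  obtain ⟨k₀, -, hk₀⟩ := Finset.mem_image.mp D₀.2
  set i₀ : Fb d D₀ := ⟨k₀, hk₀⟩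
  haveI : Nonempty (Fb d D₀) := ⟨i₀⟩
  haveI := Fintype.ofFinite F
  obtain ⟨α, hα⟩ := FiniteField.exists_nonsquare (F := F) (fun h => h2 (by
    haveI : CharP F 2 := ringChar.of_eq h
    exact CharTwo.two_eq_zero))
  have hα0 : α ≠ 0 := fun h => hα (h ▸ IsSquare.zero)
  let dg : F → Matrix (Fb d D₀) (Fb d D₀) F := fun γ => Matrix.diagonal (Function.update (fun _ => 1) i₀ γ)
  have dgdet : ∀ γ, (dg γ).det = γ := fun γ => by
    rw [Matrix.det_diagonal, Finset.prod_update_of_mem (Finset.mem_univ i₀), Finset.prod_const_one, mul_one]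
  have normal : ∀ K : GL (Ix d) F, UnipCls.IsForm d (1 : F) K → ∃ γ : F, (γ = 1 ∨ γ = α) ∧
      (IsSquare (G d hd K D₀).det ↔ γ = 1) ∧
      ∃ B : Matrix (Fb d D₀) (Fb d D₀) F, IsUnit B ∧ Bᵀ * G d hd K D₀ * B = dg γ := by
    intro K hK
    have hs := ad_G d hd θ (1 : F) K hK.symm hK.pres D₀
    rw [one_mul, (show Even ((D₀ : ℕ) - 1) from by obtain ⟨j, hj⟩ := hodd; exact ⟨j, by omega⟩).neg_one_pow,
      one_smul] at hs
    by_cases h : IsSquare (G d hd K D₀).det
    · refine ⟨1, Or.inl rfl, ⟨fun _ => rfl, fun _ => h⟩, exists_congr_symm h2 _ _ hs (diagonal_transpose _)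
        (isUnit_G d hd θ K hK.pres D₀) ?_ ?_⟩
      · rw [Matrix.isUnit_iff_isUnit_det, dgdet]; exact isUnit_one
      · rw [dgdet]; exact iff_of_true h IsSquare.one
    · refine ⟨α, Or.inr rfl, ⟨fun e => absurd e h, fun e => absurd (e ▸ IsSquare.one) hα⟩,
        exists_congr_symm h2 _ _ hs (diagonal_transpose _) (isUnit_G d hd θ K hK.pres D₀) ?_ ?_⟩
      · rw [Matrix.isUnit_iff_isUnit_det, dgdet]; exact isUnit_iff_ne_zero.2 hα0
      · rw [dgdet]; exact iff_of_false h hα
  obtain ⟨γ, hγ, hγi, B₀, hB₀, hB₀e⟩ := normal H hH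
  obtain ⟨γ', hγ', hγi', B₀', hB₀', hB₀e'⟩ := normal H' hH'
  have hγne : γ ≠ γ' := fun e => hne (by rw [hγi, hγi', e])
  choose B hBu hB using hG
  let BB : ∀ D, Matrix (Fb d D) (Fb d D) F := fun D => if h : D = D₀ then h ▸ B₀ else B D h
  let BB' : ∀ D, Matrix (Fb d D) (Fb d D) F := fun D => if h : D = D₀ then h ▸ B₀' else 1
  obtain ⟨x, hx⟩ := π_surjective (F := F) d hd BB
  obtain ⟨x', hx'⟩ := π_surjective (F := F) d hd BB'
  have hxu : IsUnit x := isUnit_of_π d hd x (by
    rw [hx]; exact Pi.isUnit_iff.mpr fun D => by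
      simp only [BB]; split_ifs with h
      · subst h; exact hB₀
      · exact hBu D h)
  have hxu' : IsUnit x' := isUnit_of_π d hd x' (by
    rw [hx']; exact Pi.isUnit_iff.mpr fun D => by
      simp only [BB']; split_ifs with h
      · subst h; exact hB₀'
      · exact isUnit_one)
  obtain ⟨H₁, hH₁, hv₁, hG₁⟩ := exists_transform d hd hH x hxu
  obtain ⟨H₁', hH₁', hv₁', hG₁'⟩ := exists_transform d hd hH' x' hxu'
  have hdet : ∀ (K K₁ : GL (Ix d) F) (y : A F d), IsUnit y →
      (K₁ : Matrix (Ix d) (Ix d) F) = ad θ y.1 * (K : Matrix (Ix d) (Ix d) F) * y.1 →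
      (IsSquare (K₁ : Matrix (Ix d) (Ix d) F).det ↔ IsSquare (K : Matrix (Ix d) (Ix d) F).det) := by
    intro K K₁ y hy e
    rw [e, Matrix.det_mul, Matrix.det_mul, show ad θ y.1 = y.1ᵀ from rfl, Matrix.det_transpose]
    exact isSquare_sq_mul h2 ((Matrix.isUnit_iff_isUnit_det _).1 (isUnit_val d hy)).ne_zero (hnz K)
  rw [← hdet H H₁ x hxu hv₁, ← hdet H' H₁' x' hxu' hv₁']
  -- the quotient of the two forms
  set h := (H₁ : Matrix (Ix d) (Ix d) F) with hh
  set hi := ((H₁⁻¹ : GL (Ix d) F) : Matrix (Ix d) (Ix d) F)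
  set h' := (H₁' : Matrix (Ix d) (Ix d) F) with hh'
  set T : Matrix (Ix d) (Ix d) F := 1 + Jordan.NT F d with hTdef
  have hX : hi * h' ∈ A F d := by
    rw [mem_A]
    have e1 : hi * ad θ T * (h * T) = 1 := by
      rw [mul_assoc, ← mul_assoc (ad θ T), show ad θ T * h * T = h from hH₁.pres]; exact Units.inv_mul H₁
    have e2 : T * (hi * ad θ T * h) = 1 := by
      refine mul_eq_one_comm.mp ?_
      rw [mul_assoc]; exact e1
    have h3 : hi * h' * T = T * (hi * h') := by
      calc hi * h' * T = T * (hi * ad θ T * h) * (hi * h' * T) := by rw [e2, one_mul]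
        _ = T * (hi * ad θ T * (h * hi) * h' * T) := by noncomm_ring
        _ = T * (hi * (ad θ T * h' * T)) := by
          rw [show h * hi = 1 from Units.mul_inv H₁]; noncomm_ring
        _ = _ := by rw [show ad θ T * h' * T = h' from hH₁'.pres]
    rw [hTdef, mul_add, add_mul, mul_one, one_mul, add_right_inj] at h3
    exact h3
  let X : A F d := ⟨hi * h', hX⟩
  have hπX : ∀ D, G d hd H₁ D * π d hd X D = G d hd H₁' D := fun D => by
    have h1 := topBlock_sandwich d hd θ H₁ hH₁.pres D X 1
    rw [show π d hd (1 : A F d) D = 1 from congrFun (π d hd).map_one D, ad_one, one_mul] at h1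
    rw [← h1]
    show topBlock d hd D (ad θ (1 : Matrix (Ix d) (Ix d) F) * h * (hi * h') * _) = topBlock d hd D (h' * _)
    rw [ad_one, one_mul, ← mul_assoc h, show h * hi = 1 from Units.mul_inv H₁, one_mul]
  have hγ0 : γ ≠ 0 := by rcases hγ with rfl | rfl; exacts [one_ne_zero, hα0]
  have hγ0' : γ' ≠ 0 := by rcases hγ' with rfl | rfl; exacts [one_ne_zero, hα0]
  set z := γ' / γ with hz
  have hz0 : z ≠ 0 := div_ne_zero hγ0' hγ0
  have hzns : ¬ IsSquare z := by
    rcases hγ with rfl | rfl <;> rcases hγ' with rfl | rfl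
    · exact absurd rfl hγne
    · rwa [hz, div_one]
    · rw [hz]; intro h; exact hα (by simpa using h)
    · exact absurd rfl hγne
  let u : Ix d → F := fun s => if s.1 = k₀ then z else 1
  have hu : Matrix.diagonal u ∈ A F d := by
    rw [mem_A]
    ext a b
    rw [Matrix.diagonal_mul, Matrix.mul_diagonal, Jordan.NT_apply]
    split_ifs with h
    · simp only [u, h.1]; ring
    · simp
  let X₀ : A F d := ⟨Matrix.diagonal u, hu⟩
  have hπ : π d hd X = π d hd X₀ := by
    funext D
    refine (isUnit_G d hd θ H₁ hH₁.pres D).mul_left_cancel ?_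
    rw [hπX, hG₁', hG₁, hx, hx']
    by_cases hD : D = D₀
    · obtain rfl : D₀ = D := hD.symm
      rw [show BB D₀ = B₀ from dif_pos rfl, show BB' D₀ = B₀' from dif_pos rfl]
      show B₀'ᵀ * G d hd H' D₀ * B₀' = B₀ᵀ * G d hd H D₀ * B₀ * π d hd X₀ D₀
      rw [hB₀e, hB₀e']
      have : π d hd X₀ D₀ = dg z := by
        ext l k
        rw [π_apply]
        show Matrix.diagonal u _ _ = _
        by_cases hlk : l = k
        · subst hlk
          simp only [Matrix.diagonal_apply_eq, dg, u, Function.update_apply, i₀, Subtype.ext_iff]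
        · rw [Matrix.diagonal_apply_ne _ (fun e => hlk (Subtype.ext (congrArg Sigma.fst e))),
            show dg z l k = 0 from Matrix.diagonal_apply_ne _ hlk]
      rw [this]
      simp only [dg, Matrix.diagonal_mul_diagonal]
      congr 1
      funext i
      by_cases hi' : i = i₀
      · subst hi'; simp [hz, mul_div_cancel₀ _ hγ0]
      · simp [Function.update_of_ne hi']
    · rw [show BB D = B D hD from dif_neg hD, show BB' D = 1 from dif_neg hD, ad_one, one_mul, mul_one, hB D hD]
      have : π d hd X₀ D = 1 := by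
        ext l k
        rw [π_apply]
        show Matrix.diagonal u _ _ = _
        by_cases hlk : l = k
        · subst hlk
          simp only [Matrix.diagonal_apply_eq, Matrix.one_apply_eq, u]
          rw [if_neg]
          intro e
          refine hD (Subtype.ext ?_)
          rw [← l.2, e, hk₀]
        · rw [Matrix.diagonal_apply_ne _ (fun e => hlk (Subtype.ext (congrArg Sigma.fst e))),
            Matrix.one_apply_ne hlk]
      rw [this, mul_one]
  have hu0 : ∀ s, u s ≠ 0 := fun s => by simp only [u]; split_ifs <;> simp [hz0]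
  have hXdet : (hi * h').det = z ^ (D₀ : ℕ) := by
    obtain ⟨U, hU⟩ : ∃ U : A F d, X₀ * U = 1 := by
      refine ⟨⟨Matrix.diagonal fun s => (u s)⁻¹, ?_⟩, Subtype.ext ?_⟩
      · rw [mem_A]
        ext a b
        rw [Matrix.diagonal_mul, Matrix.mul_diagonal, Jordan.NT_apply]
        split_ifs with h
        · simp only [u, h.1]; ring
        · simp
      · show Matrix.diagonal u * Matrix.diagonal _ = 1
        rw [Matrix.diagonal_mul_diagonal, ← Matrix.diagonal_one]
        exact congrArg Matrix.diagonal (funext fun s => mul_inv_cancel₀ (hu0 s))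
    have hN : IsNilpotent ((U * (X - X₀)).1) := by
      have := isNilpotent_of_π_eq_zero d hd (U * (X - X₀)) (by rw [map_mul, map_sub, hπ, sub_self, mul_zero])
      exact this.map (A F d).val
    have hX' : X = X₀ * (1 + U * (X - X₀)) := by
      rw [mul_add, mul_one, ← mul_assoc, hU, one_mul, add_sub_cancel]
    calc (hi * h').det = X.1.det := rfl
      _ = (Matrix.diagonal u).det * (1 + (U * (X - X₀)).1).det := by
        conv_lhs => rw [hX']
        rw [Subalgebra.coe_mul, Matrix.det_mul, Subalgebra.coe_add, Subalgebra.coe_one]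
      _ = z ^ (D₀ : ℕ) := by
        rw [det_one_add_nilpotent hN, mul_one, Matrix.det_diagonal, ← Finset.univ_sigma_univ, Finset.prod_sigma,
          Finset.prod_eq_single k₀]
        · simp [u, hk₀]
        · intro k _ hk
          simp [u, hk]
        · simp
  have e : h'.det = h.det * z ^ (D₀ : ℕ) := by
    rw [← hXdet, ← Matrix.det_mul, ← mul_assoc, show h * hi = 1 from Units.mul_inv H₁, one_mul]
  obtain ⟨j, hj⟩ := hodd
  rw [e, isSquare_mul_iff h2 (hnz H₁) (pow_ne_zero _ hz0), hj, pow_succ,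
    isSquare_mul_iff h2 (pow_ne_zero _ hz0) hz0]
  simp only [even_two_mul j |>.isSquare_pow, true_iff, hzns, iff_false]
  tauto

end Cfsg.Agent.SpOClassCount
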