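import Cfsg.Agent.Lib.SpOClassCount.Blocks
import Cfsg.Agent.Lib.SpOClassCount.Flip
import Cfsg.Agent.Lib.UnitaryClassCount.Star
import Cfsg.Agent.S2580
/-!
# The data of an isometry, odd characteristic

* `IsRep` : a group represented as the isometry group of an invertible `ε`-symmetric matrix;
* `isRec_tup` : its tuple is self-reciprocal;
* `sig`, `isConj_of_sig`, `sig_of_agree` : the signs determine the class; for `ε = 1` all but one do.
-/
set_option autoImplicit false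
set_option linter.unusedVariables false
set_option linter.unusedSectionVars false

open scoped Classical

namespace Cfsg.Agent.SpOClassCount

open Polynomial SLComm Matrix Cfsg.Agent.Forms Cfsg.Agent.Forms.UnipCent

variable {F : Type*} [Field F] [Finite F]

/-! ### Inverses of models -/

theorem invPoly_eq_starP (P : F[X]) : invPoly P = UnitaryClassCount.starP (RingHom.id F) P := by
  simp [invPoly, UnitaryClassCount.starP]

/-- Reciprocal pairs. -/
noncomputable def invPairs (ps : List (F[X] × ℕ)) : List (F[X] × ℕ) := ps.map fun x => (invPoly x.1, x.2)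

theorem pairsOk_invPairs {ps : List (F[X] × ℕ)} (h : PairsOk ps) : PairsOk (invPairs ps) := by
  intro y hy
  obtain ⟨x, hx, rfl⟩ := List.mem_map.1 hy
  obtain ⟨hi, hm, hpos, h0⟩ := h x hx
  refine ⟨?_, invPoly_monic h0, hpos, ?_⟩
  · show Irreducible (invPoly x.1)
    rw [invPoly_eq_starP]
    exact UnitaryClassCount.irreducible_starP (RingHom.id F) (fun _ => rfl) hi hm h0
  · show (invPoly x.1).coeff 0 ≠ 0
    rw [invPoly_coeff_zero hm]; exact inv_ne_zero h0

theorem tupOf_invPairs : ∀ (ps : List (F[X] × ℕ)) (i : ℕ), tupOf (invPairs ps) i = invPoly (tupOf ps i)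
  | [], i => by simp [invPairs, tupOf, isRec_one.2.2]
  | x :: ps, i => by
    rw [show invPairs (x :: ps) = (invPoly x.1, x.2) :: invPairs ps from rfl, tupOf_cons, tupOf_cons,
      tupOf_invPairs ps i, invPoly_mul]
    split_ifs <;> simp [isRec_one.2.2]

theorem sim_inv_dcyc {L : List F[X]} (hL : ∀ h ∈ L, h.Monic ∧ h.coeff 0 ≠ 0)
    (ψ : Module.End F (∀ i : Fin L.length, AdjoinRoot (L.get i))) (h1 : ψ * dcyc L = 1) :
    Sim ψ (dcyc (L.map invPoly)) := by
  have hu : ∀ i : Fin L.length, IsUnit (Cyc (L.get i)) := fun i => by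
    haveI := (hL _ (L.get_mem i)).1.finite_adjoinRoot
    refine (Module.End.isUnit_iff _).2 (LinearMap.equivOfDetNeZero (Cyc (L.get i)) ?_).bijective
    rw [det_Cyc (hL _ (L.get_mem i)).1]
    exact mul_ne_zero (pow_ne_zero _ (neg_ne_zero.2 one_ne_zero)) (hL _ (L.get_mem i)).2
  let φ : ∀ i : Fin L.length, Module.End F (AdjoinRoot (L.get i)) := fun i =>
    (((hu i).unit⁻¹ : (Module.End F (AdjoinRoot (L.get i)))ˣ) : Module.End F (AdjoinRoot (L.get i)))
  have hψ : ψ = LinearMap.pi fun i => (φ i).comp (LinearMap.proj i) := by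
    refine left_inv_eq_right_inv h1 (LinearMap.ext fun v => funext fun i => ?_)
    show Cyc (L.get i) (φ i (v i)) = v i
    exact LinearMap.congr_fun ((hu i).mul_val_inv) (v i)
  rw [hψ, show L.map invPoly = List.ofFn (fun i => invPoly (L.get i)) by
    conv_lhs => rw [← List.ofFn_get L, List.map_ofFn]
    rfl]
  refine dcyc_ofFn φ _ fun i => ?_
  haveI := (hL _ (L.get_mem i)).1.finite_adjoinRoot
  exact sim_inv (hu i).unit (hL _ (L.get_mem i)).1 (hL _ (L.get_mem i)).2 (Sim.refl _)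

/-! ### Representations -/

variable {ι : Type} [Fintype ι] [DecidableEq ι] {Γ : Type*} [Group Γ]

/-- `ρ` identifies `G` with the isometries of `S`. -/
structure IsRep (ε : F) (S : Matrix ι ι F) (ρ : Γ →* Matrix ι ι F) : Prop where
  inj : Function.Injective ρ
  range : ∀ A, Aᵀ * S * A = S → ∃ g, ρ g = A
  pres : ∀ g, (ρ g)ᵀ * S * ρ g = S
  unit : IsUnit S
  symm : Sᵀ = ε • S
  sq : ε * ε = 1
  two : (2 : F) ≠ 0

variable {ε : F} {S : Matrix ι ι F} {ρ : Γ →* Matrix ι ι F} (R : IsRep ε S ρ)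
include R

theorem det_ne_zero (g : Γ) : LinearMap.det (Matrix.toLin' (ρ g)) ≠ 0 := by
  rw [LinearMap.det_toLin']
  intro h0
  have h := congrArg Matrix.det (R.pres g)
  rw [Matrix.det_mul, h0, mul_zero] at h
  exact ((Matrix.isUnit_iff_isUnit_det _).1 R.unit).ne_zero h.symm

/-- The pairs of an element. -/
noncomputable def prs (g : Γ) : List (F[X] × ℕ) := Classical.choose (exists_pairs _ (det_ne_zero R g))

theorem prs_spec (g : Γ) : PairsOk (prs R g) ∧ Sim (Matrix.toLin' (ρ g)) (dcyc (blocks (prs R g))) ∧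
    pdeg (prs R g) = Fintype.card ι := by
  obtain ⟨h1, h2, h3⟩ := Classical.choose_spec (exists_pairs _ (det_ne_zero R g))
  exact ⟨h1, h2, h3.trans (Module.finrank_fintype_fun_eq_card F)⟩

/-- The tuple of an element. -/
noncomputable def tup (g : Γ) : ℕ → F[X] := tupOf (prs R g)

theorem isRec_tup (g : Γ) (i : ℕ) : IsRec (tup R g i) := by
  obtain ⟨hok, ⟨e, he⟩, -⟩ := prs_spec R g
  refine ⟨(tupOf_monic hok i).1, (tupOf_monic hok i).2, ?_⟩
  obtain ⟨C, hC⟩ := S2580.isConj_transpose (ρ g)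
  obtain ⟨Si, hSi⟩ := R.unit.exists_right_inv
  have hSi' : Si * S = 1 := mul_eq_one_comm.mp hSi
  have hinv : ρ g⁻¹ = Si * (ρ g)ᵀ * S := by
    refine left_inv_eq_right_inv (a := ρ g) (by rw [← map_mul, inv_mul_cancel, map_one]) ?_
    refine mul_eq_one_comm.mp ?_
    rw [Matrix.mul_assoc, Matrix.mul_assoc, ← Matrix.mul_assoc _ S, R.pres, hSi']
  -- conjugation to the inverse
  set X := Si * (C : Matrix ι ι F)
  have hX : X * ρ g = ρ g⁻¹ * X := by
    rw [hinv]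
    simp only [X, Matrix.mul_assoc]
    rw [← Matrix.mul_assoc S Si, hSi, Matrix.one_mul]
    exact congrArg (Si * ·) hC
  have hXu : IsUnit X.det := by
    rw [Matrix.det_mul]
    exact (isUnit_of_mul_isUnit_left (y := S.det) (by rw [← Matrix.det_mul, hSi', Matrix.det_one]; exact isUnit_one)).mul
      ((Matrix.isUnit_iff_isUnit_det _).1 C.isUnit)
  have s1 : Sim (Matrix.toLin' (ρ g)) (Matrix.toLin' (ρ g⁻¹)) := by
    refine ⟨Matrix.toLinearEquiv (Pi.basisFun F ι) X hXu, fun v => ?_⟩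
    have ev : ∀ w, Matrix.toLinearEquiv (Pi.basisFun F ι) X hXu w = X *ᵥ w := fun w => by
      simp [Matrix.toLinearEquiv, Matrix.toLin_eq_toLin']
    rw [ev, ev, Matrix.toLin'_apply, Matrix.toLin'_apply, Matrix.mulVec_mulVec, Matrix.mulVec_mulVec, hX]
  let ψ : Module.End F (∀ i : Fin (blocks (prs R g)).length, AdjoinRoot ((blocks (prs R g)).get i)) :=
    (e : (ι → F) →ₗ[F] _) ∘ₗ Matrix.toLin' (ρ g⁻¹) ∘ₗ (e.symm : _ →ₗ[F] (ι → F))
  have hψ : ψ * dcyc (blocks (prs R g)) = 1 := by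
    refine LinearMap.ext fun w => ?_
    obtain ⟨v, rfl⟩ := e.surjective w
    show e (Matrix.toLin' (ρ g⁻¹) (e.symm (dcyc (blocks (prs R g)) (e v)))) = e v
    rw [← he, e.symm_apply_apply]
    show e (((Matrix.toLin' (ρ g⁻¹)).comp (Matrix.toLin' (ρ g))) v) = e v
    rw [← Matrix.toLin'_mul, ← map_mul, inv_mul_cancel, map_one, Matrix.toLin'_one]
    rfl
  have s2 : Sim (Matrix.toLin' (ρ g⁻¹)) ψ := ⟨e, fun v => by
    show e (Matrix.toLin' (ρ g⁻¹) v) = e (Matrix.toLin' (ρ g⁻¹) (e.symm (e v)))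
    rw [e.symm_apply_apply]⟩
  have hb : (blocks (prs R g)).map invPoly = blocks (invPairs (prs R g)) := by
    simp only [blocks, invPairs, List.map_map]
    exact List.map_congr_left fun x _ => by simp [invPoly_pow]
  have s3 := sim_inv_dcyc (fun h hh => by
    obtain ⟨x, hx, rfl⟩ := List.mem_map.1 hh
    refine ⟨(hok x hx).2.1.pow _, ?_⟩
    rw [coeff_zero_eq_eval_zero, eval_pow, ← coeff_zero_eq_eval_zero]
    exact pow_ne_zero _ (hok x hx).2.2.2) ψ hψ
  rw [hb] at s3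
  have hp := perm_of_sim hok (pairsOk_invPairs hok)
    ((Sim.symm ⟨e, he⟩).trans (s1.trans (s2.trans s3)))
  exact ((congrFun (tupOf_perm hp) i).trans (tupOf_invPairs _ i)).symm

omit R

/-- A model for a tuple. -/
structure Model (f : ℕ → F[X]) where
  (a b r : ℕ)
  dP : Fin a → ℕ
  dM : Fin b → ℕ
  M : Matrix (Fin r) (Fin r) F
  hP : ∀ k, 1 ≤ dP k
  hM : ∀ k, 1 ≤ dM k
  cP : ∀ j, Fintype.card {k // dP k = j} = (f j).rootMultiplicity 1
  cM : ∀ j, Fintype.card {k // dM k = j} = (f j).rootMultiplicity (-1)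
  u1 : IsUnit (M - 1)
  u2 : IsUnit (M + 1)
  sim : ∀ ps, PairsOk ps → tupOf ps = f → Sim (dcyc (blocks ps)) (Matrix.toLin' (Tm dP dM M))

/-- Index of the model. -/
abbrev Model.Idx {f : ℕ → F[X]} (m : Model f) : Type := (Ix m.dP ⊕ Ix m.dM) ⊕ Fin m.r

theorem exists_model_tup (h2 : (2 : F) ≠ 0) {f : ℕ → F[X]} (h : ∃ ps, PairsOk ps ∧ tupOf ps = f) :
    Nonempty (Model f) := by
  obtain ⟨ps, hok, rfl⟩ := h
  obtain ⟨a, b, r, dP, dM, M, hP, hM, cP, cM, u1, u2, hs⟩ := exists_model h2 hok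
  exact ⟨⟨a, b, r, dP, dM, M, hP, hM, cP, cM, u1, u2, fun ps' hok' he =>
    (dcyc_perm (blocks_perm (perm_of_tupOf_eq hok' hok he))).trans hs⟩⟩

/-- Adapted coordinates for an element, with the three forms. -/
structure Adapted {f : ℕ → F[X]} (m : Model f) (ε : F) (S : Matrix ι ι F) (A : Matrix ι ι F)
    (HP : GL (Ix m.dP) F) (HM : GL (Ix m.dM) F) (HR : Matrix (Fin m.r) (Fin m.r) F) : Prop where
  formP : UnipCls.IsForm m.dP ε HP
  formM : UnipCls.IsForm m.dM ε HM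
  unitR : IsUnit HR
  symR : HRᵀ = ε • HR
  invR : m.Mᵀ * HR * m.M = HR
  basis : ∃ (P : Matrix ι m.Idx F) (Q : Matrix m.Idx ι F), P * Q = 1 ∧ Q * P = 1 ∧
    A * P = P * Tm m.dP m.dM m.M ∧
    Pᵀ * S * P = Matrix.fromBlocks (Matrix.fromBlocks (HP : Matrix (Ix m.dP) (Ix m.dP) F) 0 0
      (HM : Matrix (Ix m.dM) (Ix m.dM) F)) 0 0 HR

include R

/-- The model of a tuple that occurs. -/
noncomputable def model (f : ℕ → F[X]) (hf : ∃ g, tup R g = f) : Model f :=
  Classical.choice (exists_model_tup R.two (hf.elim fun g hg => ⟨prs R g, (prs_spec R g).1, hg⟩))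

theorem exists_adapted {f : ℕ → F[X]} (m : Model f) {g : Γ} (hg : tup R g = f) :
    ∃ HP HM HR, Adapted m ε S (ρ g) HP HM HR := by
  obtain ⟨hok, hs, -⟩ := prs_spec R g
  obtain ⟨e, he⟩ := hs.trans (m.sim _ hok hg)
  set T := Tm m.dP m.dM m.M with hT
  set P : Matrix ι m.Idx F := LinearMap.toMatrix' (e.symm : (m.Idx → F) →ₗ[F] (ι → F)) with hP
  set Q : Matrix m.Idx ι F := LinearMap.toMatrix' (e : (ι → F) →ₗ[F] (m.Idx → F))
  have hPQ : P * Q = 1 := by rw [← LinearMap.toMatrix'_comp, e.symm_comp, LinearMap.toMatrix'_id]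
  have hQP : Q * P = 1 := by rw [← LinearMap.toMatrix'_comp, e.comp_symm, LinearMap.toMatrix'_id]
  have hAP : ρ g * P = P * T := by
    refine Matrix.toLin'.injective (LinearMap.ext fun w => ?_)
    obtain ⟨v, rfl⟩ := e.surjective w
    rw [Matrix.toLin'_mul, Matrix.toLin'_mul, hP, Matrix.toLin'_toMatrix', LinearMap.comp_apply,
      LinearMap.comp_apply, ← he]
    simp
  obtain ⟨Si, hSi⟩ := R.unit.exists_right_inv
  have hHu : IsUnit (Pᵀ * S * P) := by
    refine IsUnit.of_mul_eq_one (Q * Si * Qᵀ) ?_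
    calc Pᵀ * S * P * (Q * Si * Qᵀ) = Pᵀ * (S * ((P * Q) * Si)) * Qᵀ := by simp only [Matrix.mul_assoc]
      _ = _ := by rw [hPQ, Matrix.one_mul, hSi, Matrix.mul_one, ← Matrix.transpose_mul, hQP, Matrix.transpose_one]
  have hsym : (Pᵀ * S * P)ᵀ = ε • (Pᵀ * S * P) := by
    rw [Matrix.transpose_mul, Matrix.transpose_mul, Matrix.transpose_transpose, R.symm, Matrix.smul_mul,
      Matrix.mul_smul, Matrix.mul_assoc]
  have hinv : Tᵀ * (Pᵀ * S * P) * T = Pᵀ * S * P := by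
    calc Tᵀ * (Pᵀ * S * P) * T = (P * T)ᵀ * S * (P * T) := by simp only [Matrix.transpose_mul, Matrix.mul_assoc]
      _ = Pᵀ * ((ρ g)ᵀ * S * ρ g) * P := by rw [← hAP]; simp only [Matrix.transpose_mul, Matrix.mul_assoc]
      _ = _ := by rw [R.pres]
  obtain ⟨HP, HM, HR, hH, uP, uM, uR, sP, sM, sR, iP, iM, iR⟩ :=
    block_diag R.two R.sq m.u1 m.u2 hHu hsym hinv
  exact ⟨uP.unit, uM.unit, HR, ⟨⟨sP, iP⟩, ⟨sM, iM⟩, uR, sR, iR, P, Q, hPQ, hQP, hAP, hH⟩⟩

omit R

/-- The sign of a block form at an exponent of parity `s`. -/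
noncomputable def sgn {a : ℕ} (d : Fin a → ℕ) (hd : ∀ k, 1 ≤ d k) (s : ℕ) (H : GL (Ix d) F) (D : ℕ) : Bool :=
  if h : D ∈ Finset.univ.image d ∧ D % 2 = s then decide (IsSquare (G d hd H ⟨D, h.1⟩).det) else false

theorem sgn_false_of_ne {a : ℕ} (d : Fin a → ℕ) (hd : ∀ k, 1 ≤ d k) (s : ℕ) (H : GL (Ix d) F) {D : ℕ}
    (h : D % 2 ≠ s ∨ Fintype.card {k // d k = D} = 0) : sgn d hd s H D = false := by
  refine dif_neg fun hc => ?_
  rcases h with h | h
  · exact h hc.2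
  · obtain ⟨k, -, hk⟩ := Finset.mem_image.1 hc.1
    exact (Fintype.card_eq_zero_iff.1 h).false ⟨k, hk⟩

/-- Parities of the symmetric blocks. -/
def SignParity (ε : F) (s : ℕ) : Prop := (ε = -1 ∧ s = 0) ∨ (ε = 1 ∧ s = 1)

theorem block_sign {a : ℕ} (d : Fin a → ℕ) (hd : ∀ k, 1 ≤ d k) {ε : F} {s : ℕ} (hs : SignParity ε s)
    {H : GL (Ix d) F} (hH : UnipCls.IsForm d ε H) (D : ↥(Finset.univ.image d)) :
    ((D : ℕ) % 2 = s → (G d hd H D)ᵀ = G d hd H D) ∧ ((D : ℕ) % 2 ≠ s → (G d hd H D)ᵀ = -G d hd H D) := by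
  have h := ad_G d hd (RingHom.id F) ε H hH.symm hH.pres D
  change (G d hd H D)ᵀ = _ at h
  have hD : 1 ≤ (D : ℕ) := by
    obtain ⟨x, -, hx⟩ := Finset.mem_image.mp D.2
    have := hd x; omega
  rcases hs with ⟨rfl, rfl⟩ | ⟨rfl, rfl⟩
  · refine ⟨fun hm => ?_, fun hm => ?_⟩
    · rw [h, Odd.neg_one_pow (Nat.odd_iff.2 (by omega)), neg_mul_neg, one_mul, one_smul]
    · rw [h, Even.neg_one_pow (Nat.even_iff.2 (by omega)), mul_one, neg_one_smul]
  · refine ⟨fun hm => ?_, fun hm => ?_⟩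
    · rw [h, Even.neg_one_pow (Nat.even_iff.2 (by omega)), mul_one, one_smul]
    · rw [h, Odd.neg_one_pow (Nat.odd_iff.2 (by omega)), one_mul, neg_one_smul]

theorem even_card_block (h2 : (2 : F) ≠ 0) {a : ℕ} (d : Fin a → ℕ) (hd : ∀ k, 1 ≤ d k) {ε : F} {s : ℕ}
    (hs : SignParity ε s) {H : GL (Ix d) F} (hH : UnipCls.IsForm d ε H) {D : ℕ} (hD : D % 2 ≠ s) :
    Even (Fintype.card {k // d k = D}) := by
  by_cases h : D ∈ Finset.univ.image d
  · have hG := (block_sign d hd hs hH ⟨D, h⟩).2 hD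
    have hu := (Matrix.isUnit_iff_isUnit_det _).1 (isUnit_G d hd (RingHom.id F) H hH.pres ⟨D, h⟩)
    have h1 := congrArg Matrix.det hG
    rw [Matrix.det_transpose, Matrix.det_neg] at h1
    rcases Nat.even_or_odd (Fintype.card {k // d k = D}) with he | ho
    · exact he
    · exfalso
      rw [show Fintype.card (Fb d ⟨D, h⟩) = Fintype.card {k // d k = D} from rfl, ho.neg_one_pow] at h1
      exact hu.ne_zero ((mul_eq_zero.1 (show (2 : F) * (G d hd H ⟨D, h⟩).det = 0 by linear_combination h1)).resolve_left h2)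
  · rw [Fintype.card_eq_zero_iff.2 ⟨fun k : {k // d k = D} => h (Finset.mem_image.2 ⟨k.1, Finset.mem_univ _, k.2⟩)⟩]
    exact ⟨0, rfl⟩

/-- Equal signs give congruent block forms. -/
theorem congr_of_sgn (h2 : (2 : F) ≠ 0) {a : ℕ} (d : Fin a → ℕ) (hd : ∀ k, 1 ≤ d k) {ε : F} {s : ℕ}
    (hs : SignParity ε s) {H H' : GL (Ix d) F} (hH : UnipCls.IsForm d ε H) (hH' : UnipCls.IsForm d ε H')
    (D : ↥(Finset.univ.image d)) (he : sgn d hd s H D = sgn d hd s H' D) :
    ∃ B : Matrix (Fb d D) (Fb d D) F, IsUnit B ∧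
      ad (RingHom.id F) B * G d hd H D * B = G d hd H' D := by
  obtain ⟨k₀, -, hk₀⟩ := Finset.mem_image.mp D.2
  haveI : Nonempty (Fb d D) := ⟨⟨k₀, hk₀⟩⟩
  have u := isUnit_G d hd (RingHom.id F) H hH.pres D
  have u' := isUnit_G d hd (RingHom.id F) H' hH'.pres D
  by_cases hp : (D : ℕ) % 2 = s
  · refine UnipCls.exists_congr_symm h2 _ _ ((block_sign d hd hs hH D).1 hp) ((block_sign d hd hs hH' D).1 hp) u u' ?_
    simp only [sgn, dif_pos (And.intro D.2 hp), decide_eq_decide] at he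
    exact he
  · exact UnipCls.exists_congr_alt h2 _ _ ((block_sign d hd hs hH D).2 hp) ((block_sign d hd hs hH' D).2 hp) u u'

theorem congr_form (h2 : (2 : F) ≠ 0) {a : ℕ} (d : Fin a → ℕ) (hd : ∀ k, 1 ≤ d k) {ε : F} (hε : ε * ε = 1) {s : ℕ}
    (hs : SignParity ε s) {H H' : GL (Ix d) F} (hH : UnipCls.IsForm d ε H) (hH' : UnipCls.IsForm d ε H')
    (he : ∀ D, sgn d hd s H D = sgn d hd s H' D) :
    ∃ Y : Matrix (Ix d) (Ix d) F, IsUnit Y ∧ Y * (1 + Jordan.NT F d) = (1 + Jordan.NT F d) * Y ∧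
      Yᵀ * (H : Matrix (Ix d) (Ix d) F) * Y = H' := by
  obtain ⟨y, hy, e⟩ := UnipCls.exists_congr d hd hε h2 hH hH' fun D => congr_of_sgn h2 d hd hs hH hH' D (he D)
  exact ⟨y.1, UnipCls.isUnit_val d hy, UnipCls.comm_T d y, e⟩

theorem det_congr_iff (h2 : (2 : F) ≠ 0) {κ : Type} [Fintype κ] [DecidableEq κ] {Y H H' : Matrix κ κ F}
    (hY : IsUnit Y) (hH : IsUnit H) (e : Yᵀ * H * Y = H') : IsSquare H'.det ↔ IsSquare H.det := by
  rw [← e, Matrix.det_mul, Matrix.det_mul, Matrix.det_transpose]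
  exact isSquare_sq_mul h2 ((Matrix.isUnit_iff_isUnit_det _).1 hY).ne_zero
    ((Matrix.isUnit_iff_isUnit_det _).1 hH).ne_zero

/-- For symmetric forms the signs of all but one exponent and the determinant determine the last. -/
theorem sgn_of_det (h2 : (2 : F) ≠ 0) {a : ℕ} (d : Fin a → ℕ) (hd : ∀ k, 1 ≤ d k) {H H' : GL (Ix d) F}
    (hH : UnipCls.IsForm d (1 : F) H) (hH' : UnipCls.IsForm d (1 : F) H') (D₀ : ℕ)
    (he : ∀ D, D ≠ D₀ → sgn d hd 1 H D = sgn d hd 1 H' D)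
    (hdet : IsSquare (H : Matrix (Ix d) (Ix d) F).det ↔ IsSquare (H' : Matrix (Ix d) (Ix d) F).det) :
    sgn d hd 1 H D₀ = sgn d hd 1 H' D₀ := by
  by_cases h : D₀ ∈ Finset.univ.image d ∧ D₀ % 2 = 1
  · simp only [sgn, dif_pos h, decide_eq_decide]
    by_contra hne
    exact det_flip d hd h2 hH hH' ⟨D₀, h.1⟩ (Nat.odd_iff.2 h.2) (fun D hD =>
      congr_of_sgn h2 d hd (Or.inr ⟨rfl, rfl⟩) hH hH' D (he D fun e => hD (Subtype.ext e))) hne hdet
  · simp only [sgn, dif_neg h]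

theorem iff_aux {p p' m m' r r' : Prop} (h : ((p' ↔ m') ↔ r') ↔ ((p ↔ m) ↔ r)) (e : r' ↔ r) :
    (p ↔ p') ↔ (m ↔ m') := by
  by_cases p <;> by_cases p' <;> by_cases m <;> by_cases m' <;> by_cases r <;> simp_all

include R

theorem isConj_of_congr {f : ℕ → F[X]} {m : Model f} {g g' : Γ} {HP HP' HM HM' HR HR'}
    (h : Adapted m ε S (ρ g) HP HM HR) (h' : Adapted m ε S (ρ g') HP' HM' HR')
    {s : ℕ} (hs : SignParity ε s) (eP : ∀ D, sgn m.dP m.hP s HP D = sgn m.dP m.hP s HP' D)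
    (eM : ∀ D, sgn m.dM m.hM s HM D = sgn m.dM m.hM s HM' D) : IsConj g g' := by
  obtain ⟨YP, uP, cP, hP⟩ := congr_form R.two m.dP m.hP R.sq hs h.formP h'.formP eP
  obtain ⟨YM, uM, cM, hM⟩ := congr_form R.two m.dM m.hM R.sq hs h.formM h'.formM eM
  obtain ⟨YR, uR, cR, hR⟩ := exists_congr_rest m.u1 m.u2 R.sq h.unitR h'.unitR h.symR h'.symR h.invR h'.invR
  set X : Matrix m.Idx m.Idx F := Matrix.fromBlocks (Matrix.fromBlocks YP 0 0 YM) 0 0 YR with hX
  have hXu : IsUnit X := by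
    rw [Matrix.isUnit_iff_isUnit_det, hX, Matrix.det_fromBlocks_zero₂₁, Matrix.det_fromBlocks_zero₂₁]
    exact (((Matrix.isUnit_iff_isUnit_det _).1 uP).mul ((Matrix.isUnit_iff_isUnit_det _).1 uM)).mul
      ((Matrix.isUnit_iff_isUnit_det _).1 uR)
  obtain ⟨Xi, hXi⟩ := hXu.exists_right_inv
  have hXi' : Xi * X = 1 := mul_eq_one_comm.mp hXi
  obtain ⟨P, Q, hPQ, hQP, hA, hH⟩ := h.basis
  obtain ⟨P', Q', hPQ', hQP', hA', hH'⟩ := h'.basis
  set T := Tm m.dP m.dM m.M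
  have hXT : X * T = T * X := by
    simp only [X, T, Tm, Matrix.fromBlocks_multiply, Matrix.mul_zero, Matrix.zero_mul, add_zero, zero_add,
      Matrix.mul_neg, Matrix.neg_mul, neg_zero, cP, cM, cR]
  have hXH : Xᵀ * (Pᵀ * S * P) * X = P'ᵀ * S * P' := by
    rw [hH, hH']
    simp only [X, Matrix.fromBlocks_transpose, Matrix.transpose_zero, Matrix.fromBlocks_multiply, Matrix.mul_zero,
      Matrix.zero_mul, add_zero, zero_add, hP, hM, hR]
  have hXiT : Xi * T = T * Xi := by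
    calc Xi * T = Xi * (T * X) * Xi := by rw [Matrix.mul_assoc, Matrix.mul_assoc T, hXi, Matrix.mul_one]
      _ = Xi * (X * T) * Xi := by rw [hXT]
      _ = _ := by rw [← Matrix.mul_assoc Xi, hXi', Matrix.one_mul]
  set C := P' * Xi * Q
  have hC : Cᵀ * S * C = S := by
    calc Cᵀ * S * C = Qᵀ * (Xiᵀ * (P'ᵀ * S * P') * Xi) * Q := by simp only [C, Matrix.transpose_mul, Matrix.mul_assoc]
      _ = Qᵀ * ((X * Xi)ᵀ * (Pᵀ * S * P) * (X * Xi)) * Q := by
        rw [← hXH]; simp only [Matrix.transpose_mul, Matrix.mul_assoc]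
      _ = (P * Q)ᵀ * S * (P * Q) := by
        rw [hXi, Matrix.transpose_one, Matrix.one_mul, Matrix.mul_one]; simp only [Matrix.transpose_mul, Matrix.mul_assoc]
      _ = S := by rw [hPQ, Matrix.transpose_one, Matrix.one_mul, Matrix.mul_one]
  obtain ⟨c, hc⟩ := R.range C hC
  refine isConj_iff.2 ⟨c, R.inj ?_⟩
  have hQA : Q * ρ g = T * Q := by
    calc Q * ρ g = Q * ρ g * (P * Q) := by rw [hPQ, Matrix.mul_one]
      _ = Q * (ρ g * P) * Q := by simp only [Matrix.mul_assoc]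
      _ = _ := by rw [hA, ← Matrix.mul_assoc Q, hQP, Matrix.one_mul]
  have h1 : C * ρ g = ρ g' * C := by
    calc C * ρ g = P' * (Xi * T) * Q := by simp only [C, Matrix.mul_assoc, hQA]
      _ = (P' * T) * (Xi * Q) := by rw [hXiT]; simp only [Matrix.mul_assoc]
      _ = _ := by rw [← hA']; simp only [C, Matrix.mul_assoc]
  have h2 : ρ c * ρ c⁻¹ = 1 := by rw [← map_mul, mul_inv_cancel, map_one]
  rw [map_mul, map_mul, hc, h1, Matrix.mul_assoc, ← hc, h2, Matrix.mul_one]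

theorem det_parts {f : ℕ → F[X]} {m : Model f} {g g' : Γ} {HP HP' HM HM' HR HR'}
    (h : Adapted m ε S (ρ g) HP HM HR) (h' : Adapted m ε S (ρ g') HP' HM' HR') :
    (IsSquare (HP : Matrix (Ix m.dP) (Ix m.dP) F).det ↔ IsSquare (HP' : Matrix (Ix m.dP) (Ix m.dP) F).det) ↔
      (IsSquare (HM : Matrix (Ix m.dM) (Ix m.dM) F).det ↔ IsSquare (HM' : Matrix (Ix m.dM) (Ix m.dM) F).det) := by
  obtain ⟨P, Q, hPQ, hQP, -, hH⟩ := h.basis
  obtain ⟨P', Q', hPQ', hQP', -, hH'⟩ := h'.basis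
  obtain ⟨YR, uR, -, hR⟩ := exists_congr_rest m.u1 m.u2 R.sq h.unitR h'.unitR h.symR h'.symR h.invR h'.invR
  have eR := det_congr_iff R.two uR h.unitR hR
  have nz : ∀ {κ : Type} [Fintype κ] [DecidableEq κ] {K : Matrix κ κ F}, IsUnit K → K.det ≠ 0 :=
    fun hK => ((Matrix.isUnit_iff_isUnit_det _).1 hK).ne_zero
  have step : P'ᵀ * S * P' = (Q * P')ᵀ * (Pᵀ * S * P) * (Q * P') := by
    calc P'ᵀ * S * P' = ((P * Q) * P')ᵀ * S * ((P * Q) * P') := by rw [hPQ, Matrix.one_mul]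
      _ = _ := by simp only [Matrix.transpose_mul, Matrix.mul_assoc]
  have hu : IsUnit (Q * P') := IsUnit.of_mul_eq_one (Q' * P) (by
    rw [Matrix.mul_assoc, ← Matrix.mul_assoc P', hPQ', Matrix.one_mul, hQP])
  have hHu : IsUnit (Pᵀ * S * P) := by
    rw [hH, Matrix.isUnit_iff_isUnit_det, Matrix.det_fromBlocks_zero₂₁, Matrix.det_fromBlocks_zero₂₁]
    exact (((Matrix.isUnit_iff_isUnit_det _).1 HP.isUnit).mul ((Matrix.isUnit_iff_isUnit_det _).1 HM.isUnit)).mul
      ((Matrix.isUnit_iff_isUnit_det _).1 h.unitR)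
  have tot := det_congr_iff R.two hu hHu step.symm
  rw [hH, hH', Matrix.det_fromBlocks_zero₂₁, Matrix.det_fromBlocks_zero₂₁, Matrix.det_fromBlocks_zero₂₁,
    Matrix.det_fromBlocks_zero₂₁,
    isSquare_mul_iff R.two (mul_ne_zero (nz HP'.isUnit) (nz HM'.isUnit)) (nz h'.unitR),
    isSquare_mul_iff R.two (nz HP'.isUnit) (nz HM'.isUnit),
    isSquare_mul_iff R.two (mul_ne_zero (nz HP.isUnit) (nz HM.isUnit)) (nz h.unitR),
    isSquare_mul_iff R.two (nz HP.isUnit) (nz HM.isUnit)] at tot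
  exact iff_aux tot eR

/-- The signs of an element with respect to the model of its tuple. -/
noncomputable def sigOf (s : ℕ) (f : ℕ → F[X]) (g : Γ) (hg : tup R g = f) (D : ℕ) : Bool × Bool :=
  (sgn (model R f ⟨g, hg⟩).dP (model R f ⟨g, hg⟩).hP s (exists_adapted R (model R f ⟨g, hg⟩) hg).choose D,
   sgn (model R f ⟨g, hg⟩).dM (model R f ⟨g, hg⟩).hM s
    (exists_adapted R (model R f ⟨g, hg⟩) hg).choose_spec.choose D)

/-- The data of an element. -/
noncomputable def dat (s : ℕ) (g : Γ) (D : ℕ) : Datum F := (tup R g D, sigOf R s (tup R g) g rfl D)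

theorem dat_eq (s : ℕ) {f : ℕ → F[X]} (g : Γ) (hg : tup R g = f) (D : ℕ) :
    dat R s g D = (f D, sigOf R s f g hg D) := by
  subst hg; rfl

theorem isConj_of_dat {s : ℕ} (hs : SignParity ε s) {g g' : Γ} (he : dat R s g = dat R s g') : IsConj g g' := by
  have hf : tup R g' = tup R g := funext fun D => (congrArg Prod.fst (congrFun he D)).symm
  have h := fun D => congrArg Prod.snd ((congrFun he D).trans (dat_eq R s g' hf D))
  exact isConj_of_congr R (exists_adapted R (model R (tup R g) ⟨g, rfl⟩) rfl).choose_spec.choose_spec.choose_spec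
    (exists_adapted R (model R (tup R g) ⟨g, rfl⟩) hf).choose_spec.choose_spec.choose_spec hs
    (fun D => congrArg Prod.fst (h D)) (fun D => congrArg Prod.snd (h D))

theorem dat_adm {s : ℕ} (hs : SignParity ε s) (g : Γ) (w : ℕ) : dat R s g w ∈ admSet (F := F) s w := by
  set m := model R (tup R g) ⟨g, rfl⟩
  have hA := (exists_adapted R m (g := g) rfl).choose_spec.choose_spec.choose_spec
  refine ⟨isRec_tup R g w, ?_⟩
  have pos : ∀ (c : F), (tup R g w).rootMultiplicity c ≠ 0 → (tup R g w).IsRoot c := fun c h =>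
    ((rootMultiplicity_pos (isRec_tup R g w).1.ne_zero).1 (Nat.pos_of_ne_zero h))
  split_ifs with hw
  · refine ⟨fun hb => pos 1 fun h0 => ?_, fun hb => pos (-1) fun h0 => ?_⟩
    · rw [show (dat R s g w).2.1 = false from sgn_false_of_ne _ _ _ _ (Or.inr ((m.cP w).trans h0))] at hb
      exact Bool.false_ne_true hb
    · rw [show (dat R s g w).2.2 = false from sgn_false_of_ne _ _ _ _ (Or.inr ((m.cM w).trans h0))] at hb
      exact Bool.false_ne_true hb
  · have h1 := even_card_block R.two m.dP m.hP hs hA.formP hw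
    have h2 := even_card_block R.two m.dM m.hM hs hA.formM hw
    rw [m.cP] at h1
    rw [m.cM] at h2
    exact ⟨((isRec_tup R g w).even_data R.two h1 h2).1, ((isRec_tup R g w).even_data R.two h1 h2).2,
      sgn_false_of_ne _ _ _ _ (Or.inl hw), sgn_false_of_ne _ _ _ _ (Or.inl hw)⟩

theorem dat_mem {s : ℕ} (hs : SignParity ε s) (g : Γ) {ws : List ℕ} (hnd : ws.Nodup)
    (hws : ∀ i, 1 ≤ i → i ≤ Fintype.card ι → i ∈ ws) :
    dat R s g ∈ choiceSet (admSet (F := F) s) (1, false, false) (fun x => x.1.natDegree) ws (Fintype.card ι) := by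
  obtain ⟨hok, -, hdeg⟩ := prs_spec R g
  have hmem : ∀ x ∈ prs R g, x.2 ∈ ws := fun x hx => hws _ (hok x hx).2.2.1 (hdeg ▸ le_pdeg hok hx)
  refine ⟨fun i hi => ?_, fun i _ => dat_adm R hs g i, (sum_weight_tupOf hok hnd hmem).trans hdeg⟩
  have h1 : tup R g i = 1 := tupOf_eq_one fun x hx e => hi (e ▸ hmem x hx)
  refine Prod.ext h1 (Prod.ext ?_ ?_)
  · exact sgn_false_of_ne _ _ _ _ (Or.inr (((model R (tup R g) ⟨g, rfl⟩).cP i).trans (by rw [h1]; simp)))
  · exact sgn_false_of_ne _ _ _ _ (Or.inr (((model R (tup R g) ⟨g, rfl⟩).cM i).trans (by rw [h1]; simp)))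

end Cfsg.Agent.SpOClassCount
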