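import Cfsg.Agent.Lib.SpOClassCount.Model
import Cfsg.Agent.Lib.Forms.IsoConj
import Cfsg.Agent.Lib.Forms.UnipotentModels
/-!
Invariant forms of the model: `block_diag`, and `exists_congr_rest` away from the eigenvalues `1`, `-1`.
-/
set_option autoImplicit false
set_option linter.unusedVariables false
set_option linter.unusedSectionVars false

open scoped Classical

namespace Cfsg.Agent.SpOClassCount

open Matrix Cfsg.Agent.Forms Cfsg.Agent.Forms.UnipCent

variable {F : Type*} [Field F] [Finite F]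

theorem exists_congr_rest {r : ℕ} {M : Matrix (Fin r) (Fin r) F} (h1 : IsUnit (M - 1)) (h2 : IsUnit (M + 1))
    {ε : F} (hε : ε * ε = 1) {H H' : Matrix (Fin r) (Fin r) F} (hH : IsUnit H) (hH' : IsUnit H')
    (hs : Hᵀ = ε • H) (hs' : H'ᵀ = ε • H') (hi : Mᵀ * H * M = H) (hi' : Mᵀ * H' * M = H') :
    ∃ X : Matrix (Fin r) (Fin r) F, IsUnit X ∧ X * M = M * X ∧ Xᵀ * H * X = H' := by
  have hMu : IsUnit M := by
    rw [Matrix.isUnit_iff_isUnit_det]
    have h0 := congrArg Matrix.det hi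
    rw [Matrix.det_mul] at h0
    refine isUnit_of_mul_isUnit_right (x := (Mᵀ * H).det) ?_
    rw [h0]
    exact (Matrix.isUnit_iff_isUnit_det _).1 hH
  obtain ⟨M', hM'⟩ := hMu.exists_right_inv
  have hM'' : M' * M = 1 := mul_eq_one_comm.mp hM'
  let A : (Fin r → F) ≃ₗ[F] (Fin r → F) := LinearEquiv.ofLinear (Matrix.toLin' M) (Matrix.toLin' M')
    (by rw [← Matrix.toLin'_mul, hM', Matrix.toLin'_one]) (by rw [← Matrix.toLin'_mul, hM'', Matrix.toLin'_one])
  have hAv : ∀ v, A v = M *ᵥ v := fun v => rfl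
  haveI : Finite ((Fin r → F) ≃ₗ[F] (Fin r → F)) :=
    Finite.of_injective (fun e => (e : (Fin r → F) → (Fin r → F))) DFunLike.coe_injective
  have hpos := orderOf_pos A
  have sym : ∀ K : Matrix (Fin r) (Fin r) F, Kᵀ = ε • K → ∀ u v,
      Matrix.toLinearMap₂' F K u v = ε * Matrix.toLinearMap₂' F K v u := fun K hK u v => by
    rw [Matrix.toLinearMap₂'_apply', Matrix.toLinearMap₂'_apply', Matrix.dotProduct_mulVec v,
      ← Matrix.mulVec_transpose, hK, Matrix.smul_mulVec, smul_dotProduct, smul_eq_mul,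
      ← mul_assoc, hε, one_mul, dotProduct_comm]
  have inv : ∀ K : Matrix (Fin r) (Fin r) F, Mᵀ * K * M = K → ∀ u v,
      Matrix.toLinearMap₂' F K (A u) (A v) = Matrix.toLinearMap₂' F K u v := fun K hK u v => by
    rw [hAv, hAv, Matrix.toLinearMap₂'_apply', Matrix.toLinearMap₂'_apply']
    conv_rhs => rw [← hK]
    rw [← Matrix.mulVec_mulVec, ← Matrix.mulVec_mulVec, Matrix.dotProduct_mulVec _ Mᵀ, Matrix.vecMul_transpose]
  obtain ⟨x, hxA, hxB⟩ := exists_norm_intertwiner (Matrix.toLinearMap₂' F H) (Matrix.toLinearMap₂' F H')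
    (Unip.toLinearMap₂'_nondegenerate ((Matrix.isUnit_iff_isUnit_det _).1 hH))
    (Unip.toLinearMap₂'_nondegenerate ((Matrix.isUnit_iff_isUnit_det _).1 hH')) hε (sym H hs) (sym H' hs') A
    (N := orderOf A - 1) (by rw [Nat.sub_add_cancel hpos, pow_orderOf_eq_one]) (inv H hi) (inv H' hi')
    (fun v hv => by
      rw [hAv, hAv] at hv
      have h12 : IsUnit ((M - 1) * (M + 1)) := h1.mul h2
      refine (Matrix.mulVec_injective_iff_isUnit.2 h12) ?_
      rw [Matrix.mulVec_zero, show (M - 1) * (M + 1) = M * M - 1 by noncomm_ring, Matrix.sub_mulVec,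
        ← Matrix.mulVec_mulVec, hv, Matrix.one_mulVec, sub_self])
  refine ⟨LinearMap.toMatrix' (x : (Fin r → F) →ₗ[F] (Fin r → F)), ?_, ?_, UnipCls.congr_of_equiv H H' x hxB⟩
  · exact IsUnit.of_mul_eq_one (LinearMap.toMatrix' (x.symm : (Fin r → F) →ₗ[F] (Fin r → F)))
      (by rw [← LinearMap.toMatrix'_comp, x.comp_symm, LinearMap.toMatrix'_id])
  · refine Matrix.toLin'.injective (LinearMap.ext fun v => ?_)
    rw [Matrix.toLin'_mul, Matrix.toLin'_mul, Matrix.toLin'_toMatrix']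
    exact hxA v

/-- An invariant form of the model is block diagonal. -/
theorem block_diag (h2 : (2 : F) ≠ 0) {ε : F} (hε : ε * ε = 1) {a b r : ℕ} {dP : Fin a → ℕ} {dM : Fin b → ℕ}
    {M : Matrix (Fin r) (Fin r) F} (h1 : IsUnit (M - 1)) (h1' : IsUnit (M + 1))
    {H : Matrix ((Ix dP ⊕ Ix dM) ⊕ Fin r) ((Ix dP ⊕ Ix dM) ⊕ Fin r) F} (hH : IsUnit H) (hs : Hᵀ = ε • H)
    (hi : (Tm dP dM M)ᵀ * H * Tm dP dM M = H) :
    ∃ (HP : Matrix (Ix dP) (Ix dP) F) (HM : Matrix (Ix dM) (Ix dM) F) (HR : Matrix (Fin r) (Fin r) F),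
      H = Matrix.fromBlocks (Matrix.fromBlocks HP 0 0 HM) 0 0 HR ∧ IsUnit HP ∧ IsUnit HM ∧ IsUnit HR ∧
      HPᵀ = ε • HP ∧ HMᵀ = ε • HM ∧ HRᵀ = ε • HR ∧
      (1 + Jordan.NT F dP)ᵀ * HP * (1 + Jordan.NT F dP) = HP ∧
      (1 + Jordan.NT F dM)ᵀ * HM * (1 + Jordan.NT F dM) = HM ∧ Mᵀ * HR * M = HR := by
  set NP := Jordan.NT F dP
  set NM := Jordan.NT F dM
  have hPn : NP ^ (Finset.univ.sup dP) = 0 := (Jordan.NT_pow_eq_zero_iff _ _).2 fun k => Finset.le_sup (Finset.mem_univ k)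
  have hMn : NM ^ (Finset.univ.sup dM) = 0 := (Jordan.NT_pow_eq_zero_iff _ _).2 fun k => Finset.le_sup (Finset.mem_univ k)
  obtain ⟨A, B, C, HR, rfl⟩ : ∃ A B C D, H = Matrix.fromBlocks A B C D :=
    ⟨_, _, _, _, (Matrix.fromBlocks_toBlocks H).symm⟩
  obtain ⟨HP, X, Y, HM, rfl⟩ : ∃ A' B' C' D', A = Matrix.fromBlocks A' B' C' D' :=
    ⟨_, _, _, _, (Matrix.fromBlocks_toBlocks A).symm⟩
  obtain ⟨b1, b2, rfl⟩ : ∃ b1 b2, B = Matrix.fromRows b1 b2 :=
    ⟨_, _, (Matrix.fromRows_toRows B).symm⟩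
  simp only [Tm, Matrix.fromBlocks_transpose, Matrix.transpose_zero, Matrix.fromBlocks_multiply, Matrix.mul_zero,
    Matrix.zero_mul, add_zero, zero_add, Matrix.fromBlocks_mul_fromRows, Matrix.fromRows_mul,
    Matrix.fromBlocks_inj, Matrix.fromRows_inj.eq_iff] at hi
  simp only [Matrix.fromBlocks_transpose, Matrix.fromBlocks_smul, Matrix.fromBlocks_inj] at hs
  obtain ⟨⟨eP, eX, eY, eM⟩, eB, eC, eR⟩ := hi
  obtain ⟨⟨sP, sY, sX, sM⟩, sC, sB, sR⟩ := hs
  have hb1 : b1 = 0 := by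
    refine offdiag_zero hPn (B := M) h1 ?_
    exact eB.1
  have hb2 : b2 = 0 := by
    refine offdiag_zero hMn (B := -M) ?_ ?_
    · rw [show -M - 1 = -(M + 1) by abel]; exact h1'.neg
    · have := eB.2
      rw [Matrix.transpose_neg, Matrix.neg_mul, Matrix.neg_mul] at this
      rw [Matrix.mul_neg]; exact this
  have hX : X = 0 := by
    refine offdiag_zero hPn (B := -(1 + NM)) ?_ ?_
    · rw [show -(1 + NM) - 1 = -(algebraMap F (Matrix (Ix dM) (Ix dM) F) 2 + NM) by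
        rw [map_ofNat, show (2 : Matrix (Ix dM) (Ix dM) F) = 1 + 1 from one_add_one_eq_two.symm]; abel]
      exact (IsNilpotent.isUnit_add_left_of_commute (⟨_, hMn⟩ : IsNilpotent NM) ((isUnit_iff_ne_zero.2 h2).map _)
        (Algebra.commutes 2 NM).symm).neg
    · exact eX
  subst hX hb1 hb2
  have hε0 : ε ≠ 0 := left_ne_zero_of_mul_eq_one hε
  rw [Matrix.transpose_zero] at sX
  obtain rfl : Y = 0 := (smul_eq_zero.1 sX.symm).resolve_left hε0
  rw [Matrix.fromRows_zero, Matrix.transpose_zero] at sB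
  obtain rfl : C = 0 := (smul_eq_zero.1 sB.symm).resolve_left hε0
  simp only [Matrix.fromRows_zero] at hH ⊢
  have hd := (Matrix.isUnit_iff_isUnit_det _).1 hH
  rw [Matrix.det_fromBlocks_zero₂₁, Matrix.det_fromBlocks_zero₂₁, IsUnit.mul_iff, IsUnit.mul_iff] at hd
  refine ⟨HP, HM, HR, rfl, (Matrix.isUnit_iff_isUnit_det _).2 hd.1.1, (Matrix.isUnit_iff_isUnit_det _).2 hd.1.2,
    (Matrix.isUnit_iff_isUnit_det _).2 hd.2, sP, sM, sR, eP, ?_, eR⟩
  simpa only [Matrix.transpose_neg, Matrix.neg_mul, Matrix.mul_neg, neg_neg] using eM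

end Cfsg.Agent.SpOClassCount
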