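import Cfsg.Agent.Lib.SpOClassCount.Data
/-!
# Upper bounds for the numbers of classes

* `card_classes_symp_le` : `5 k ≤ 54 q^n` for `ε = -1`;
* `card_classes_orth_le` : `2 k ≤ 19 q^n` for `ε = 1`.
-/
set_option autoImplicit false
set_option linter.unusedVariables false
set_option linter.unusedSectionVars false

open scoped Classical

namespace Cfsg.Agent.SpOClassCount

open Polynomial SLComm

variable {F : Type*} [Field F] [Finite F] {ι : Type} [Fintype ι] [DecidableEq ι] {Γ : Type*} [Group Γ]
  {ε : F} {S : Matrix ι ι F} {ρ : Γ →* Matrix ι ι F} {n : ℕ}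

/-- All exponents up to a bound, one first. -/
def expList (n : ℕ) : List ℕ := 1 :: downTwo (max (2 * n) 20)

theorem expList_nodup (n : ℕ) : (expList n).Nodup :=
  List.nodup_cons.2 ⟨fun h => by have := two_le_mem_downTwo h; omega, (downTwo_nodup _).1⟩

theorem mem_expList {n i : ℕ} (h1 : 1 ≤ i) (h2 : i ≤ 2 * n) : i ∈ expList n := by
  rcases eq_or_lt_of_le h1 with h | h
  · subst h; exact List.mem_cons_self
  · exact List.mem_cons_of_mem _ (((downTwo_nodup _).2 i).2 ⟨h, le_trans h2 (le_max_left _ _)⟩)

theorem expList_pos (n : ℕ) : ∀ w ∈ expList n, 0 < w := by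
  intro w hw
  rcases List.mem_cons.1 hw with rfl | hw
  · exact one_pos
  · have := two_le_mem_downTwo hw; omega

/-- The set of all data of parity `s`. -/
def datSet (F : Type*) [Field F] (s n : ℕ) : Set (ℕ → Datum F) :=
  choiceSet (admSet (F := F) s) (1, false, false) (fun x => x.1.natDegree) (expList n) (2 * n)

theorem datSet_card (h2 : (2 : F) ≠ 0) (s n : ℕ) :
    (datSet F s n).Finite ∧ (datSet F s n).ncard ≤ wcnt (scoef s (Nat.card F)) (expList n) (2 * n) :=
  choiceSet_card _ _ _ _ (fun w j => admSet_card h2 s w j) _ (expList_nodup n) (expList_pos n) _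

theorem three_le_card (h2 : (2 : F) ≠ 0) : 3 ≤ Nat.card F := by
  haveI := Fintype.ofFinite F
  rw [Nat.card_eq_fintype_card]
  refine Finset.card_univ (α := F) ▸ le_trans (le_of_eq ?_) (Finset.card_le_univ ({0, 1, -1} : Finset F))
  rw [Finset.card_insert_of_notMem, Finset.card_insert_of_notMem, Finset.card_singleton]
  · simp only [Finset.mem_singleton]
    exact fun h => h2 (by linear_combination h)
  · simp

section

variable (R : IsRep ε S ρ) (hι : Fintype.card ι = 2 * n)
include R hι

theorem dat_mem_datSet {s : ℕ} (hs : SignParity ε s) (g : Γ) : dat R s g ∈ datSet F s n := by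
  have h := dat_mem R hs g (expList_nodup n) fun i h1 h2 => mem_expList h1 (hι ▸ h2)
  rwa [hι] at h

theorem finite_group : Finite Γ :=
  haveI : Finite (Matrix ι ι F) := inferInstanceAs (Finite (ι → ι → F))
  Finite.of_injective ρ R.inj

/-- The bound for `Sp`. -/
theorem card_classes_symp_le (hε : ε = -1) :
    5 * Nat.card (ConjClasses Γ) ≤ 54 * Nat.card F ^ n := by
  haveI := finite_group R hι
  have hs : SignParity ε 0 := Or.inl ⟨hε, rfl⟩
  let Φ : ConjClasses Γ → (ℕ → Datum F) := fun c => dat R 0 c.out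
  have hinj : Function.Injective Φ := fun c d he => by
    rw [← Quotient.out_eq c, ← Quotient.out_eq d]
    exact Quotient.sound (isConj_of_dat R hs he)
  obtain ⟨hfin, hcard⟩ := datSet_card R.two 0 n
  have h1 : Nat.card (ConjClasses Γ) ≤ (datSet F 0 n).ncard := by
    rw [← Set.ncard_univ, ← Set.ncard_image_of_injective _ hinj]
    refine Set.ncard_le_ncard ?_ hfin
    rintro _ ⟨c, -, rfl⟩
    exact dat_mem_datSet R hι hs _
  exact (Nat.mul_le_mul le_rfl (h1.trans hcard)).trans
    (wcnt_symp_le (three_le_card R.two) (le_max_right _ _))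

end

/-- An odd exponent with a root at `1` or `-1`. -/
def HasMark (f : ℕ → F[X]) : Prop := ∃ e, e % 2 = 1 ∧ ((f e).IsRoot 1 ∨ (f e).IsRoot (-1))

/-- Overwrite the first such sign. -/
noncomputable def setMark (x : ℕ → Datum F) (h : HasMark fun e => (x e).1) (b : Bool) : ℕ → Datum F :=
  Function.update x (Nat.find h)
    ((x (Nat.find h)).1,
      if (x (Nat.find h)).1.IsRoot 1 then (b, (x (Nat.find h)).2.2) else ((x (Nat.find h)).2.1, b))

theorem setMark_fst (x : ℕ → Datum F) (h : HasMark fun e => (x e).1) (b : Bool) (e : ℕ) :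
    (setMark x h b e).1 = (x e).1 := by
  unfold setMark
  by_cases he : e = Nat.find h
  · subst he; rw [Function.update_self]
  · rw [Function.update_of_ne he]

theorem setMark_mem {x : ℕ → Datum F} (hx : x ∈ datSet F 1 n) (h : HasMark fun e => (x e).1) (b : Bool) :
    setMark x h b ∈ datSet F 1 n := by
  obtain ⟨h1, h2, h3⟩ := hx
  obtain ⟨ho, hr⟩ := Nat.find_spec h
  have hmem : Nat.find h ∈ expList n := by
    by_contra hc
    dsimp only at hr
    rw [h1 _ hc] at hr
    simp at hr
  refine ⟨fun i hi => ?_, fun i hi => ?_, ?_⟩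
  · rw [setMark, Function.update_of_ne (fun e : i = Nat.find h => hi (by rw [e]; exact hmem))]
    exact h1 i hi
  · by_cases he : i = Nat.find h
    · subst he
      obtain ⟨hrec, hc⟩ := h2 _ hi
      rw [if_pos ho] at hc
      rw [setMark, Function.update_self]
      refine ⟨hrec, ?_⟩
      rw [if_pos ho]
      dsimp only at hr ⊢
      split_ifs with h1'
      · exact ⟨fun _ => h1', hc.2⟩
      · exact ⟨hc.1, fun _ => hr.resolve_left h1'⟩
    · rw [setMark, Function.update_of_ne he]
      exact h2 i hi
  · rw [← h3]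
    exact congrArg List.sum (List.map_congr_left fun w _ => by simp only [setMark_fst])

section Orth

variable {R : IsRep ε S ρ}

theorem sig_unique (hs : SignParity ε 1) (hε : ε = 1) {g g' : Γ} (e₀ : ℕ) (side : Bool)
    (hf : tup R g' = tup R g) (hne : ∀ e, e ≠ e₀ → dat R 1 g e = dat R 1 g' e)
    (hP : side = false → (dat R 1 g e₀).2.1 = (dat R 1 g' e₀).2.1)
    (hM : side = true → (dat R 1 g e₀).2.2 = (dat R 1 g' e₀).2.2) : IsConj g g' := by
  subst hε
  refine isConj_of_dat R hs (funext fun e => ?_)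
  set m := model R (tup R g) ⟨g, rfl⟩
  obtain hA := (exists_adapted R m (g := g) rfl).choose_spec.choose_spec.choose_spec
  obtain hA' := (exists_adapted R m (g := g') hf).choose_spec.choose_spec.choose_spec
  rw [dat_eq R 1 g rfl, dat_eq R 1 g' hf] at *
  by_cases he : e = e₀
  swap
  · have := hne e he; rwa [dat_eq R 1 g rfl, dat_eq R 1 g' hf] at this
  subst he
  have hd := det_parts R hA hA'
  have others : ∀ D, D ≠ e → sigOf R 1 _ g rfl D = sigOf R 1 _ g' hf D := fun D hD => by
    have := hne D hD
    rw [dat_eq R 1 g rfl, dat_eq R 1 g' hf] at this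
    exact congrArg Prod.snd this
  refine Prod.ext rfl (?_ : sigOf R 1 _ g rfl e = sigOf R 1 _ g' hf e)
  have both : ∀ (a : ℕ) (d : Fin a → ℕ) (hd' : ∀ k, 1 ≤ d k) (H H' : GL (Forms.UnipCent.Ix d) F),
      Forms.UnipCls.IsForm d (1 : F) H → Forms.UnipCls.IsForm d (1 : F) H' →
      (∀ D, sgn d hd' 1 H D = sgn d hd' 1 H' D) →
      (IsSquare (H : Matrix (Forms.UnipCent.Ix d) (Forms.UnipCent.Ix d) F).det ↔
        IsSquare (H' : Matrix (Forms.UnipCent.Ix d) (Forms.UnipCent.Ix d) F).det) := by
    intro a d hd' H H' hH hH' hall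
    obtain ⟨Y, hY, -, e⟩ := congr_form R.two d hd' R.sq hs hH hH' hall
    exact (det_congr_iff R.two hY H.isUnit e).symm
  cases side
  · have hPe : ∀ D, sgn m.dP m.hP 1 _ D = sgn m.dP m.hP 1 _ D := fun D => by
      by_cases hD : D = e
      · subst hD; exact hP rfl
      · exact congrArg Prod.fst (others D hD)
    have hMe := sgn_of_det R.two m.dM m.hM hA.formM hA'.formM e (fun D hD => congrArg Prod.snd (others D hD))
      (hd.1 (both _ m.dP m.hP _ _ hA.formP hA'.formP hPe))
    exact Prod.ext (hPe e) hMe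
  · have hMe : ∀ D, sgn m.dM m.hM 1 _ D = sgn m.dM m.hM 1 _ D := fun D => by
      by_cases hD : D = e
      · subst hD; exact hM rfl
      · exact congrArg Prod.snd (others D hD)
    have hPe := sgn_of_det R.two m.dP m.hP hA.formP hA'.formP e (fun D hD => congrArg Prod.fst (others D hD))
      (hd.2 (both _ m.dM m.hM _ _ hA.formM hA'.formM hMe))
    exact Prod.ext hPe (hMe e)

variable (R) (hι : Fintype.card ι = 2 * n)
include R hι

/-- The bound for `O`. -/
theorem card_classes_orth_le (hε : ε = 1) :
    2 * Nat.card (ConjClasses Γ) ≤ 19 * Nat.card F ^ n := by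
  haveI := finite_group R hι
  have hs : SignParity ε 1 := Or.inr ⟨hε, rfl⟩
  let Φ : ConjClasses Γ → (ℕ → Datum F) := fun c => dat R 1 c.out
  let Ψ : Bool × ConjClasses Γ → (ℕ → Datum F) ⊕ (ℕ → Datum F) := fun x =>
    if h : HasMark fun e => (Φ x.2 e).1 then Sum.inl (setMark (Φ x.2) h x.1)
    else if x.1 then Sum.inl (Φ x.2) else Sum.inr (Φ x.2)
  have hΦ : ∀ c d, Φ c = Φ d → c = d := fun c d he => by
    rw [← Quotient.out_eq c, ← Quotient.out_eq d]
    exact Quotient.sound (isConj_of_dat R hs he)
  have hinj : Function.Injective Ψ := by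
    rintro ⟨b, c⟩ ⟨b', c'⟩ he
    simp only [Ψ] at he
    by_cases h : HasMark fun e => (Φ c e).1 <;> by_cases h' : HasMark fun e => (Φ c' e).1
    · rw [dif_pos h, dif_pos h', Sum.inl.injEq] at he
      have hfst : ∀ e, (Φ c e).1 = (Φ c' e).1 := fun e => by
        rw [← setMark_fst (Φ c) h b e, he, setMark_fst]
      have hfind : Nat.find h' = Nat.find h := Nat.find_congr' (fun {e} => by simp only [hfst e])
      set e₀ := Nat.find h with he₀
      have h0 := congrFun he e₀
      simp only [setMark, hfind, Function.update_self, ← he₀, ← hfst] at h0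
      have hcc : c = c' := by
        rw [← Quotient.out_eq c, ← Quotient.out_eq c']
        refine Quotient.sound (sig_unique hs hε e₀ (decide ((Φ c e₀).1.IsRoot 1)) (funext fun e => (hfst e).symm)
          (fun e hne => ?_) (fun hside => ?_) (fun hside => ?_))
        · have := congrFun he e
          rwa [setMark, setMark, Function.update_of_ne hne, Function.update_of_ne (hfind ▸ hne)] at this
        · rw [if_neg (by simpa using hside), if_neg (by simpa using hside), Prod.mk.injEq, Prod.mk.injEq] at h0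
          exact h0.2.1
        · rw [if_pos (by simpa using hside), if_pos (by simpa using hside), Prod.mk.injEq, Prod.mk.injEq] at h0
          exact h0.2.2
      subst hcc
      refine Prod.ext ?_ rfl
      by_cases hr : (Φ c e₀).1.IsRoot 1
      · rw [if_pos hr, if_pos hr, Prod.mk.injEq, Prod.mk.injEq] at h0; exact h0.2.1
      · rw [if_neg hr, if_neg hr, Prod.mk.injEq, Prod.mk.injEq] at h0; exact h0.2.2
    · exfalso
      rw [dif_pos h, dif_neg h'] at he
      split_ifs at he
      · rw [Sum.inl.injEq] at he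
        refine h' ?_
        have e1 : (fun e => (Φ c' e).1) = fun e => (Φ c e).1 := funext fun e => by
          rw [← he, setMark_fst]
        rw [e1]; exact h
    · exfalso
      rw [dif_neg h, dif_pos h'] at he
      split_ifs at he
      · rw [Sum.inl.injEq] at he
        refine h ?_
        have e1 : (fun e => (Φ c e).1) = fun e => (Φ c' e).1 := funext fun e => by
          rw [he, setMark_fst]
        rw [e1]; exact h'
    · rw [dif_neg h, dif_neg h'] at he
      cases b <;> cases b' <;> simp only [if_true, Bool.false_eq_true, if_false, Sum.inl.injEq, Sum.inr.injEq,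
        reduceCtorEq] at he <;> exact Prod.ext rfl (hΦ _ _ he)
  obtain ⟨f1, k1⟩ := datSet_card R.two 1 n
  obtain ⟨f2, k2⟩ := datSet_card R.two 2 n
  have hsub : ∀ x, Ψ x ∈ Sum.inl '' datSet F 1 n ∪ Sum.inr '' datSet F 2 n := by
    rintro ⟨b, c⟩
    simp only [Ψ]
    split_ifs with h hb
    · exact Or.inl ⟨_, setMark_mem (dat_mem_datSet R hι hs _) h b, rfl⟩
    · exact Or.inl ⟨_, dat_mem_datSet R hι hs _, rfl⟩
    · refine Or.inr ⟨_, ?_, rfl⟩
      obtain ⟨h1, h2, h3⟩ := dat_mem_datSet R hι hs c.out
      refine ⟨h1, fun w hw => ?_, h3⟩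
      obtain ⟨hrec, hc⟩ := h2 w hw
      refine ⟨hrec, ?_⟩
      rw [if_neg (show w % 2 ≠ 2 by omega)]
      split_ifs at hc with hodd
      · have n1 : ¬ (Φ c w).1.IsRoot 1 := fun hr => h ⟨w, hodd, Or.inl hr⟩
        have n2 : ¬ (Φ c w).1.IsRoot (-1) := fun hr => h ⟨w, hodd, Or.inr hr⟩
        have := hrec.even_data R.two (by rw [rootMultiplicity_eq_zero n1]; exact ⟨0, rfl⟩)
          (by rw [rootMultiplicity_eq_zero n2]; exact ⟨0, rfl⟩)
        exact ⟨this.1, this.2, Bool.eq_false_iff.2 fun hb' => n1 (hc.1 hb'), Bool.eq_false_iff.2 fun hb' => n2 (hc.2 hb')⟩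
      · exact hc
  have hcard : 2 * Nat.card (ConjClasses Γ) ≤ (datSet F 1 n).ncard + (datSet F 2 n).ncard := by
    calc 2 * Nat.card (ConjClasses Γ) = Nat.card (Bool × ConjClasses Γ) := by
          rw [Nat.card_prod, Nat.card_eq_fintype_card (α := Bool), Fintype.card_bool]
      _ = (Set.range Ψ).ncard := by rw [Set.ncard_range_of_injective hinj]
      _ ≤ (Sum.inl '' datSet F 1 n ∪ Sum.inr '' datSet F 2 n).ncard :=
          Set.ncard_le_ncard (Set.range_subset_iff.2 hsub) ((f1.image _).union (f2.image _))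
      _ ≤ _ := (Set.ncard_union_le _ _).trans (add_le_add (Set.ncard_image_le f1) (Set.ncard_image_le f2))
  exact hcard.trans ((add_le_add k1 k2).trans (wcnt_orth_le (three_le_card R.two) (le_max_right _ _)))

end Orth

end Cfsg.Agent.SpOClassCount
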