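import Cfsg.Agent.EqLemmas
import Mathlib.GroupTheory.CommutingProbability
/-!
# Classes of a subgroup of index two

* `two_mul_classes_le` : `2 k(H) ≤ k(G) + 3 #{classes inside H that split}`.
-/
set_option autoImplicit false

namespace Cfsg.Agent.SpOClassCount

/-- `2 k(H) ≤ k(G) + 3 s`, `s` the number of classes with `p`, if `p` holds where centralisers stay in `H`. -/
theorem two_mul_classes_le {G : Type*} [Group G] [Finite G] (H : Subgroup G) (h2 : H.index = 2)
    (p : ConjClasses G → Prop) (hp : ∀ x ∈ H, (∀ y, Commute x y → y ∈ H) → p (ConjClasses.mk x)) :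
    2 * Nat.card (ConjClasses H) ≤ Nat.card (ConjClasses G) + 3 * Nat.card {c // p c} := by
  classical
  have hmul : ∀ a b : G, a ∉ H → b ∈ H → a * b ∉ H ∧ b * a ∉ H := fun a b ha hb =>
    ⟨fun h => ha ((H.mul_mem_cancel_right hb).1 h), fun h => ha ((H.mul_mem_cancel_left hb).1 h)⟩
  have hmul' : ∀ a b : G, a ∉ H → b ∉ H → a * b ∈ H := fun a b ha hb =>
    (Subgroup.mul_mem_iff_of_index_two h2).2 (iff_of_false ha hb)
  let A := {w : H × H // Commute w.1 w.2}
  let B := {w : G × G // Commute w.1 w.2 ∧ w.1 ∈ H ∧ w.2 ∉ H}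
  let P := {w : G × G // Commute w.1 w.2}
  -- pairs in `H`, and three copies of the mixed pairs
  have hAB : Nat.card A + (Nat.card B + (Nat.card B + Nat.card B)) ≤ Nat.card P := by
    let f : A ⊕ (B ⊕ (B ⊕ B)) → P := fun
      | Sum.inl w => ⟨((w.1.1 : G), (w.1.2 : G)), congrArg Subtype.val w.2⟩
      | Sum.inr (Sum.inl w) => ⟨w.1, w.2.1⟩
      | Sum.inr (Sum.inr (Sum.inl w)) => ⟨(w.1.2, w.1.1), w.2.1.symm⟩
      | Sum.inr (Sum.inr (Sum.inr w)) => ⟨(w.1.2, w.1.2 * w.1.1), (Commute.refl _).mul_right w.2.1.symm⟩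
    rw [← Nat.card_sum, ← Nat.card_sum, ← Nat.card_sum]
    refine Nat.card_le_card_of_injective f ?_
    rintro (⟨⟨⟨a, ha⟩, b, hb⟩, h⟩ | ⟨⟨a, b⟩, h, ha, hb⟩ | ⟨⟨a, b⟩, h, ha, hb⟩ | ⟨⟨a, b⟩, h, ha, hb⟩)
      (⟨⟨⟨a', ha'⟩, b', hb'⟩, h'⟩ | ⟨⟨a', b'⟩, h', ha', hb'⟩ | ⟨⟨a', b'⟩, h', ha', hb'⟩ | ⟨⟨a', b'⟩, h', ha', hb'⟩) he <;>
      have hv := congrArg Subtype.val he <;> simp only [f, Prod.mk.injEq] at hv <;> obtain ⟨e1, e2⟩ := hv <;>
      (try dsimp only at ha hb ha' hb')
    case inl.inl => subst e1 e2; rfl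
    case inr.inl.inr.inl => subst e1 e2; rfl
    case inr.inr.inl.inr.inr.inl => subst e1 e2; rfl
    case inr.inr.inr.inr.inr.inr => subst e1; obtain rfl := mul_left_cancel e2; rfl
    all_goals exfalso
    all_goals first
      | exact hb' (e1 ▸ ha) | exact hb (e1 ▸ ha') | exact hb' (e2 ▸ hb) | exact hb (e2 ▸ hb')
      | exact (hmul b' a' hb' ha').1 (e2 ▸ ha) | exact (hmul b a hb ha).1 (e2 ▸ ha')
      | exact (hmul b' a' hb' ha').1 (e2 ▸ hb) | exact (hmul b a hb ha).1 (e2 ▸ hb')
  -- pairs in `H` against mixed pairs and split classes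
  have hA : Nat.card A ≤ Nat.card B + Nat.card {c // p c} * Nat.card G := by
    let u : G → G := fun x => if h : ∃ y, Commute x y ∧ y ∉ H then h.choose else 1
    let t : G → G := fun x =>
      if h : ∃ z, z * Quotient.out (ConjClasses.mk x) * z⁻¹ = x then h.choose else 1
    have ht : ∀ x, t x * Quotient.out (ConjClasses.mk x) * (t x)⁻¹ = x := fun x => by
      have h : ∃ z, z * Quotient.out (ConjClasses.mk x) * z⁻¹ = x :=
        isConj_iff.1 (ConjClasses.mk_eq_mk_iff_isConj.1 (Quotient.out_eq (ConjClasses.mk x)))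
      simp only [t, dif_pos h]
      exact h.choose_spec
    rw [← Nat.card_prod, ← Nat.card_sum]
    refine Nat.card_le_card_of_injective (fun w : A =>
      if h : ∃ y, Commute ((w.1.1 : H) : G) y ∧ y ∉ H then
        Sum.inl (⟨(((w.1.1 : H) : G), (w.1.2 : G) * u w.1.1),
          (show Commute ((w.1.1 : H) : G) (w.1.2 : G) from congrArg Subtype.val w.2).mul_right
            (by simp only [u, dif_pos h]; exact h.choose_spec.1), w.1.1.2,
          by simp only [u, dif_pos h]; exact (hmul _ _ h.choose_spec.2 w.1.2.2).2⟩ : B)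
      else Sum.inr (⟨ConjClasses.mk ((w.1.1 : H) : G), hp _ w.1.1.2 fun y hy => by
          by_contra hc; exact h ⟨y, hy, hc⟩⟩, (w.1.2 : G) * t w.1.1)) ?_
    rintro ⟨⟨⟨a, ha⟩, b, hb⟩, h⟩ ⟨⟨⟨a', ha'⟩, b', hb'⟩, h'⟩ he
    dsimp only at he
    have key : a = a' ∧ b = b' := by
      split_ifs at he
      · have hv := congrArg Subtype.val (Sum.inl.inj he)
        simp only [Prod.mk.injEq] at hv
        obtain ⟨e1, e2⟩ := hv
        subst e1
        exact ⟨rfl, mul_right_cancel e2⟩
      · have hv := Prod.mk.inj (Sum.inr.inj he)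
        have e1 := congrArg Subtype.val hv.1
        have e2 := hv.2
        dsimp only at e1 e2
        have hab : Commute a b := congrArg Subtype.val h
        have hab' : Commute a' b' := congrArg Subtype.val h'
        have expand : ∀ x y : G, Commute x y →
            (y * t x) * Quotient.out (ConjClasses.mk x) * (y * t x)⁻¹ = x := fun x y hc =>
          calc _ = y * (t x * Quotient.out (ConjClasses.mk x) * (t x)⁻¹) * y⁻¹ := by group
            _ = x := by rw [ht, ← hc.eq, mul_inv_cancel_right]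
        have ea : a = a' := by rw [← expand a b hab, e2, e1, expand a' b' hab']
        subst ea
        exact ⟨rfl, mul_right_cancel e2⟩
    obtain ⟨rfl, rfl⟩ := key
    rfl
  have cA : Nat.card A = Nat.card (ConjClasses H) * Nat.card H := card_comm_eq_card_conjClasses_mul_card H
  have cP : Nat.card P = Nat.card (ConjClasses G) * Nat.card G := card_comm_eq_card_conjClasses_mul_card G
  have cG : Nat.card H * 2 = Nat.card G := h2 ▸ H.card_mul_index
  rw [cA] at hAB hA
  rw [cP, ← cG] at hAB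
  rw [← cG] at hA
  have hH : 0 < Nat.card H := Nat.card_pos
  nlinarith

end Cfsg.Agent.SpOClassCount
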