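import Cfsg.Agent.Lib.SpOClassCount.Poly
import Cfsg.Agent.Lib.SpOClassCount.Flip
import Mathlib.RingTheory.AdjoinRoot
/-!
# Palindromic polynomials as characteristic polynomials of isometries

* `exists_alt_model`, `exists_symm_model` : realisations;
* `pow_le_ncard_pal`, `ncard_square_pairs` : the numbers of polynomials;
* `ncard_le_classes` : realised polynomials bound the number of classes from below.
-/
set_option autoImplicit false
set_option linter.unusedVariables false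
set_option linter.unusedSectionVars false

open scoped Classical

namespace Cfsg.Agent.SpOClassCount

open Polynomial Matrix

variable {F : Type*} [Field F]

/-- Monic of degree `2 m` with symmetric coefficients. -/
def IsPal (m : ℕ) (P : F[X]) : Prop := P.Monic ∧ P.natDegree = 2 * m ∧ P.reflect (2 * m) = P

theorem IsPal.coeff_zero {m : ℕ} {P : F[X]} (h : IsPal m P) : P.coeff 0 = 1 := by
  rw [← h.2.2, coeff_reflect, revAt_le (Nat.zero_le _), Nat.sub_zero, ← h.2.1]
  exact h.1.coeff_natDegree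

theorem IsPal.isRec {m : ℕ} {P : F[X]} (h : IsPal m P) : IsRec P := by
  refine ⟨h.1, by rw [h.coeff_zero]; exact one_ne_zero, ?_⟩
  rw [SLComm.invPoly, h.coeff_zero, inv_one, map_one, one_mul, reverse, h.2.1, h.2.2]

theorem isPal_of_isRec {m : ℕ} {P : F[X]} (h : IsRec P) (h0 : P.coeff 0 = 1) (hd : P.natDegree = 2 * m) :
    IsPal m P := by
  refine ⟨h.1, hd, ?_⟩
  have := h.2.2
  rw [SLComm.invPoly, h0, inv_one, map_one, one_mul, reverse, hd] at this
  exact this

section Cyclic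

variable {m : ℕ} {P : F[X]} (h : IsPal (m + 1) P)
include h

theorem exists_root_inv : ∃ y, AdjoinRoot.root P * y = 1 ∧ y = AdjoinRoot.mk P (-P.divX) ∧ aeval y P = 0 := by
  have hy : AdjoinRoot.root P * AdjoinRoot.mk P (-P.divX) = 1 := by
    rw [show AdjoinRoot.root P = AdjoinRoot.mk P Polynomial.X from rfl, ← map_mul,
      ← map_one (AdjoinRoot.mk P), AdjoinRoot.mk_eq_mk]
    refine ⟨-1, ?_⟩
    have := X_mul_divX_add P
    rw [h.coeff_zero, map_one] at this
    linear_combination -this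
  refine ⟨_, hy, rfl, ?_⟩
  letI : Invertible (AdjoinRoot.root P) := ⟨AdjoinRoot.mk P (-P.divX), by rw [mul_comm]; exact hy, hy⟩
  have h1 := eval₂_reverse_mul_pow (algebraMap F (AdjoinRoot P)) (AdjoinRoot.root P) P
  rw [reverse, h.2.1, h.2.2, show eval₂ (algebraMap F (AdjoinRoot P)) (AdjoinRoot.root P) P = 0 from
    AdjoinRoot.eval₂_root P] at h1
  exact (IsUnit.of_mul_eq_one _ hy).pow _ |>.mul_left_eq_zero.1 h1

/-- An invariant alternating form of the cyclic module. -/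
theorem exists_alt_gram [Finite F] (h2 : (2 : F) ≠ 0) :
    ∃ (M H : Matrix (Fin (m + 1) ⊕ Fin (m + 1)) (Fin (m + 1) ⊕ Fin (m + 1)) F),
      Hᵀ = -H ∧ IsUnit H ∧ Mᵀ * H * M = H ∧ M.charpoly = P := by
  obtain ⟨y, hy, hyv, hev⟩ := exists_root_inv h
  set r := AdjoinRoot.root P
  let ι : AdjoinRoot P →ₐ[F] AdjoinRoot P := AdjoinRoot.liftAlgHom P (Algebra.ofId F _) y hev
  have hιr : ι r = y := AdjoinRoot.liftAlgHom_root _ _ _ _
  have hιy : ι y = r := by
    have h0 := congrArg ι hy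
    rw [map_mul, map_one, hιr] at h0
    calc ι y = (r * y) * ι y := by rw [hy, one_mul]
      _ = r := by rw [mul_assoc, h0, mul_one]
  have hιι : ∀ x, ι (ι x) = x := fun x => by
    have : ι.comp ι = AlgHom.id F (AdjoinRoot P) := AdjoinRoot.algHom_ext (by
      show ι (ι r) = r
      rw [hιr, hιy])
    exact AlgHom.congr_fun this x
  haveI : Module.Finite F (AdjoinRoot P) := (AdjoinRoot.powerBasis' h.1).finite
  let top : AdjoinRoot P →ₗ[F] F := (lcoeff F (2 * m + 1)).comp (AdjoinRoot.modByMonicHom h.1)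
  have htop : ∀ i, i < 2 * (m + 1) → top (r ^ i) = if i = 2 * m + 1 then 1 else 0 := fun i hi => by
    rw [show r ^ i = AdjoinRoot.mk P (Polynomial.X ^ i) by rw [map_pow, AdjoinRoot.mk_X]]
    simp only [top, LinearMap.comp_apply, AdjoinRoot.modByMonicHom_mk, lcoeff_apply]
    rw [(modByMonic_eq_self_iff h.1).2 (degree_lt_degree (by rw [natDegree_X_pow, h.2.1]; exact hi)), coeff_X_pow]
    exact if_congr eq_comm rfl rfl
  have htopy : top y = -1 := by
    simp only [hyv, top, LinearMap.comp_apply, AdjoinRoot.modByMonicHom_mk, lcoeff_apply]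
    rw [(modByMonic_eq_self_iff h.1).2 (degree_lt_degree ?_), coeff_neg, coeff_divX,
      show 2 * m + 1 + 1 = P.natDegree by rw [h.2.1]; ring, h.1.coeff_natDegree]
    rw [natDegree_neg, natDegree_divX_eq_natDegree_tsub_one, h.2.1]
    omega
  have htop0 : ∀ x, (∀ z, top (x * z) = 0) → x = 0 := by
    intro x hx
    obtain ⟨p, rfl⟩ := AdjoinRoot.mk_surjective x
    by_contra hc
    have hne : p %ₘ P ≠ 0 := fun h0 => hc (by
      rw [← AdjoinRoot.mk_leftInverse h.1 (AdjoinRoot.mk P p), AdjoinRoot.modByMonicHom_mk, h0, map_zero])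
    have hlt : (p %ₘ P).natDegree < 2 * (m + 1) := h.2.1 ▸
      natDegree_modByMonic_lt p h.1 (fun h1 => hne (by rw [h1, modByMonic_one]))
    have := hx (AdjoinRoot.mk P (Polynomial.X ^ (2 * m + 1 - (p %ₘ P).natDegree)))
    rw [← AdjoinRoot.mk_leftInverse h.1 (AdjoinRoot.mk P p), AdjoinRoot.modByMonicHom_mk, ← map_mul] at this
    simp only [top, LinearMap.comp_apply, AdjoinRoot.modByMonicHom_mk, lcoeff_apply] at this
    rw [(modByMonic_eq_self_iff h.1).2 (degree_lt_degree (by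
      rw [natDegree_mul hne (pow_ne_zero _ X_ne_zero), natDegree_X_pow, h.2.1]; omega))] at this
    have e : 2 * m + 1 = (p %ₘ P).natDegree + (2 * m + 1 - (p %ₘ P).natDegree) := by omega
    nth_rewrite 2 [e] at this
    rw [coeff_mul_X_pow, coeff_natDegree, leadingCoeff_eq_zero] at this
    exact hne this
  let τ : AdjoinRoot P →ₗ[F] F := top.comp (LinearMap.mulLeft F (r ^ m))
  have hskew : ∀ z, τ (ι z) = -τ z := by
    let κ : AdjoinRoot P →ₗ[F] F := (τ.comp ι.toLinearMap + τ).comp (LinearMap.mulRight F (y ^ m))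
    have hκ : κ = 0 := (AdjoinRoot.powerBasis' h.1).basis.ext fun i => by
      rw [(AdjoinRoot.powerBasis' h.1).basis_eq_pow, show (AdjoinRoot.powerBasis' h.1).gen = r from rfl]
      have hi : (i : ℕ) < 2 * (m + 1) := lt_of_lt_of_eq i.2 h.2.1
      show top (r ^ m * ι (r ^ (i : ℕ) * y ^ m)) + top (r ^ m * (r ^ (i : ℕ) * y ^ m)) = 0
      have e2 : r ^ m * (r ^ (i : ℕ) * y ^ m) = r ^ (i : ℕ) := by
        rw [mul_left_comm, ← mul_pow, hy, one_pow, mul_one]
      rw [e2, map_mul ι, map_pow ι, map_pow ι, hιr, hιy, htop _ hi]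
      by_cases hlast : (i : ℕ) = 2 * m + 1
      · have e1 : r ^ m * (y ^ (i : ℕ) * r ^ m) = y := by
          calc r ^ m * (y ^ (i : ℕ) * r ^ m) = (r * y) ^ (2 * m) * y := by rw [hlast]; ring
            _ = y := by rw [hy, one_pow, one_mul]
        rw [e1, htopy, if_pos hlast]; ring
      · have e1 : r ^ m * (y ^ (i : ℕ) * r ^ m) = r ^ (2 * m - i) := by
          calc r ^ m * (y ^ (i : ℕ) * r ^ m) = r ^ (2 * m - i + i) * y ^ (i : ℕ) := by
                rw [Nat.sub_add_cancel (by omega)]; ring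
            _ = _ := by rw [pow_add, mul_assoc, ← mul_pow, hy, one_pow, mul_one]
        rw [e1, htop _ (by omega), if_neg hlast, if_neg (by omega), add_zero]
    intro z
    have h0 := LinearMap.congr_fun hκ (z * r ^ m)
    have e : z * r ^ m * y ^ m = z := by rw [mul_assoc, ← mul_pow, hy, one_pow, mul_one]
    simp only [κ, LinearMap.comp_apply, LinearMap.mulRight_apply, LinearMap.add_apply, LinearMap.zero_apply, e] at h0
    exact eq_neg_of_add_eq_zero_left h0
  let B : LinearMap.BilinForm F (AdjoinRoot P) := LinearMap.mk₂ F (fun a b => τ (a * ι b))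
    (fun a a' b => by simp [add_mul]) (fun c a b => by simp)
    (fun a b b' => by simp [mul_add]) (fun c a b => by simp)
  have hB : ∀ a b, B a b = τ (a * ι b) := fun a b => rfl
  have hcard : (AdjoinRoot.powerBasis' h.1).dim = (m + 1) + (m + 1) := by
    rw [show (AdjoinRoot.powerBasis' h.1).dim = P.natDegree from rfl, h.2.1]; ring
  let b : Module.Basis (Fin (m + 1) ⊕ Fin (m + 1)) F (AdjoinRoot P) :=
    (AdjoinRoot.powerBasis' h.1).basis.reindex ((finCongr hcard).trans finSumFinEquiv.symm)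
  let L : AdjoinRoot P →ₗ[F] AdjoinRoot P := LinearMap.mulLeft F r
  refine ⟨LinearMap.toMatrix b b L, LinearMap.BilinForm.toMatrix b B, ?_, ?_, ?_, ?_⟩
  · ext i j
    rw [Matrix.transpose_apply, Matrix.neg_apply, LinearMap.BilinForm.toMatrix_apply, LinearMap.BilinForm.toMatrix_apply, hB, hB,
      ← neg_eq_iff_eq_neg, ← hskew, map_mul ι, hιι, mul_comm]
  · rw [Matrix.isUnit_iff_isUnit_det, isUnit_iff_ne_zero, ← LinearMap.BilinForm.nondegenerate_iff_det_ne_zero b]
    refine ⟨fun x hx => ?_, fun x hx => ?_⟩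
    · have h0 := htop0 (r ^ m * x) fun z => by
        have := hx (ι z)
        rw [hB, hιι] at this
        rw [mul_assoc]; exact this
      exact ((IsUnit.of_mul_eq_one _ hy).pow m).mul_right_eq_zero.1 h0
    · have h0 := htop0 (r ^ m * x) fun z => by
        have := hx (ι z)
        rw [hB] at this
        have h3 := hskew (ι z * ι x)
        rw [map_mul ι, hιι, hιι, this, neg_zero] at h3
        rw [mul_assoc, mul_comm x]; exact h3
      exact ((IsUnit.of_mul_eq_one _ hy).pow m).mul_right_eq_zero.1 h0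
  · have hLL : LinearMap.BilinForm.comp B L L = B := LinearMap.ext fun x => LinearMap.ext fun z => by
      show B (r * x) (r * z) = B x z
      rw [hB, hB, map_mul ι, hιr]
      congr 1
      calc r * x * (y * ι z) = (r * y) * (x * ι z) := by ring
        _ = x * ι z := by rw [hy, one_mul]
    conv_rhs => rw [← hLL]
    exact (LinearMap.BilinForm.toMatrix_comp b b B L L).symm
  · rw [LinearMap.charpoly_toMatrix]
    exact SLComm.charpoly_Cyc h.1

end Cyclic

section Realise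

variable [Finite F]

/-- An invertible matrix moved by congruence. -/
theorem exists_transfer {ι : Type} [Fintype ι] [DecidableEq ι] {M H S B : Matrix ι ι F} (hB : IsUnit B)
    (hBH : Bᵀ * H * B = S) (hM : Mᵀ * H * M = H) :
    ∃ M' : Matrix ι ι F, M'ᵀ * S * M' = S ∧ M'.charpoly = M.charpoly := by
  obtain ⟨u, rfl⟩ := hB
  refine ⟨((u⁻¹ : (Matrix ι ι F)ˣ) : Matrix ι ι F) * M * (u : Matrix ι ι F), ?_, by
    rw [Matrix.coe_units_inv, Matrix.charpoly_units_conj']⟩
  rw [← hBH]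
  have e : (u : Matrix ι ι F) * (((u⁻¹ : (Matrix ι ι F)ˣ) : Matrix ι ι F) * M * (u : Matrix ι ι F)) = M * (u : Matrix ι ι F) := by
    rw [← Matrix.mul_assoc, ← Matrix.mul_assoc, Units.mul_inv, Matrix.one_mul]
  calc _ = ((u : Matrix ι ι F) * (((u⁻¹ : (Matrix ι ι F)ˣ) : Matrix ι ι F) * M * (u : Matrix ι ι F)))ᵀ * H *
        ((u : Matrix ι ι F) * (((u⁻¹ : (Matrix ι ι F)ˣ) : Matrix ι ι F) * M * (u : Matrix ι ι F))) := by
        simp only [Matrix.transpose_mul, Matrix.mul_assoc]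
    _ = (u : Matrix ι ι F)ᵀ * (Mᵀ * H * M) * (u : Matrix ι ι F) := by rw [e]; simp only [Matrix.transpose_mul, Matrix.mul_assoc]
    _ = _ := by rw [hM]

/-- Every palindromic polynomial comes from a symplectic matrix. -/
theorem exists_symplectic_charpoly (h2 : (2 : F) ≠ 0) {m : ℕ} {P : F[X]} (h : IsPal (m + 1) P) :
    ∃ M, Mᵀ * Matrix.J (Fin (m + 1)) F * M = Matrix.J (Fin (m + 1)) F ∧ M.charpoly = P := by
  obtain ⟨M, H, hs, hu, hi, hc⟩ := exists_alt_gram h h2
  have hJu : IsUnit (Matrix.J (Fin (m + 1)) F) :=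
    (Matrix.isUnit_iff_isUnit_det _).2 (Matrix.isUnit_det_J (Fin (m + 1)) F)
  obtain ⟨B, hB, hBH⟩ := Forms.UnipCls.exists_congr_alt h2 H (Matrix.J (Fin (m + 1)) F) hs
    (Matrix.J_transpose _ _) hu hJu
  obtain ⟨M', hM', hc'⟩ := exists_transfer hB hBH hi
  exact ⟨M', hM', hc'.trans hc⟩

/-- An invariant symmetric form with determinant in the class of `P(1) P(-1) det J`. -/
theorem exists_symm_gram (h2 : (2 : F) ≠ 0) {m : ℕ} {P : F[X]} (h : IsPal (m + 1) P)
    (hne : P.eval 1 * P.eval (-1) ≠ 0) :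
    ∃ (M H : Matrix (Fin (m + 1) ⊕ Fin (m + 1)) (Fin (m + 1) ⊕ Fin (m + 1)) F),
      Hᵀ = H ∧ IsUnit H ∧ Mᵀ * H * M = H ∧ M.charpoly = P ∧
      (IsSquare H.det ↔ IsSquare (P.eval 1 * P.eval (-1) * (Matrix.J (Fin (m + 1)) F).det)) := by
  obtain ⟨M, hi, hc⟩ := exists_symplectic_charpoly h2 h
  set J := Matrix.J (Fin (m + 1)) F
  have hJu : IsUnit J.det := Matrix.isUnit_det_J (Fin (m + 1)) F
  have hJs : Jᵀ = -J := Matrix.J_transpose _ _
  have hcard : Fintype.card (Fin (m + 1) ⊕ Fin (m + 1)) = 2 * (m + 1) := by simp; omega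
  have hMd : M.det = 1 := by
    rw [Matrix.det_eq_sign_charpoly_coeff, hc, h.coeff_zero, hcard, pow_mul, neg_one_sq, one_pow, mul_one]
  obtain ⟨M', hM'⟩ := ((Matrix.isUnit_iff_isUnit_det M).2 (by rw [hMd]; exact isUnit_one)).exists_right_inv
  have hM'' : M' * M = 1 := mul_eq_one_comm.mp hM'
  have e1 : Mᵀ * J = J * M' := by
    conv_rhs => rw [← hi]
    rw [Matrix.mul_assoc (Mᵀ * J), hM', Matrix.mul_one]
  have e2 : M'ᵀ * J = J * M := by
    conv_lhs => rw [← hi]
    rw [← Matrix.mul_assoc, ← Matrix.mul_assoc, ← Matrix.transpose_mul, hM', Matrix.transpose_one, Matrix.one_mul]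
  have hdd : (M - M').det = P.eval 1 * P.eval (-1) := by
    have e3 : (M - M') * M = (M - 1) * (M + 1) := by
      rw [Matrix.sub_mul, hM'']; noncomm_ring
    have e4 := congrArg Matrix.det e3
    rw [Matrix.det_mul, Matrix.det_mul, hMd, mul_one] at e4
    rw [e4, ← hc, Matrix.eval_charpoly, Matrix.eval_charpoly]
    simp only [map_one, map_neg]
    congr 1
    · rw [← neg_sub (1 : Matrix (Fin (m + 1) ⊕ Fin (m + 1)) (Fin (m + 1) ⊕ Fin (m + 1)) F) M, Matrix.det_neg, hcard,
        pow_mul, neg_one_sq, one_pow, one_mul]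
    · rw [show -(1 : Matrix (Fin (m + 1) ⊕ Fin (m + 1)) (Fin (m + 1) ⊕ Fin (m + 1)) F) - M = -(M + 1) by abel,
        Matrix.det_neg, hcard, pow_mul, neg_one_sq, one_pow, one_mul]
  refine ⟨M, (M - M')ᵀ * J, ?_, ?_, ?_, hc, ?_⟩
  · rw [Matrix.transpose_mul, Matrix.transpose_transpose, hJs, Matrix.transpose_sub, Matrix.sub_mul, e1, e2,
      Matrix.neg_mul, Matrix.mul_sub]
    abel
  · rw [Matrix.isUnit_iff_isUnit_det, Matrix.det_mul, Matrix.det_transpose, hdd]
    exact (isUnit_iff_ne_zero.2 hne).mul hJu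
  · calc Mᵀ * ((M - M')ᵀ * J) * M = ((M - M') * M)ᵀ * J * M := by simp only [Matrix.transpose_mul, Matrix.mul_assoc]
      _ = (M * (M - M'))ᵀ * J * M := by rw [Matrix.sub_mul, Matrix.mul_sub, hM', hM'']
      _ = (M - M')ᵀ * (Mᵀ * J * M) := by simp only [Matrix.transpose_mul, Matrix.mul_assoc]
      _ = _ := by rw [hi]
  · rw [Matrix.det_mul, Matrix.det_transpose, hdd]

/-- The statement that `P` is realised for the class `c` of the determinant. -/
def Real (m : ℕ) (P : F[X]) (δ : F) : Prop :=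
  ∀ S : Matrix (Fin m ⊕ Fin m) (Fin m ⊕ Fin m) F, Sᵀ = S → IsUnit S → (IsSquare S.det ↔ IsSquare δ) →
    ∃ M, Mᵀ * S * M = S ∧ M.charpoly = P

theorem real_of_gram (h2 : (2 : F) ≠ 0) {m : ℕ} {P : F[X]} {δ : F}
    {M H : Matrix (Fin (m + 1) ⊕ Fin (m + 1)) (Fin (m + 1) ⊕ Fin (m + 1)) F} (hs : Hᵀ = H) (hu : IsUnit H)
    (hi : Mᵀ * H * M = H) (hc : M.charpoly = P) (hd : IsSquare H.det ↔ IsSquare δ) : Real (m + 1) P δ := by
  intro S hS hSu hSd
  obtain ⟨B, hB, hBH⟩ := Forms.UnipCls.exists_congr_symm h2 H S hs hS hu hSu (hd.trans hSd.symm)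
  obtain ⟨M', hM', hc'⟩ := exists_transfer hB hBH hi
  exact ⟨M', hM', hc'.trans hc⟩

/-- A double root at `c = ±1` frees the determinant. -/
theorem real_double (h2 : (2 : F) ≠ 0) {m : ℕ} {Q : F[X]} {c : F} (hc : c * c = 1)
    {M H : Matrix (Fin m ⊕ Fin m) (Fin m ⊕ Fin m) F} (hs : Hᵀ = H) (hu : IsUnit H)
    (hi : Mᵀ * H * M = H) (hQ : M.charpoly = Q) (δ : F) (hδ : δ ≠ 0) :
    Real (m + 1) ((X - C c) ^ 2 * Q) δ := by
  have hd0 : H.det ≠ 0 := ((Matrix.isUnit_iff_isUnit_det _).1 hu).ne_zero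
  set γ := δ * H.det with hγ
  let D : Matrix (Fin 2) (Fin 2) F := Matrix.diagonal ![1, γ]
  let e : Fin 2 ⊕ (Fin m ⊕ Fin m) ≃ Fin (m + 1) ⊕ Fin (m + 1) :=
    Fintype.equivOfCardEq (by simp; omega)
  have hdet : (Matrix.fromBlocks D 0 0 H).det = γ * H.det := by
    rw [Matrix.det_fromBlocks_zero₂₁, Matrix.det_diagonal, Fin.prod_univ_two]; simp
  refine real_of_gram h2 (M := Matrix.reindex e e (Matrix.fromBlocks (c • 1) 0 0 M))
    (H := Matrix.reindex e e (Matrix.fromBlocks D 0 0 H)) ?_ ?_ ?_ ?_ ?_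
  · rw [Matrix.transpose_reindex, Matrix.fromBlocks_transpose, Matrix.diagonal_transpose, Matrix.transpose_zero,
      Matrix.transpose_zero, hs]
  · rw [Matrix.isUnit_iff_isUnit_det, Matrix.det_reindex_self, hdet, isUnit_iff_ne_zero]
    exact mul_ne_zero (mul_ne_zero hδ hd0) hd0
  · simp only [Matrix.reindex_apply, Matrix.transpose_submatrix, Matrix.submatrix_mul_equiv,
      Matrix.fromBlocks_transpose, Matrix.transpose_zero, Matrix.fromBlocks_multiply, Matrix.mul_zero, Matrix.zero_mul,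
      add_zero, zero_add, hi, Matrix.transpose_smul, Matrix.transpose_one, Matrix.smul_mul, Matrix.mul_smul,
      Matrix.one_mul, Matrix.mul_one, smul_smul, hc, one_smul, smul_zero]
  · rw [Matrix.charpoly_reindex, Matrix.charpoly_fromBlocks_zero₂₁, hQ, smul_one_eq_diagonal,
      Matrix.charpoly_diagonal]
    simp
  · rw [Matrix.det_reindex_self, hdet, hγ, mul_assoc, isSquare_mul_iff h2 hδ (mul_ne_zero hd0 hd0)]
    simp only [show IsSquare (H.det * H.det) from ⟨_, rfl⟩, iff_true]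

theorem pal_root_one {m : ℕ} {P : F[X]} (h2 : (2 : F) ≠ 0) (h : IsPal (m + 1) P) {c : F} (hc : c = 1 ∨ c = -1)
    (hr : P.IsRoot c) : ∃ Q, IsPal m Q ∧ P = (X - C c) ^ 2 * Q := by
  have hcc : c * c = 1 := by rcases hc with rfl | rfl <;> simp
  obtain ⟨Q, hQ⟩ := dvd_iff_isRoot.2 hr
  obtain ⟨hQr, hQd⟩ := isRec_div h.isRec hcc hQ
  have hQ0 : Q.coeff 0 = -c := by
    have h0 := h.coeff_zero
    rw [hQ, mul_coeff_zero, coeff_sub, coeff_X_zero, coeff_C_zero, zero_sub] at h0
    calc Q.coeff 0 = (-c * Q.coeff 0) * -c := by linear_combination -(Q.coeff 0) * hcc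
      _ = -c := by rw [h0, one_mul]
  have hQc : Q.IsRoot c := by
    by_contra hne
    rcases hc with rfl | rfl
    · have := hQr.coeff_zero_of_eval_one hne
      rw [this] at hQ0
      exact h2 (by linear_combination hQ0)
    · have := hQr.even_of_eval_neg_one h2 (by rw [hQ0, neg_neg]) hne
      obtain ⟨j, hj⟩ := this
      have := h.2.1
      omega
  obtain ⟨R, hR⟩ := dvd_iff_isRoot.2 hQc
  obtain ⟨hRr, hRd⟩ := isRec_div hQr hcc hR
  have hP : P = (X - C c) ^ 2 * R := by rw [hQ, hR]; ring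
  refine ⟨R, isPal_of_isRec hRr ?_ (by have := h.2.1; omega), hP⟩
  rw [hR, mul_coeff_zero, coeff_sub, coeff_X_zero, coeff_C_zero, zero_sub] at hQ0
  linear_combination (-c) * hQ0 - (R.coeff 0) * hcc + hcc

/-- Every palindromic polynomial is realised by some symmetric form. -/
theorem exists_symm_any (h2 : (2 : F) ≠ 0) : ∀ (m : ℕ) (P : F[X]), IsPal m P →
    ∃ (M H : Matrix (Fin m ⊕ Fin m) (Fin m ⊕ Fin m) F), Hᵀ = H ∧ IsUnit H ∧ Mᵀ * H * M = H ∧ M.charpoly = P := by
  intro m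
  induction m with
  | zero =>
    intro P hP
    refine ⟨1, 1, Matrix.transpose_one, isUnit_one, by simp, ?_⟩
    rw [Matrix.charpoly_one, hP.1.natDegree_eq_zero.1 hP.2.1]
    simp
  | succ m ih =>
    intro P hP
    by_cases hne : P.eval 1 * P.eval (-1) = 0
    · obtain ⟨c, hc, hr⟩ : ∃ c : F, (c = 1 ∨ c = -1) ∧ P.IsRoot c := by
        rcases mul_eq_zero.1 hne with h | h
        · exact ⟨1, Or.inl rfl, h⟩
        · exact ⟨-1, Or.inr rfl, h⟩
      obtain ⟨Q, hQ, hPQ⟩ := pal_root_one h2 hP hc hr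
      obtain ⟨M, H, hs, hu, hi, hc'⟩ := ih Q hQ
      obtain ⟨M', hM', hc''⟩ := real_double (c := c) h2 (by rcases hc with rfl | rfl <;> simp) hs hu hi hc' 1 one_ne_zero
        1 Matrix.transpose_one isUnit_one (by simp)
      exact ⟨M', 1, Matrix.transpose_one, isUnit_one, hM', hc''.trans hPQ.symm⟩
    · obtain ⟨M, H, hs, hu, hi, hc, -⟩ := exists_symm_gram h2 hP hne
      exact ⟨M, H, hs, hu, hi, hc⟩

/-- Palindromic polynomials whose values at `±1` have the right class are realised. -/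
theorem real_pal (h2 : (2 : F) ≠ 0) {m : ℕ} {P : F[X]} (h : IsPal (m + 1) P)
    {S : Matrix (Fin (m + 1) ⊕ Fin (m + 1)) (Fin (m + 1) ⊕ Fin (m + 1)) F} (hS : Sᵀ = S) (hu : IsUnit S)
    (hsq : IsSquare (P.eval 1 * P.eval (-1) * ((Matrix.J (Fin (m + 1)) F).det * S.det))) :
    ∃ M, Mᵀ * S * M = S ∧ M.charpoly = P := by
  have hJ : (Matrix.J (Fin (m + 1)) F).det ≠ 0 := (Matrix.isUnit_det_J (Fin (m + 1)) F).ne_zero
  have hSd : S.det ≠ 0 := ((Matrix.isUnit_iff_isUnit_det _).1 hu).ne_zero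
  by_cases hne : P.eval 1 * P.eval (-1) = 0
  · obtain ⟨c, hc, hr⟩ : ∃ c : F, (c = 1 ∨ c = -1) ∧ P.IsRoot c := by
      rcases mul_eq_zero.1 hne with h | h
      · exact ⟨1, Or.inl rfl, h⟩
      · exact ⟨-1, Or.inr rfl, h⟩
    obtain ⟨Q, hQ, rfl⟩ := pal_root_one h2 h hc hr
    obtain ⟨M, H, hs, hu', hi, hc'⟩ := exists_symm_any h2 m Q hQ
    exact real_double h2 (by rcases hc with rfl | rfl <;> simp) hs hu' hi hc' S.det hSd S hS hu Iff.rfl
  · obtain ⟨M, H, hs, hu', hi, hc, hd⟩ := exists_symm_gram h2 h hne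
    refine real_of_gram h2 hs hu' hi hc (δ := S.det) ?_ S hS hu Iff.rfl
    rw [hd, isSquare_mul_iff h2 hne hJ]
    rw [isSquare_mul_iff h2 hne (mul_ne_zero hJ hSd), isSquare_mul_iff h2 hJ hSd] at hsq
    tauto

end Realise

/-! ### Counting -/

/-- Palindromic polynomials with prescribed values at `1` and `-1`. -/
noncomputable def palOf (m : ℕ) (Q : F[X]) (u v : F) : F[X] :=
  (X ^ 2 - 1) ^ 2 * Q + (C ((u + (-1) ^ (m + 1) * v) / 4) * X ^ (m + 3) +
    C ((u - (-1) ^ (m + 1) * v) / 2) * X ^ (m + 2) + C ((u + (-1) ^ (m + 1) * v) / 4) * X ^ (m + 1))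

theorem palOf_spec (h2 : (2 : F) ≠ 0) {m : ℕ} {Q : F[X]} (hQ : IsPal m Q) (u v : F) :
    IsPal (m + 2) (palOf m Q u v) ∧ (palOf m Q u v).eval 1 = u ∧ (palOf m Q u v).eval (-1) = v := by
  set a := (u + (-1) ^ (m + 1) * v) / 4 with ha
  set b := (u - (-1) ^ (m + 1) * v) / 2 with hb
  have h4 : (4 : F) ≠ 0 := by rw [show (4 : F) = 2 * 2 by norm_num]; exact mul_ne_zero h2 h2
  have hs : ((-1 : F) ^ (m + 1)) * (-1) ^ (m + 1) = 1 := by rw [← mul_pow]; simp
  set K : F[X] := C a * X ^ (m + 3) + C b * X ^ (m + 2) + C a * X ^ (m + 1)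
  have hK : K.natDegree ≤ m + 3 := by
    refine (natDegree_add_le _ _).trans (max_le ((natDegree_add_le _ _).trans (max_le ?_ ?_)) ?_) <;>
      exact (natDegree_C_mul_X_pow_le _ _).trans (by omega)
  have hsq : ((X : F[X]) ^ 2 - 1) ^ 2 = X ^ 4 + C (-2) * X ^ 2 + C 1 * X ^ 0 := by
    rw [map_neg, map_ofNat, map_one]; ring
  have hm4 : (((X : F[X]) ^ 2 - 1) ^ 2).Monic := ((monic_X_pow 2).sub_of_left (by simp)).pow 2
  have hd4 : (((X : F[X]) ^ 2 - 1) ^ 2).natDegree = 4 := by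
    rw [natDegree_pow, ← C_1, natDegree_X_pow_sub_C]
  have hR4 : (((X : F[X]) ^ 2 - 1) ^ 2).reflect 4 = ((X : F[X]) ^ 2 - 1) ^ 2 := by
    rw [hsq, reflect_add, reflect_add, reflect_C_mul_X_pow, reflect_C_mul_X_pow,
      show (X : F[X]) ^ 4 = C 1 * X ^ 4 by simp, reflect_C_mul_X_pow]
    simp [revAt_le]
    ring
  have hPd : (((X : F[X]) ^ 2 - 1) ^ 2 * Q).natDegree = 2 * (m + 2) := by
    rw [hm4.natDegree_mul hQ.1, hd4, hQ.2.1]; ring
  have hlt : K.degree < (((X : F[X]) ^ 2 - 1) ^ 2 * Q).degree := degree_lt_degree (by rw [hPd]; omega)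
  refine ⟨⟨(hm4.mul hQ.1).add_of_left hlt, ?_, ?_⟩, ?_, ?_⟩
  · show (_ + K).natDegree = _
    rw [natDegree_eq_of_degree_eq (degree_add_eq_left_of_degree_lt hlt), hPd]
  · show reflect _ (_ + K) = _ + K
    rw [reflect_add]
    congr 1
    · rw [show 2 * (m + 2) = 4 + 2 * m by ring, reflect_mul _ _ hd4.le hQ.2.1.le, hR4, hQ.2.2]
    · simp only [K, reflect_add, reflect_C_mul_X_pow]
      rw [revAt_le (by omega), revAt_le (by omega), revAt_le (by omega),
        show 2 * (m + 2) - (m + 3) = m + 1 by omega, show 2 * (m + 2) - (m + 2) = m + 2 by omega,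
        show 2 * (m + 2) - (m + 1) = m + 3 by omega]
      ring
  · simp only [palOf, eval_add, eval_mul, eval_pow, eval_sub, eval_X, eval_one, eval_C, one_pow, sub_self]
    field_simp
    ring
  · simp only [palOf, eval_add, eval_mul, eval_pow, eval_sub, eval_X, eval_one, eval_C, neg_one_sq, sub_self]
    rw [show (-1 : F) ^ (m + 3) = (-1) ^ (m + 1) by ring, show (-1 : F) ^ (m + 2) = -(-1) ^ (m + 1) by ring]
    generalize (-1 : F) ^ (m + 1) = σ at hs ⊢
    field_simp
    linear_combination 8 * v * hs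

theorem palOf_injective (h2 : (2 : F) ≠ 0) {m : ℕ} {Q Q' : F[X]} (hQ : IsPal m Q) (hQ' : IsPal m Q')
    {u v u' v' : F} (he : palOf m Q u v = palOf m Q' u' v') : Q = Q' ∧ u = u' ∧ v = v' := by
  have e1 := congrArg (eval 1) he
  have e2 := congrArg (eval (-1)) he
  rw [(palOf_spec h2 hQ u v).2.1, (palOf_spec h2 hQ' u' v').2.1] at e1
  rw [(palOf_spec h2 hQ u v).2.2, (palOf_spec h2 hQ' u' v').2.2] at e2
  subst e1 e2
  refine ⟨mul_left_cancel₀ ?_ (add_right_cancel he), rfl, rfl⟩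
  exact (((monic_X_pow 2).sub_of_left (by simp)).pow 2).ne_zero

variable [Finite F]

theorem palSet_finite (m : ℕ) : {P : F[X] | IsPal m P}.Finite :=
  (recSet_finite (2 * m)).subset fun P hP => ⟨hP.isRec, hP.2.1⟩

theorem pow_le_ncard_pal (h2 : (2 : F) ≠ 0) : ∀ m, Nat.card F ^ m ≤ {P : F[X] | IsPal m P}.ncard
  | 0 => by
    rw [pow_zero, Nat.one_le_iff_ne_zero, ← Nat.pos_iff_ne_zero, Set.ncard_pos (palSet_finite 0)]
    refine ⟨1, monic_one, natDegree_one, ?_⟩
    rw [show (1 : F[X]) = C 1 from C_1.symm, reflect_C]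
    simp
  | 1 => by
    rw [pow_one, ← Set.ncard_univ]
    refine Set.ncard_le_ncard_of_injOn (fun c => X ^ 2 + C c * X ^ 1 + C 1 * X ^ 0) (fun c _ => ?_) ?_ (palSet_finite 1)
    · have hd : (C c * X ^ 1 + C 1 * X ^ 0 : F[X]).natDegree ≤ 1 :=
        (natDegree_add_le _ _).trans (max_le (natDegree_C_mul_X_pow_le _ _) ((natDegree_C_mul_X_pow_le _ _).trans (by omega)))
      have hlt : (C c * X ^ 1 + C 1 * X ^ 0 : F[X]).degree < (X ^ 2 : F[X]).degree :=
        degree_lt_degree (by rw [natDegree_X_pow]; omega)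
      rw [Set.mem_setOf_eq, add_assoc]
      refine ⟨(monic_X_pow 2).add_of_left hlt, ?_, ?_⟩
      · rw [natDegree_eq_of_degree_eq (degree_add_eq_left_of_degree_lt hlt), natDegree_X_pow]
      · rw [reflect_add, reflect_add, reflect_C_mul_X_pow, reflect_C_mul_X_pow,
          show (X : F[X]) ^ 2 = C 1 * X ^ 2 by simp, reflect_C_mul_X_pow]
        simp [revAt_le]
        ring
    · intro c _ c' _ he
      simpa [coeff_X_pow] using congrArg (fun T : F[X] => T.coeff 1) he
  | m + 2 => by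
    have ih := pow_le_ncard_pal h2 m
    calc Nat.card F ^ (m + 2) ≤ {P : F[X] | IsPal m P}.ncard * Nat.card (F × F) := by
          rw [Nat.card_prod, pow_add, pow_two]; exact Nat.mul_le_mul ih le_rfl
      _ = ({P : F[X] | IsPal m P} ×ˢ (Set.univ : Set (F × F))).ncard := by rw [Set.ncard_prod, Set.ncard_univ]
      _ ≤ _ := by
        refine Set.ncard_le_ncard_of_injOn (fun x => palOf m x.1 x.2.1 x.2.2)
          (fun x hx => (palOf_spec h2 hx.1 _ _).1) ?_ (palSet_finite _)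
        rintro ⟨Q, u, v⟩ hx ⟨Q', u', v'⟩ hy he
        obtain ⟨rfl, rfl, rfl⟩ := palOf_injective h2 hx.1 hy.1 he
        rfl

/-- At least half of all pairs have product times `δ` a square. -/
theorem ncard_square_pairs (h2 : (2 : F) ≠ 0) {δ : F} (hδ : δ ≠ 0) :
    Nat.card F ^ 2 ≤ 2 * {p : F × F | IsSquare (p.1 * p.2 * δ)}.ncard := by
  haveI := Fintype.ofFinite F
  have hfib : Fintype.card F ≤ 2 * (Finset.univ.image fun x : F => x * x).card := by
    rw [← Finset.card_univ, Finset.card_eq_sum_card_image (fun x : F => x * x) Finset.univ, mul_comm]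
    refine Finset.sum_le_card_nsmul _ _ 2 fun y _ => ?_
    by_cases hy : ∃ x : F, x * x = y
    · obtain ⟨x, rfl⟩ := hy
      refine (Finset.card_le_card (t := ({x, -x} : Finset F)) fun z hz => ?_).trans Finset.card_le_two
      simp only [Finset.mem_filter, Finset.mem_univ, true_and] at hz
      rcases mul_self_eq_mul_self_iff.1 hz with h | h <;> simp [h]
    · simp only [not_exists] at hy
      simp [hy]
  set Sq := Finset.univ.image fun x : F => x * x
  let f : F ⊕ (Fˣ × Sq) → F × F := fun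
    | Sum.inl v => (0, v)
    | Sum.inr (u, s) => ((u : F), (s : F) / ((u : F) * δ))
  have hinj : Function.Injective f := by
    rintro (v | ⟨u, s⟩) (v' | ⟨u', s'⟩) he <;> simp only [f, Prod.mk.injEq] at he
    · rw [he.2]
    · exact absurd he.1.symm u'.ne_zero
    · exact absurd he.1 u.ne_zero
    · obtain ⟨he1, he2⟩ := he
      obtain rfl := Units.ext he1
      rw [div_left_inj' (mul_ne_zero u.ne_zero hδ)] at he2
      rw [Subtype.ext he2]
  have hsub : Set.range f ⊆ {p : F × F | IsSquare (p.1 * p.2 * δ)} := by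
    rintro _ ⟨v | ⟨u, s⟩, rfl⟩
    · simp [f]
    · obtain ⟨x, -, hx⟩ := Finset.mem_image.1 s.2
      refine ⟨x, ?_⟩
      simp only [f]
      rw [hx]
      field_simp
  have h1 := Set.ncard_le_ncard hsub (Set.toFinite _)
  rw [Set.ncard_range_of_injective hinj, Nat.card_sum, Nat.card_prod, Nat.card_units,
    Nat.card_eq_fintype_card (α := Sq), Fintype.card_coe] at h1
  rw [Nat.card_eq_fintype_card] at h1 ⊢
  obtain ⟨k, hk⟩ : ∃ k, Fintype.card F = k + 1 := ⟨Fintype.card F - 1, by have := Fintype.card_pos (α := F); omega⟩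
  rw [hk] at hfib h1 ⊢
  simp only [Nat.add_sub_cancel] at h1
  nlinarith

/-- Realised characteristic polynomials bound the number of classes. -/
theorem ncard_le_classes {ι : Type} [Fintype ι] [DecidableEq ι] {Γ : Type*} [Group Γ] [Finite Γ]
    (ρ : Γ →* Matrix ι ι F) (T : Set F[X]) (hT : ∀ P ∈ T, ∃ g, (ρ g).charpoly = P) :
    T.ncard ≤ Nat.card (ConjClasses Γ) := by
  let f : ConjClasses Γ → F[X] := Quotient.lift (fun g => (ρ g).charpoly) fun g h hgh => by
    obtain ⟨c, rfl⟩ := isConj_iff.1 (show IsConj g h from hgh)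
    let u : (Matrix ι ι F)ˣ := (Units.map ρ) (toUnits c)
    have h1 : ρ (c * g * c⁻¹) = (u : Matrix ι ι F) * ρ g * ((u⁻¹ : (Matrix ι ι F)ˣ) : Matrix ι ι F) := by
      simp [u, map_mul]
    rw [h1, Matrix.coe_units_inv, Matrix.charpoly_units_conj]
  refine (Set.ncard_le_ncard (t := f '' Set.univ) (fun P hP => ?_) (Set.finite_univ.image f)).trans
    ((Set.ncard_image_le Set.finite_univ).trans (le_of_eq (Set.ncard_univ _)))
  obtain ⟨g, hg⟩ := hT P hP
  exact ⟨ConjClasses.mk g, Set.mem_univ _, hg⟩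

end Cfsg.Agent.SpOClassCount
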