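import Cfsg.Agent.Lib.SLComm.Twist
import Cfsg.Agent.Lib.Forms.UnipotentClasses
import Cfsg.Agent.Lib.SpOClassCount.Poly
/-!
A matrix model of an automorphism, split at the eigenvalues `1` and `-1`: `exists_model`.
-/
set_option autoImplicit false
set_option linter.unusedVariables false
set_option linter.unusedSectionVars false

namespace Cfsg.Agent.SpOClassCount

open Polynomial SLComm Matrix Cfsg.Agent.Forms.UnipCent
open scoped Classical

variable {F : Type*} [Field F] [Finite F]

/-- The shift of a chain. -/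
def shf (F : Type*) [Field F] (e : ℕ) : Matrix (Fin e) (Fin e) F :=
  Matrix.of fun i j => if (i : ℕ) = (j : ℕ) + 1 then 1 else 0

theorem shf_pow_mulVec (e r : ℕ) : ∀ (v : Fin e → F) (i : Fin e),
    ((shf F e ^ r) *ᵥ v) i = if h : r ≤ i.val then v ⟨i.val - r, by omega⟩ else 0 := by
  induction r with
  | zero => intro v i; simp
  | succ r ih =>
    intro v i
    rw [pow_succ', ← Matrix.mulVec_mulVec]
    simp only [Matrix.mulVec, dotProduct, shf, Matrix.of_apply, ite_mul, one_mul, zero_mul]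
    by_cases hi : 0 < i.val
    · rw [Finset.sum_eq_single ⟨i.val - 1, by omega⟩]
      · rw [if_pos (by simp only; omega)]
        refine (ih v ⟨i.val - 1, by omega⟩).trans ?_
        by_cases h : r + 1 ≤ i.val
        · rw [dif_pos (by simp only; omega), dif_pos h]
          exact congrArg v (Fin.ext (by simp only; omega))
        · rw [dif_neg (by simp only; omega), dif_neg h]
      · intro j _ hj
        rw [if_neg fun h => hj (Fin.ext (by simp only; omega))]
      · simp
    · rw [dif_neg (by omega)]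
      exact Finset.sum_eq_zero fun j _ => if_neg (by omega)

theorem sim_chain {c : F} (hc : c ≠ 0) {e : ℕ} (he : 0 < e) :
    Sim (Matrix.toLin' (c • (1 + shf F e))) (Cyc ((X - C c) ^ e)) := by
  set φ := Matrix.toLin' (c • (1 + shf F e))
  set v : Fin e → F := Pi.single ⟨0, he⟩ 1
  have hsub : ∀ r, aeval φ ((X - C c) ^ r) = Matrix.toLin' (c ^ r • shf F e ^ r) := fun r => by
    have h : φ - algebraMap F (Module.End F (Fin e → F)) c = Matrix.toLinAlgEquiv' (c • shf F e) := by
      show Matrix.toLinAlgEquiv' (c • (1 + shf F e)) - _ = _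
      rw [smul_add, map_add, map_smul Matrix.toLinAlgEquiv' c (1 : Matrix (Fin e) (Fin e) F), map_one,
        Algebra.algebraMap_eq_smul_one, add_sub_cancel_left]
    rw [map_pow, map_sub, aeval_X, aeval_C, h, ← map_pow, _root_.smul_pow]
    rfl
  have hev : ∀ r (w : Fin e → F), aeval φ ((X - C c) ^ r) w = c ^ r • ((shf F e ^ r) *ᵥ w) := fun r w => by
    rw [hsub, Matrix.toLin'_apply, Matrix.smul_mulVec]
  refine sim_cyc (v := v) ((monic_X_sub_C c).pow e) (by simp [natDegree_pow]) ?_ ?_
  · rw [eq_top_iff, ← (Pi.basisFun F (Fin e)).span_eq, Submodule.span_le]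
    rintro _ ⟨i, rfl⟩
    refine mem_cspan.2 ⟨C ((c ^ i.val)⁻¹) * (X - C c) ^ i.val, ?_⟩
    rw [map_mul, aeval_C, Module.End.mul_apply, Module.algebraMap_end_apply, hev, smul_smul,
      inv_mul_cancel₀ (pow_ne_zero _ hc), one_smul, Pi.basisFun_apply]
    funext j
    rw [shf_pow_mulVec]
    by_cases h : i.val ≤ j.val
    · rw [dif_pos h]
      simp only [v, Pi.single_apply, Fin.ext_iff]
      exact if_congr (by omega) rfl rfl
    · rw [dif_neg h, Pi.single_eq_of_ne (fun e0 => h (le_of_eq (congrArg Fin.val e0).symm))]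
  · rw [hev]
    funext j
    rw [Pi.smul_apply, shf_pow_mulVec, dif_neg (by omega), smul_zero]
    rfl

theorem sim_jordan {c : F} (hc : c ≠ 0) {l : ℕ} (d : Fin l → ℕ) (hd : ∀ k, 1 ≤ d k) :
    Sim (Matrix.toLin' (c • (1 + Jordan.NT F d))) (dcyc (List.ofFn fun k => (X - C c) ^ d k)) := by
  refine Sim.trans ?_ (dcyc_ofFn (fun k => Matrix.toLin' (c • (1 + shf F (d k)))) _ fun k => sim_chain hc (hd k))
  refine ⟨{ toFun := fun v k i => v ⟨k, i⟩, invFun := fun w x => w x.1 x.2, map_add' := fun _ _ => rfl,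
            map_smul' := fun _ _ => rfl, left_inv := fun _ => rfl, right_inv := fun _ => rfl }, fun v => ?_⟩
  funext k i
  show Matrix.toLin' (c • (1 + Jordan.NT F d)) v ⟨k, i⟩ = Matrix.toLin' (c • (1 + shf F (d k))) (fun j => v ⟨k, j⟩) i
  simp only [Matrix.toLin'_apply, Matrix.mulVec, dotProduct, ← Finset.univ_sigma_univ, Finset.sum_sigma]
  rw [Finset.sum_eq_single k]
  · refine Finset.sum_congr rfl fun j _ => ?_
    simp [Matrix.one_apply, Jordan.NT_apply, shf]
  · intro k' _ hk
    refine Finset.sum_eq_zero fun j _ => ?_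
    simp [Matrix.one_apply, Jordan.NT_apply, Ne.symm hk]
  · simp

theorem sim_fromBlocks {ι κ : Type*} [Fintype ι] [DecidableEq ι] [Fintype κ] [DecidableEq κ]
    (A : Matrix ι ι F) (D : Matrix κ κ F) :
    Sim (Matrix.toLin' (Matrix.fromBlocks A 0 0 D)) ((Matrix.toLin' A).prodMap (Matrix.toLin' D)) :=
  ⟨LinearEquiv.sumArrowLequivProdArrow ι κ F F, fun v => by
    refine Prod.ext ?_ ?_ <;> funext i <;>
      simp [Matrix.mulVec, dotProduct, Fintype.sum_sum_type, Matrix.fromBlocks]⟩

theorem exists_matrix {L : List F[X]} (hL : ∀ h ∈ L, h.Monic) :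
    ∃ (r : ℕ) (M : Matrix (Fin r) (Fin r) F), Sim (dcyc L) (Matrix.toLin' M) := by
  haveI := finite_dcyc hL
  let b := Module.finBasis F (∀ i : Fin L.length, AdjoinRoot (L.get i))
  refine ⟨_, LinearMap.toMatrix b b (dcyc L), b.equivFun, fun v => ?_⟩
  rw [Matrix.toLin'_apply]
  exact (LinearMap.toMatrix_mulVec_repr b b (dcyc L) v).symm

theorem isUnit_sub_of_coprime {L : List F[X]} (hL : ∀ h ∈ L, IsCoprime (X - C (1 : F)) h) {r : ℕ}
    {M : Matrix (Fin r) (Fin r) F} (c : F) (hc : ∀ h ∈ L, IsCoprime (X - C c) h)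
    (hs : Sim (dcyc L) (Matrix.toLin' M)) : IsUnit (M - c • 1) := by
  rw [← Matrix.mulVec_injective_iff_isUnit]
  refine (injective_iff_map_eq_zero (Matrix.mulVecLin (M - c • 1))).2 fun w hw => ?_
  obtain ⟨e, he⟩ := hs
  obtain ⟨v, rfl⟩ := e.surjective w
  have h1 : e (dcyc L v - c • v) = 0 := by
    rw [map_sub, map_smul, he]
    simpa [Matrix.mulVecLin_apply, Matrix.sub_mulVec, Matrix.smul_mulVec, Matrix.one_mulVec] using hw
  rw [LinearEquiv.map_eq_zero_iff] at h1
  suffices v = 0 by rw [this, map_zero]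
  funext i
  have h2 : AdjoinRoot.root (L.get i) * v i - c • v i = 0 := congrFun h1 i
  obtain ⟨u, w', huw⟩ := hc _ (L.get_mem i)
  have h3 : AdjoinRoot.mk (L.get i) u * AdjoinRoot.mk (L.get i) (X - C c) = 1 := by
    rw [← map_mul, ← map_one (AdjoinRoot.mk (L.get i)), AdjoinRoot.mk_eq_mk]
    exact ⟨-w', by linear_combination huw⟩
  calc v i = AdjoinRoot.mk (L.get i) u * (AdjoinRoot.mk (L.get i) (X - C c) * v i) := by rw [← mul_assoc, h3, one_mul]
    _ = 0 := by
      rw [map_sub, AdjoinRoot.mk_X, AdjoinRoot.mk_C, sub_mul, ← AdjoinRoot.algebraMap_eq, ← Algebra.smul_def, h2,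
        mul_zero]

theorem rootMult_tupOf (c : F) : ∀ {ps : List (F[X] × ℕ)}, PairsOk ps → ∀ j,
    (tupOf ps j).rootMultiplicity c = ps.countP (fun x => open Classical in decide (x = (X - C c, j)))
  | [], _, j => by simp [tupOf]
  | x :: ps, hok, j => by
    classical
    have hok' : PairsOk ps := fun y hy => hok y (List.mem_cons_of_mem _ hy)
    obtain ⟨hx, hxm, -, -⟩ := hok x List.mem_cons_self
    rw [tupOf_cons, List.countP_cons, ← rootMult_tupOf c hok' j]
    by_cases hj : x.2 = j
    · rw [if_pos hj, rootMultiplicity_mul (mul_ne_zero hx.ne_zero (tupOf_monic hok' j).1.ne_zero), add_comm]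
      congr 1
      by_cases hc : x.1 = X - C c
      · rw [hc, rootMultiplicity_X_sub_C_self, if_pos (decide_eq_true (Prod.ext hc hj))]
      · rw [if_neg (by simpa [Prod.ext_iff, hj] using hc), rootMultiplicity_eq_zero]
        intro hr
        exact hc (eq_of_monic_of_associated hxm (monic_X_sub_C c)
          (((irreducible_X_sub_C c).associated_of_dvd hx (dvd_iff_isRoot.2 hr)).symm))
    · rw [if_neg hj, one_mul, if_neg (by simp [Prod.ext_iff, hj]), add_zero]

/-- The model matrix. -/
def Tm {a b r : ℕ} (dP : Fin a → ℕ) (dM : Fin b → ℕ) (M : Matrix (Fin r) (Fin r) F) :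
    Matrix ((Ix dP ⊕ Ix dM) ⊕ Fin r) ((Ix dP ⊕ Ix dM) ⊕ Fin r) F :=
  Matrix.fromBlocks (Matrix.fromBlocks (1 + Jordan.NT F dP) 0 0 (-(1 + Jordan.NT F dM))) 0 0 M

theorem chains_of_list (c : F) (hc : c ≠ 0) {ps : List (F[X] × ℕ)} (hok : PairsOk ps) :
    ∃ (a : ℕ) (d : Fin a → ℕ), (∀ k, 1 ≤ d k) ∧
      (∀ j, Fintype.card {k // d k = j} = (tupOf ps j).rootMultiplicity c) ∧
      Sim (dcyc (blocks (ps.filter fun x => open Classical in decide (x.1 = X - C c))))
        (Matrix.toLin' (c • (1 + Jordan.NT F d))) := by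
  classical
  set L := ps.filter fun x => decide (x.1 = X - C c) with hL
  have hmem : ∀ x ∈ L, x ∈ ps ∧ x.1 = X - C c := fun x hx => by
    obtain ⟨h1, h2⟩ := List.mem_filter.1 hx
    exact ⟨h1, of_decide_eq_true h2⟩
  let d : Fin L.length → ℕ := fun k => (L.get k).2
  have hd : ∀ k, 1 ≤ d k := fun k => (hok _ (hmem _ (L.get_mem k)).1).2.2.1
  refine ⟨L.length, d, hd, fun j => ?_, ?_⟩
  · rw [rootMult_tupOf c hok, Fintype.card_subtype]
    have h1 : (Finset.univ.val.map d).count j = (L.map Prod.snd).count j := by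
      rw [Fin.univ_val_map, Multiset.coe_count]
      congr 1
      conv_rhs => rw [← List.ofFn_get L, List.map_ofFn]
      rfl
    rw [Multiset.count_map] at h1
    refine Eq.trans ?_ (h1.trans ?_)
    · simp [Finset.card_def, eq_comm]
    · rw [List.count, List.countP_map, hL, List.countP_filter]
      refine List.countP_congr fun x _ => ?_
      simp [Prod.ext_iff, and_comm]
  · refine ((sim_jordan hc d hd).trans ?_).symm
    rw [show blocks L = List.ofFn fun k => (X - C c) ^ d k from ?_]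
    · exact Sim.refl _
    · conv_lhs => rw [blocks, ← List.ofFn_get L, List.map_ofFn]
      congr 1
      funext k
      show (L.get k).1 ^ (L.get k).2 = _
      rw [(hmem _ (L.get_mem k)).2]

/-- The model of a list of pairs. -/
theorem exists_model (h2 : (2 : F) ≠ 0) {ps : List (F[X] × ℕ)} (hok : PairsOk ps) :
    ∃ (a b r : ℕ) (dP : Fin a → ℕ) (dM : Fin b → ℕ) (M : Matrix (Fin r) (Fin r) F),
      (∀ k, 1 ≤ dP k) ∧ (∀ k, 1 ≤ dM k) ∧
      (∀ j, Fintype.card {k // dP k = j} = (tupOf ps j).rootMultiplicity 1) ∧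
      (∀ j, Fintype.card {k // dM k = j} = (tupOf ps j).rootMultiplicity (-1)) ∧
      IsUnit (M - 1) ∧ IsUnit (M + 1) ∧
      Sim (dcyc (blocks ps)) (Matrix.toLin' (Tm dP dM M)) := by
  classical
  obtain ⟨a, dP, hP, cP, sP⟩ := chains_of_list (1 : F) one_ne_zero hok
  obtain ⟨b, dM, hM, cM, sM⟩ := chains_of_list (-1 : F) (neg_ne_zero.2 one_ne_zero) hok
  set p1 : F[X] × ℕ → Bool := fun x => decide (x.1 = X - C (1 : F))
  set p2 : F[X] × ℕ → Bool := fun x => decide (x.1 = X - C (-1 : F))
  set R := (ps.filter fun x => !p1 x).filter fun x => !p2 x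
  have hne : (X - C (1 : F)) ≠ X - C (-1) := fun h => h2 (by
    have := congrArg (eval (1 : F)) h
    simp at this
    linear_combination -this)
  have hperm : ps.Perm ((ps.filter p1 ++ ps.filter p2) ++ R) := by
    refine (List.filter_append_perm p1 ps).symm.trans ?_
    rw [List.append_assoc]
    refine List.Perm.append_left _ ?_
    refine (List.filter_append_perm p2 (ps.filter fun x => !p1 x)).symm.trans (List.Perm.append_right _ ?_)
    rw [List.filter_filter]
    refine List.Perm.of_eq (List.filter_congr fun x _ => ?_)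
    by_cases h : x.1 = X - C (-1 : F)
    · have hp1 : p1 x = false := decide_eq_false fun e => hne (e.symm.trans h)
      have hp2 : p2 x = true := decide_eq_true h
      simp [hp1, hp2]
    · simp [show p2 x = false from decide_eq_false h]
  have hR : ∀ h ∈ blocks R, IsCoprime (X - C (1 : F)) h ∧ IsCoprime (X - C (-1 : F)) h ∧ h.Monic := by
    intro h hh
    obtain ⟨x, hx, rfl⟩ := List.mem_map.1 hh
    obtain ⟨hx1, hx2⟩ := List.mem_filter.1 hx
    obtain ⟨hx0, hx1⟩ := List.mem_filter.1 hx1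
    obtain ⟨hi, him, -, -⟩ := hok x hx0
    have key : ∀ c : F, x.1 ≠ X - C c → IsCoprime (X - C c) (x.1 ^ x.2) := fun c hc =>
      IsCoprime.pow_right ((irreducible_X_sub_C c).coprime_iff_not_dvd.2 fun hd =>
        hc (eq_of_monic_of_associated him (monic_X_sub_C c) (((irreducible_X_sub_C c).associated_of_dvd hi hd).symm)))
    exact ⟨key 1 (by simpa [p1] using hx1), key (-1) (by simpa [p2] using hx2), him.pow _⟩
  obtain ⟨r, M, sR⟩ := exists_matrix fun h hh => (hR h hh).2.2
  have u1 : IsUnit (M - (1 : F) • (1 : Matrix (Fin r) (Fin r) F)) :=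
    isUnit_sub_of_coprime (fun h hh => (hR h hh).1) 1 (fun h hh => (hR h hh).1) sR
  have u2 : IsUnit (M - (-1 : F) • (1 : Matrix (Fin r) (Fin r) F)) :=
    isUnit_sub_of_coprime (fun h hh => (hR h hh).1) (-1) (fun h hh => (hR h hh).2.1) sR
  rw [one_smul] at u1 sP
  rw [neg_one_smul, sub_neg_eq_add] at u2
  rw [neg_one_smul] at sM
  refine ⟨a, b, r, dP, dM, M, hP, hM, cP, cM, u1, u2, ?_⟩
  refine (dcyc_perm (blocks_perm hperm)).trans ?_
  rw [show blocks ((ps.filter p1 ++ ps.filter p2) ++ R) = (blocks (ps.filter p1) ++ blocks (ps.filter p2)) ++ blocks R by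
    simp [blocks]]
  refine (dcyc_append _ _).trans ((((dcyc_append _ _).trans ((sP.prodMap sM).trans (sim_fromBlocks _ _).symm)).prodMap
    sR).trans (sim_fromBlocks _ _).symm)

/-- A block of an invariant form joining a unipotent operator to one without eigenvalue one vanishes. -/
theorem offdiag_zero {ι κ : Type*} [Fintype ι] [DecidableEq ι] [Fintype κ] [DecidableEq κ]
    {N : Matrix ι ι F} {K : ℕ} (hN : N ^ K = 0) {B : Matrix κ κ F} (hB : IsUnit (B - 1))
    {H : Matrix ι κ F} (h : (1 + N)ᵀ * H * B = H) : H = 0 := by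
  obtain ⟨U, hU⟩ := hB.exists_right_inv
  have h1 : H * (B - 1) = -(Nᵀ * H * B) := by
    rw [transpose_add, transpose_one, Matrix.add_mul, Matrix.one_mul, Matrix.add_mul] at h
    rw [Matrix.mul_sub, Matrix.mul_one, eq_neg_iff_add_eq_zero, sub_add_eq_add_sub, h, sub_self]
  have h2 : H = (-Nᵀ) * H * (B * U) := by
    conv_lhs => rw [← Matrix.mul_one H, ← hU, ← Matrix.mul_assoc, h1]
    simp only [Matrix.neg_mul, Matrix.mul_assoc]
  have h3 : ∀ k, H = (-Nᵀ) ^ k * H * (B * U) ^ k := by
    intro k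
    induction k with
    | zero => simp
    | succ k ih =>
      conv_lhs => rw [ih, h2]
      rw [pow_succ, pow_succ']
      simp only [Matrix.mul_assoc]
  rw [h3 K, neg_pow, ← transpose_pow, hN, transpose_zero, mul_zero, Matrix.zero_mul, Matrix.zero_mul]

end Cfsg.Agent.SpOClassCount
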