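import Cfsg.Agent.Lib.SpOClassCount.Series
/-!
# Counting series in odd dimension

* `rwgt`, `rcoef` : at exponent one, at most simple roots at `1` and `-1`;
* `wcnt_odd_five_le` : `5 T ≤ 73 q^n` for `q ≥ 5`;
* `wcnt_odd_three_le` : `5 (T + 3 R) ≤ 292 * 3^n`.
-/
set_option autoImplicit false
set_option linter.unusedVariables false
set_option linter.unusedSectionVars false

namespace Cfsg.Agent.SpOClassCount

open SLComm

/-- Palindromic polynomials of degree `2 m` without the roots `1`, `-1`. -/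
def cpal (q : ℕ) : ℕ → ℕ
  | 0 => 1
  | 1 => q - 2
  | m + 2 => q ^ m * (q - 1) ^ 2

/-- The weighted number with at most simple roots at `1` and `-1`. -/
def rwgt (q d : ℕ) : ℕ :=
  if d % 2 = 0 then cpal q (d / 2) + (if d < 2 then 0 else 4 * cpal q (d / 2 - 1)) else 4 * cpal q (d / 2)

/-- The coefficients restricted at exponent one. -/
def rcoef (q w d : ℕ) : ℕ := if w = 1 then rwgt q d else scoef 1 q w d

theorem wcnt_congr {c c' : ℕ → ℕ → ℕ} : ∀ (ws : List ℕ), (∀ w ∈ ws, c w = c' w) → ∀ n,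
    wcnt c ws n = wcnt c' ws n
  | [], _, n => rfl
  | w :: ws, h, n => by
    simp only [wcnt]
    refine Finset.sum_congr rfl fun j _ => ?_
    rw [h w List.mem_cons_self, wcnt_congr ws (fun v hv => h v (List.mem_cons_of_mem _ hv))]

theorem wcnt_cons_lt {c : ℕ → ℕ → ℕ} {w : ℕ} (ws : List ℕ) {n : ℕ} (h : n < w) :
    wcnt c (w :: ws) n = c w 0 * wcnt c ws n := by
  simp only [wcnt]
  rw [show (Finset.range (n + 1)).filter (fun j => w * j ≤ n) = {0} by
    ext j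
    simp only [Finset.mem_filter, Finset.mem_range, Finset.mem_singleton]
    constructor
    · rintro ⟨-, hj⟩
      by_contra h0
      have := Nat.le_mul_of_pos_right w (Nat.pos_of_ne_zero h0)
      omega
    · rintro rfl; simp]
  simp

theorem scoef_zero (q w : ℕ) (hw : w % 2 = 0 ∨ w % 2 = 1) : scoef 1 q w 0 = 1 := by
  simp [scoef, wgt, wgtE, palc]

theorem wcnt_downTwo_eq (q : ℕ) {n N M : ℕ} (hn : n ≤ M) (hM : M ≤ N) :
    wcnt (scoef 1 q) (downTwo N) n = wcnt (scoef 1 q) (downTwo M) n := by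
  induction N, hM using Nat.le_induction with
  | base => rfl
  | succ k hk ih =>
    rcases k with _ | k
    · rw [show M = 0 by omega]; rfl
    · rw [show downTwo (k + 1 + 1) = (k + 2) :: downTwo (k + 1) from rfl, wcnt_cons_lt _ (by omega),
        scoef_zero q _ (by omega), one_mul, ih]

/-! ### `q ≥ 5` -/

/-- The majorant of the factor at weight `w`, for `q = 5`. -/
def gainFive (s w : ℕ) : ℚ × ℚ :=
  if w % 2 = s then
    if w % 2 = 1 then
      ((1 + 6 * (1 / 5) ^ w + ((1 / 5) ^ w) ^ 2) / (1 - (1 / 5) ^ (w - 1)),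
        (1 / 5) ^ (w / 2) * (4 * (1 + (1 / 5) ^ w)) / (1 - (1 / 5) ^ (w - 1)))
    else
      ((1 + 6 * (1 / 5) ^ w + ((1 / 5) ^ w) ^ 2 + (1 / 5) ^ (w / 2) * (4 * (1 + (1 / 5) ^ w))) /
        (1 - (1 / 5) ^ (w - 1)), 0)
  else (1 / (1 - (1 / 5) ^ (w - 1)), 0)

theorem den_five_pos {w : ℕ} (hw : 2 ≤ w) : (0 : ℚ) < 1 - (1 / 5) ^ (w - 1) := by
  have : ((1 : ℚ) / 5) ^ (w - 1) < 1 := pow_lt_one₀ (by norm_num) (by norm_num) (by omega)
  linarith

section Five

variable {q : ℕ} (hq : 5 ≤ q)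
include hq

theorem inv_facts_five {w : ℕ} (hw : 2 ≤ w) :
    0 ≤ ((q : ℚ)⁻¹) ^ w ∧ ((q : ℚ)⁻¹) ^ w ≤ (1 / 5) ^ w ∧ (q : ℚ) * ((q : ℚ)⁻¹) ^ w = ((q : ℚ)⁻¹) ^ (w - 1) ∧
      ((q : ℚ)⁻¹) ^ (w - 1) ≤ (1 / 5) ^ (w - 1) ∧ (q : ℚ) * ((q : ℚ)⁻¹) ^ w < 1 := by
  have h5 : (5 : ℚ) ≤ q := by exact_mod_cast hq
  have hy : (q : ℚ)⁻¹ ≤ 1 / 5 := by rw [one_div]; exact inv_anti₀ (by norm_num) h5
  have hy0 : (0 : ℚ) ≤ (q : ℚ)⁻¹ := by positivity
  have e : (q : ℚ) * ((q : ℚ)⁻¹) ^ w = ((q : ℚ)⁻¹) ^ (w - 1) := by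
    obtain ⟨v, rfl⟩ : ∃ v, w = v + 1 := ⟨w - 1, by omega⟩
    rw [Nat.add_sub_cancel, pow_succ', ← mul_assoc, mul_inv_cancel₀ (by positivity), one_mul]
  refine ⟨by positivity, pow_le_pow_left₀ hy0 hy w, e, pow_le_pow_left₀ hy0 hy _, ?_⟩
  rw [e]
  have := den_five_pos hw
  have := pow_le_pow_left₀ hy0 hy (w - 1)
  linarith

/-- The factor at weight `w` is at most its value at `q = 5`. -/
theorem factor_five_le (s : ℕ) {w : ℕ} (hw : 2 ≤ w) (D : ℕ) :
    (∑ d ∈ Finset.range D, (if w * d % 2 = 0 then (scoef s q w d : ℚ) * ((q : ℚ)⁻¹) ^ (w * d / 2) else 0)) ≤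
        (gainFive s w).1 ∧
      (∑ d ∈ Finset.range D, (if w * d % 2 = 1 then (scoef s q w d : ℚ) * ((q : ℚ)⁻¹) ^ (w * d / 2) else 0)) ≤
        (gainFive s w).2 := by
  obtain ⟨hz0, hz, hqz, hh, hqz1⟩ := inv_facts_five hq hw
  have hden := den_five_pos hw
  set y := (q : ℚ)⁻¹ with hy
  have hy0 : 0 ≤ y := by positivity
  have hy5 : y ≤ 1 / 5 := by
    have h3 : (5 : ℚ) ≤ q := by exact_mod_cast hq
    rw [hy, one_div]; exact inv_anti₀ (by norm_num) h3
  set z := y ^ w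
  set den : ℚ := 1 - (1 / 5) ^ (w - 1)
  have hdle : den ≤ 1 - q * z := by rw [hqz]; simp only [den]; linarith
  have hE : ∀ D, ∑ m ∈ Finset.range D, (wgtE q m : ℚ) * z ^ m ≤
      (1 + 6 * (1 / 5) ^ w + ((1 / 5) ^ w) ^ 2) / den := fun D =>
    (wgtE_sum_le (q := q) (by omega) hz0 hqz1 D).trans (div_le_div₀ (by positivity) (by gcongr) hden hdle)
  have hO : ∀ D, y ^ (w / 2) * ∑ m ∈ Finset.range D, (wgtO q m : ℚ) * z ^ m ≤
      (1 / 5) ^ (w / 2) * (4 * (1 + (1 / 5) ^ w)) / den := fun D => by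
    rw [mul_div_assoc]
    exact mul_le_mul (pow_le_pow_left₀ hy0 hy5 _)
      ((wgtO_sum_le (q := q) (by omega) hz0 hqz1 D).trans (div_le_div₀ (by positivity) (by gcongr) hden hdle))
      (Finset.sum_nonneg fun m _ => by positivity) (by positivity)
  have hP : ∀ D, ∑ m ∈ Finset.range D, ((q : ℚ) * z) ^ m ≤ 1 / den := fun D =>
    (geo_le (q := q) (by omega) hz0 hqz1 D).trans (one_div_le_one_div_of_le hden hdle)
  have ev : ∀ m, y ^ (w * (2 * m) / 2) = z ^ m := fun m => by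
    rw [← pow_mul]; congr 1
    rw [show w * (2 * m) = 2 * (w * m) by ring]; omega
  have od : ∀ m, y ^ (w * (2 * m + 1) / 2) = y ^ (w / 2) * z ^ m := fun m => by
    rw [← pow_mul, ← pow_add]; congr 1
    rw [show w * (2 * m + 1) = 2 * (w * m) + w by ring]; omega
  have me : ∀ m, w * (2 * m) % 2 = 0 := fun m => by rw [show w * (2 * m) = 2 * (w * m) by ring]; omega
  have mo : ∀ m, w * (2 * m + 1) % 2 = w % 2 := fun m => by
    rw [show w * (2 * m + 1) = 2 * (w * m) + w by ring]; omega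
  have s2 : ∀ m : ℕ, 2 * m % 2 = 0 ∧ (2 * m + 1) % 2 = 1 ∧ 2 * m / 2 = m ∧ (2 * m + 1) / 2 = m := fun m => by omega
  constructor
  · refine (sum_pairs_le _ (fun d => by split_ifs <;> positivity) D).trans ?_
    simp only [me, mo, if_true, ev, od]
    unfold gainFive scoef wgt palc
    simp only [(s2 _).1, (s2 _).2.1, (s2 _).2.2.1, (s2 _).2.2.2, if_true, one_ne_zero, if_false]
    split_ifs with h1 h2 h3 h4 <;> try (exfalso; omega)
    all_goals simp only [Nat.cast_zero, zero_mul, add_zero, Nat.cast_pow]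
    all_goals first
      | exact hE D
      | (rw [Finset.sum_add_distrib, add_div]
         refine add_le_add (hE D) (le_trans (le_of_eq ?_) (hO D))
         rw [Finset.mul_sum]
         exact Finset.sum_congr rfl fun m _ => by ring)
      | (simpa only [← mul_pow] using hP D)
  · refine (sum_pairs_le _ (fun d => by split_ifs <;> positivity) D).trans ?_
    simp only [me, mo, zero_ne_one, if_false, zero_add, od]
    unfold gainFive scoef wgt palc
    simp only [(s2 _).2.1, (s2 _).2.2.2, one_ne_zero, if_false]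
    split_ifs with h1 h2 <;> try (exfalso; omega)
    all_goals simp only [Nat.cast_zero, zero_mul, Finset.sum_const_zero, le_refl]
    refine le_trans (le_of_eq ?_) (hO D)
    rw [Finset.mul_sum]
    exact Finset.sum_congr rfl fun m _ => by ring

/-- The product of the factors. -/
def prodFive : List ℕ → ℚ
  | [] => 1
  | w :: ws => ((gainFive 1 w).1 + (gainFive 1 w).2) * prodFive ws

omit hq in
theorem gainFive_facts {w : ℕ} (hw : 2 ≤ w) :
    0 ≤ (gainFive 1 w).1 ∧ 0 ≤ (gainFive 1 w).2 ∧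
      (gainFive 1 w).1 + (gainFive 1 w).2 ≤ (gain 1 w).1 + (gain 1 w).2 := by
  have h5 := den_five_pos hw
  have h3 := den_pos hw
  have hz : ((1 : ℚ) / 5) ^ w ≤ (1 / 3) ^ w := pow_le_pow_left₀ (by norm_num) (by norm_num) _
  have ha : ((1 : ℚ) / 5) ^ (w / 2) ≤ (1 / 3) ^ (w / 2) := pow_le_pow_left₀ (by norm_num) (by norm_num) _
  have hd : (1 : ℚ) - (1 / 3) ^ (w - 1) ≤ 1 - (1 / 5) ^ (w - 1) :=
    sub_le_sub_left (pow_le_pow_left₀ (by norm_num) (by norm_num) _) _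
  unfold gainFive gain
  split_ifs with h1 h2
  · refine ⟨div_nonneg (by positivity) h5.le, div_nonneg (by positivity) h5.le, ?_⟩
    dsimp only
    exact add_le_add (div_le_div₀ (by positivity) (by gcongr) h3 hd) (div_le_div₀ (by positivity) (by gcongr) h3 hd)
  · refine ⟨div_nonneg zero_le_one h5.le, le_rfl, ?_⟩
    dsimp only
    rw [add_zero, add_zero]
    exact one_div_le_one_div_of_le h3 hd

omit hq in
theorem prodFive_tail : ∀ n, 20 ≤ n → 0 ≤ prodFive (downTwo n) ∧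
    prodFive (downTwo n) * (1 + tl n) ≤ prodFive (downTwo 20) * (1 + tl 20) := by
  intro n hn
  induction n, hn using Nat.le_induction with
  | base =>
    refine ⟨?_, le_rfl⟩
    decide +kernel
  | succ n hn ih =>
    obtain ⟨k, rfl⟩ : ∃ k, n = k + 1 := ⟨n - 1, by omega⟩
    obtain ⟨g1, g2, g3⟩ := gainFive_facts (show 2 ≤ k + 2 by omega)
    have hg := g3.trans (gain_tail 1 (show 21 ≤ k + 2 by omega))
    rw [show downTwo (k + 1 + 1) = (k + 2) :: downTwo (k + 1) from rfl]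
    simp only [prodFive]
    refine ⟨mul_nonneg (add_nonneg g1 g2) ih.1, le_trans ?_ ih.2⟩
    set R : ℚ := (3 / 5) ^ (k + 2)
    have e1 : tl (k + 1) = 50 * R := by simp only [tl, R, pow_succ]; ring
    have e2 : tl (k + 1 + 1) = 30 * R := by simp only [tl, R]
    rw [e1, e2]
    have hR : 0 ≤ R := by positivity
    have hR1 : R ≤ 1 / 10000 :=
      (pow_le_pow_of_le_one (by norm_num) (by norm_num) (show 21 ≤ k + 2 by omega)).trans (by norm_num)
    have key : ((gainFive 1 (k + 2)).1 + (gainFive 1 (k + 2)).2) * (1 + 30 * R) ≤ 1 + 50 * R :=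
      (mul_le_mul_of_nonneg_right hg (by positivity)).trans (by nlinarith)
    calc _ = prodFive (downTwo (k + 1)) *
          (((gainFive 1 (k + 2)).1 + (gainFive 1 (k + 2)).2) * (1 + 30 * R)) := by ring
      _ ≤ _ := mul_le_mul_of_nonneg_left key ih.1

theorem sums_le_prod (R : ℕ) : ∀ ws : List ℕ, (∀ w ∈ ws, 2 ≤ w) →
    esum (scoef 1 q) (q : ℚ)⁻¹ ws R + osum (scoef 1 q) (q : ℚ)⁻¹ ws R ≤ prodFive ws
  | [], _ => by
    refine le_trans (le_of_eq (show _ = esum (scoef 1 q) (q : ℚ)⁻¹ [] R by simp [osum, wcnt])) ?_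
    refine (Finset.sum_le_sum_of_subset_of_nonneg (Finset.range_subset_range.2 (Nat.le_succ R))
      fun m _ _ => by positivity).trans ?_
    rw [Finset.sum_range_succ']
    simp [wcnt, prodFive]
  | w :: ws, h => by
    have hw := h w List.mem_cons_self
    have ih := sums_le_prod R ws fun v hv => h v (List.mem_cons_of_mem _ hv)
    obtain ⟨g1, g2, -⟩ := gainFive_facts hw
    have hy0 : (0 : ℚ) ≤ (q : ℚ)⁻¹ := by positivity
    have hy1 : (q : ℚ)⁻¹ ≤ 1 := inv_le_one_of_one_le₀ (by exact_mod_cast (by omega : 1 ≤ q))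
    obtain ⟨r1, r2⟩ := esum_cons_le (scoef 1 q) hy0 (by omega : 0 < w) ws
      (fun D => (factor_five_le hq 1 hw D).1) (fun D => (factor_five_le hq 1 hw D).2) R
    simp only [prodFive]
    set E' := esum (scoef 1 q) (q : ℚ)⁻¹ ws R
    set O' := osum (scoef 1 q) (q : ℚ)⁻¹ ws R
    have hO : 0 ≤ O' := Finset.sum_nonneg fun r _ => by positivity
    have h1 := mul_le_mul_of_nonneg_right hy1 (mul_nonneg g2 hO)
    refine (add_le_add r1 r2).trans (le_trans ?_ (mul_le_mul_of_nonneg_left ih (add_nonneg g1 g2)))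
    linarith

end Five

theorem wcnt_one_cons_odd_le (c : ℕ → ℕ → ℕ) {y : ℚ} (q : ℕ) (hy : y = (q : ℚ)⁻¹) (hq : 0 < q)
    (ws : List ℕ) (n : ℕ) :
    (wcnt c (1 :: ws) (2 * n + 1) : ℚ) = (q : ℚ) ^ n * ∑ m ∈ Finset.range (n + 1),
      ((c 1 (2 * m) : ℚ) * y ^ m * ((wcnt c ws (2 * (n - m) + 1) : ℚ) * y ^ (n - m)) +
        (c 1 (2 * m + 1) : ℚ) * y ^ m * ((wcnt c ws (2 * (n - m)) : ℚ) * y ^ (n - m))) := by
  have hq' : (0 : ℚ) < q := by exact_mod_cast hq
  rw [wcnt_cons_range c 1 one_pos ws (D := 2 * (n + 1)) (by omega)]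
  simp only [one_mul]
  have split : ∀ (M : ℕ) (h : ℕ → ℚ), ∑ d ∈ Finset.range (2 * M), h d =
      ∑ m ∈ Finset.range M, (h (2 * m) + h (2 * m + 1)) := by
    intro M h
    induction M with
    | zero => simp
    | succ M ih => rw [show 2 * (M + 1) = 2 * M + 1 + 1 by ring, Finset.sum_range_succ, Finset.sum_range_succ,
        Finset.sum_range_succ, ih]; ring
  rw [split, Finset.mul_sum]
  refine Finset.sum_congr rfl fun m hm => ?_
  have hm' := Finset.mem_range.1 hm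
  rw [if_pos (by omega), if_pos (by omega), show 2 * n + 1 - 2 * m = 2 * (n - m) + 1 by omega,
    show 2 * n + 1 - (2 * m + 1) = 2 * (n - m) by omega]
  have e : (q : ℚ) ^ n * (y ^ m * y ^ (n - m)) = 1 := by
    rw [← pow_add, Nat.add_sub_cancel' (by omega : m ≤ n), hy, ← mul_pow, mul_inv_cancel₀ hq'.ne', one_pow]
  linear_combination -((c 1 (2 * m) : ℚ) * wcnt c ws (2 * (n - m) + 1) +
    (c 1 (2 * m + 1) : ℚ) * wcnt c ws (2 * (n - m))) * e

/-- The bound for `q ≥ 5`. -/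
theorem wcnt_odd_five_le {q : ℕ} (hq : 5 ≤ q) {n N : ℕ} (hN : 20 ≤ N) :
    5 * wcnt (scoef 1 q) (1 :: downTwo N) (2 * n + 1) ≤ 73 * q ^ n := by
  have hsum := sums_le_prod hq (n + 1) (downTwo N) fun w hw => two_le_mem_downTwo hw
  obtain ⟨hp0, hp⟩ := prodFive_tail N hN
  have hp' : prodFive (downTwo N) ≤ prodFive (downTwo 20) * (1 + tl 20) :=
    le_trans (le_mul_of_one_le_right hp0 (le_add_of_nonneg_right (by unfold tl; positivity))) hp
  have hfin : prodFive (downTwo 20) * (1 + tl 20) ≤ 73 / 24 := by decide +kernel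
  have h5 : (5 : ℚ) ≤ q := by exact_mod_cast hq
  set y := (q : ℚ)⁻¹ with hy
  have hy0 : 0 ≤ y := by positivity
  have hcoef : ∀ m, (scoef 1 q 1 (2 * m) : ℚ) * y ^ m ≤ 24 / 5 ∧
      (scoef 1 q 1 (2 * m + 1) : ℚ) * y ^ m ≤ 24 / 5 := by
    intro m
    have e : (q : ℚ) ^ m * y ^ m = 1 := by rw [← mul_pow, hy, mul_inv_cancel₀ (by positivity), one_pow]
    simp only [scoef, wgt, show 2 * m % 2 = 0 by omega, show (2 * m + 1) % 2 = 1 by omega,
      show 2 * m / 2 = m by omega, show (2 * m + 1) / 2 = m by omega, if_true, one_ne_zero, if_false]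
    have main : (wgtE q m : ℚ) ≤ 24 / 5 * (q : ℚ) ^ m ∧ (wgtO q m : ℚ) ≤ 24 / 5 * (q : ℚ) ^ m := by
      constructor
      · rcases m with _ | _ | m <;> simp only [wgtE] <;> push_cast
        · norm_num
        · linarith
        · have key : (q : ℚ) ^ 2 + 6 * q + 1 ≤ 24 / 5 * q ^ 2 := by nlinarith
          have := mul_le_mul_of_nonneg_left key (show (0 : ℚ) ≤ (q : ℚ) ^ m by positivity)
          linarith [show (q : ℚ) ^ (m + 1 + 1) = (q : ℚ) ^ m * (q : ℚ) ^ 2 by ring]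
      · rcases m with _ | m <;> simp only [wgtO] <;> push_cast
        · norm_num
        · have key : 4 * (q : ℚ) + 4 ≤ 24 / 5 * q := by linarith
          have := mul_le_mul_of_nonneg_left key (show (0 : ℚ) ≤ (q : ℚ) ^ m by positivity)
          rw [pow_succ]
          linarith
    exact ⟨(mul_le_mul_of_nonneg_right main.1 (pow_nonneg hy0 m)).trans (le_of_eq (by rw [mul_assoc, e, mul_one])),
      (mul_le_mul_of_nonneg_right main.2 (pow_nonneg hy0 m)).trans (le_of_eq (by rw [mul_assoc, e, mul_one]))⟩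
  have h := wcnt_one_cons_odd_le (scoef 1 q) (y := y) q hy (by omega) (downTwo N) n
  have hle : (wcnt (scoef 1 q) (1 :: downTwo N) (2 * n + 1) : ℚ) ≤ (q : ℚ) ^ n * (73 / 5) := by
    rw [h]
    refine mul_le_mul_of_nonneg_left ?_ (by positivity)
    calc _ ≤ ∑ m ∈ Finset.range (n + 1), (24 / 5 * ((wcnt (scoef 1 q) (downTwo N) (2 * (n - m) + 1) : ℚ) * y ^ (n - m)) +
          24 / 5 * ((wcnt (scoef 1 q) (downTwo N) (2 * (n - m)) : ℚ) * y ^ (n - m))) :=
          Finset.sum_le_sum fun m _ => add_le_add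
            (mul_le_mul_of_nonneg_right (hcoef m).1 (by positivity))
            (mul_le_mul_of_nonneg_right (hcoef m).2 (by positivity))
      _ = 24 / 5 * (esum (scoef 1 q) y (downTwo N) (n + 1) + osum (scoef 1 q) y (downTwo N) (n + 1)) := by
        rw [esum, osum, ← Finset.sum_range_reflect (fun r => (wcnt (scoef 1 q) (downTwo N) (2 * r) : ℚ) * y ^ r),
          ← Finset.sum_range_reflect (fun r => (wcnt (scoef 1 q) (downTwo N) (2 * r + 1) : ℚ) * y ^ r),
          ← Finset.sum_add_distrib, Finset.mul_sum]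
        refine Finset.sum_congr rfl fun m hm => ?_
        rw [show n + 1 - 1 - m = n - m by omega]
        ring
      _ ≤ _ := le_trans (mul_le_mul_of_nonneg_left ((hsum.trans hp').trans hfin) (by norm_num)) (by norm_num)
  have : ((5 * wcnt (scoef 1 q) (1 :: downTwo N) (2 * n + 1) : ℕ) : ℚ) ≤ ((73 * q ^ n : ℕ) : ℚ) := by
    push_cast; linarith
  exact_mod_cast this

/-! ### `q = 3` -/

theorem rcoef_zero_eq {w : ℕ} (hw : 2 ≤ w) : rcoef 3 w = scoef 1 3 w := by
  funext d; simp [rcoef, show w ≠ 1 by omega]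

theorem small_three : ∀ n, n < 10 →
    5 * (wcnt (scoef 1 3) (1 :: downTwo 20) (2 * n + 1) + 3 * wcnt (rcoef 3) (1 :: downTwo 20) (2 * n + 1)) ≤
      292 * 3 ^ n := by
  decide +kernel

theorem final_three :
    56 / 9 * ((eo 1 (downTwo 20)).2 + ((eo 1 (downTwo 20)).1 + (eo 1 (downTwo 20)).2) * tl 20) +
      32 / 3 * ((eo 1 (downTwo 20)).1 + ((eo 1 (downTwo 20)).1 + (eo 1 (downTwo 20)).2) * tl 20) +
      16 / 9 * ((eo 1 (downTwo 20)).2 + ((eo 1 (downTwo 20)).1 + (eo 1 (downTwo 20)).2) * tl 20 -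
        osum (scoef 1 3) ((3 : ℚ)⁻¹) (downTwo 20) 9) +
      16 / 3 * ((eo 1 (downTwo 20)).1 + ((eo 1 (downTwo 20)).1 + (eo 1 (downTwo 20)).2) * tl 20 -
        esum (scoef 1 3) ((3 : ℚ)⁻¹) (downTwo 20) 10) ≤ 292 / 5 := by
  decide +kernel

theorem ucoef_le : ∀ m, ((scoef 1 3 1 (2 * m) + 3 * rcoef 3 1 (2 * m) : ℕ) : ℚ) * ((3 : ℚ)⁻¹) ^ m ≤
      56 / 9 + (if m = 1 then 16 / 9 else 0) ∧
    ((scoef 1 3 1 (2 * m + 1) + 3 * rcoef 3 1 (2 * m + 1) : ℕ) : ℚ) * ((3 : ℚ)⁻¹) ^ m ≤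
      32 / 3 + (if m = 0 then 16 / 3 else 0)
  | 0 => by norm_num [scoef, rcoef, rwgt, wgt, wgtE, wgtO, cpal]
  | 1 => by norm_num [scoef, rcoef, rwgt, wgt, wgtE, wgtO, cpal]
  | 2 => by norm_num [scoef, rcoef, rwgt, wgt, wgtE, wgtO, cpal]
  | m + 3 => by
    have e : (3 : ℚ) ^ m * ((3 : ℚ)⁻¹) ^ (m + 3) = 1 / 27 := by
      rw [pow_add, ← mul_assoc, ← mul_pow, mul_inv_cancel₀ (by norm_num), one_pow]; norm_num
    simp only [scoef, rcoef, rwgt, wgt, show 2 * (m + 3) % 2 = 0 by omega, show (2 * (m + 3) + 1) % 2 = 1 by omega,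
      show 2 * (m + 3) / 2 = m + 3 by omega, show (2 * (m + 3) + 1) / 2 = m + 3 by omega,
      show ¬ 2 * (m + 3) < 2 by omega, show m + 3 - 1 = m + 2 by omega, show m + 3 ≠ 1 by omega,
      show m + 3 ≠ 0 by omega, if_true, if_false, one_ne_zero, wgtE, wgtO, cpal]
    push_cast
    constructor
    · exact le_of_eq_of_le (b := 168 * ((3 : ℚ) ^ m * (3 : ℚ)⁻¹ ^ (m + 3))) (by ring) (by rw [e]; norm_num)
    · exact le_of_eq_of_le (b := 288 * ((3 : ℚ) ^ m * (3 : ℚ)⁻¹ ^ (m + 3))) (by ring) (by rw [e]; norm_num)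

theorem lin_aux {ES OS x z A B E O S : ℚ} (h : S ≤ 56 / 9 * OS + 32 / 3 * ES + (16 / 9 * z + 16 / 3 * x))
    (hE : ES ≤ E) (hO : OS ≤ O) (hx : A + x ≤ ES) (hz : B + z ≤ OS)
    (fin : 56 / 9 * O + 32 / 3 * E + 16 / 9 * (O - B) + 16 / 3 * (E - A) ≤ 292 / 5) : S ≤ 292 / 5 := by
  linarith

/-- The bound for `q = 3`. -/
theorem wcnt_odd_three_le {n N : ℕ} (hN : 20 ≤ N) :
    5 * (wcnt (scoef 1 3) (1 :: downTwo N) (2 * n + 1) + 3 * wcnt (rcoef 3) (1 :: downTwo N) (2 * n + 1)) ≤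
      292 * 3 ^ n := by
  have hw2 : ∀ w ∈ downTwo N, 2 ≤ w := fun w hw => two_le_mem_downTwo hw
  have hr : ∀ m, wcnt (rcoef 3) (downTwo N) m = wcnt (scoef 1 3) (downTwo N) m :=
    wcnt_congr _ fun w hw => rcoef_zero_eq (hw2 w hw)
  rcases Nat.lt_or_ge n 10 with hn | hn
  · refine le_trans (le_of_eq ?_) (small_three n hn)
    simp only [wcnt]
    congr 1
    congr 1
    · exact Finset.sum_congr rfl fun j _ => by rw [wcnt_downTwo_eq 3 (M := 20) (by omega) hN]
    · congr 1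
      refine Finset.sum_congr rfl fun j _ => ?_
      rw [hr, wcnt_downTwo_eq 3 (M := 20) (by omega) hN,
        wcnt_congr (c := rcoef 3) (c' := scoef 1 3) (downTwo 20) fun w hw => rcoef_zero_eq (two_le_mem_downTwo hw)]
  set y : ℚ := (3 : ℚ)⁻¹ with hy
  have hy0 : 0 ≤ y := by positivity
  set c := scoef 1 3
  set a : ℕ → ℚ := fun r => (wcnt c (downTwo N) (2 * r) : ℚ) * y ^ r with ha
  set b : ℕ → ℚ := fun r => (wcnt c (downTwo N) (2 * r + 1) : ℚ) * y ^ r with hb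
  have ha0 : ∀ r, 0 ≤ a r := fun r => by positivity
  have hb0 : ∀ r, 0 ≤ b r := fun r => by positivity
  have h1 := wcnt_one_cons_odd_le c (y := y) 3 (by norm_num [hy]) (by omega) (downTwo N) n
  have h2 := wcnt_one_cons_odd_le (rcoef 3) (y := y) 3 (by norm_num [hy]) (by omega) (downTwo N) n
  simp only [hr] at h2
  have hU : ((wcnt c (1 :: downTwo N) (2 * n + 1) + 3 * wcnt (rcoef 3) (1 :: downTwo N) (2 * n + 1) : ℕ) : ℚ) =
      (3 : ℚ) ^ n * ∑ m ∈ Finset.range (n + 1),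
        (((c 1 (2 * m) + 3 * rcoef 3 1 (2 * m) : ℕ) : ℚ) * y ^ m * b (n - m) +
          ((c 1 (2 * m + 1) + 3 * rcoef 3 1 (2 * m + 1) : ℕ) : ℚ) * y ^ m * a (n - m)) := by
    push_cast
    rw [h1, h2, Nat.cast_ofNat, Finset.mul_sum, Finset.mul_sum, Finset.mul_sum, Finset.mul_sum,
      ← Finset.sum_add_distrib]
    refine Finset.sum_congr rfl fun m _ => ?_
    simp only [ha, hb]
    ring
  obtain ⟨s1, s2⟩ := sums_le_eo (q := 3) le_rfl 1 (n + 1) (downTwo N) hw2
  obtain ⟨l1, l2⟩ := eo_le (s := 1) hN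
  have hyq : ((3 : ℕ) : ℚ)⁻¹ = y := by norm_num [hy]
  rw [hyq] at s1 s2
  have hA : ∑ m ∈ Finset.range (n + 1), a (n - m) = esum c y (downTwo N) (n + 1) :=
    (Finset.sum_congr rfl fun m _ => by rw [Nat.add_sub_cancel]).trans (Finset.sum_range_reflect a (n + 1))
  have hB : ∑ m ∈ Finset.range (n + 1), b (n - m) = osum c y (downTwo N) (n + 1) :=
    (Finset.sum_congr rfl fun m _ => by rw [Nat.add_sub_cancel]).trans (Finset.sum_range_reflect b (n + 1))
  have tA : esum c y (downTwo 20) 10 + a n ≤ esum c y (downTwo N) (n + 1) := by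
    have e : esum c y (downTwo 20) 10 = ∑ r ∈ Finset.range 10, a r := Finset.sum_congr rfl fun r hr => by
      have := Finset.mem_range.1 hr
      simp only [ha, c]
      rw [wcnt_downTwo_eq 3 (M := 20) (by omega) hN]
    rw [e, esum, Finset.sum_range_succ _ n]
    exact add_le_add (Finset.sum_le_sum_of_subset_of_nonneg (Finset.range_subset_range.2 hn) fun r _ _ => ha0 r) le_rfl
  have tB : osum c y (downTwo 20) 9 + b (n - 1) ≤ osum c y (downTwo N) (n + 1) := by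
    have e : osum c y (downTwo 20) 9 = ∑ r ∈ Finset.range 9, b r := Finset.sum_congr rfl fun r hr => by
      have := Finset.mem_range.1 hr
      simp only [hb, c]
      rw [wcnt_downTwo_eq 3 (M := 20) (by omega) hN]
    obtain ⟨k, rfl⟩ : ∃ k, n = k + 1 := ⟨n - 1, by omega⟩
    rw [e, osum, Finset.sum_range_succ _ (k + 1), Finset.sum_range_succ _ k, Nat.add_sub_cancel]
    refine le_trans ?_ (le_add_of_nonneg_right (hb0 (k + 1)))
    exact add_le_add (Finset.sum_le_sum_of_subset_of_nonneg (Finset.range_subset_range.2 (by omega)) fun r _ _ => hb0 r)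
      le_rfl
  have hsum : ∑ m ∈ Finset.range (n + 1),
        (((c 1 (2 * m) + 3 * rcoef 3 1 (2 * m) : ℕ) : ℚ) * y ^ m * b (n - m) +
          ((c 1 (2 * m + 1) + 3 * rcoef 3 1 (2 * m + 1) : ℕ) : ℚ) * y ^ m * a (n - m)) ≤
      56 / 9 * osum c y (downTwo N) (n + 1) + 32 / 3 * esum c y (downTwo N) (n + 1) +
        (16 / 9 * b (n - 1) + 16 / 3 * a n) := by
    refine (Finset.sum_le_sum (g := fun m => (56 / 9 + (if m = 1 then (16 : ℚ) / 9 else 0)) * b (n - m) +
      (32 / 3 + (if m = 0 then (16 : ℚ) / 3 else 0)) * a (n - m)) fun m _ => add_le_add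
        (mul_le_mul_of_nonneg_right (ucoef_le m).1 (hb0 _))
        (mul_le_mul_of_nonneg_right (ucoef_le m).2 (ha0 _))).trans (le_of_eq ?_)
    simp only [add_mul, ite_mul, zero_mul]
    rw [Finset.sum_add_distrib, Finset.sum_add_distrib, Finset.sum_add_distrib, ← Finset.mul_sum, ← Finset.mul_sum,
      hA, hB, Finset.sum_ite_eq', Finset.sum_ite_eq', if_pos (Finset.mem_range.2 (by omega)),
      if_pos (Finset.mem_range.2 (by omega)), Nat.sub_zero]
    ring
  have fin := final_three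
  rw [show scoef 1 3 = c from rfl] at fin s1 s2
  have : ((5 * (wcnt c (1 :: downTwo N) (2 * n + 1) + 3 * wcnt (rcoef 3) (1 :: downTwo N) (2 * n + 1)) : ℕ) : ℚ) ≤
      ((292 * 3 ^ n : ℕ) : ℚ) := by
    rw [Nat.cast_mul 5, hU]
    generalize hS : ∑ m ∈ Finset.range (n + 1),
      (((c 1 (2 * m) + 3 * rcoef 3 1 (2 * m) : ℕ) : ℚ) * y ^ m * b (n - m) +
        ((c 1 (2 * m + 1) + 3 * rcoef 3 1 (2 * m + 1) : ℕ) : ℚ) * y ^ m * a (n - m)) = S at hsum ⊢
    push_cast
    rw [← hy] at fin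
    have hbr := lin_aux hsum (s1.trans l1) (s2.trans l2) tA tB fin
    have h3 := mul_le_mul_of_nonneg_left hbr (show (0 : ℚ) ≤ 3 ^ n by positivity)
    linarith
  exact_mod_cast this

end Cfsg.Agent.SpOClassCount
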