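import Cfsg.Agent.Lib.SpOClassCount.Poly
import Cfsg.Agent.Lib.SpOClassCount.SeriesOdd
/-!
# Data with simple roots at `1` and `-1`

* `ncard_cpal_le` : palindromic polynomials without those roots;
* `simpleSet_card` : the count at exponent one.
-/
set_option autoImplicit false
set_option linter.unusedVariables false
set_option linter.unusedSectionVars false

namespace Cfsg.Agent.SpOClassCount

open Polynomial SLComm

variable {F : Type*} [Field F] [Finite F]

/-- Self-reciprocal of degree `2 m`, non-zero at `1` and `-1`. -/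
def cpalSet (F : Type*) [Field F] (m : ℕ) : Set F[X] :=
  {P | IsRec P ∧ P.natDegree = 2 * m ∧ P.eval 1 ≠ 0 ∧ P.eval (-1) ≠ 0}

theorem cpalSet_finite (m : ℕ) : (cpalSet F m).Finite :=
  (recSet_finite (2 * m)).subset fun P hP => ⟨hP.1, hP.2.1⟩

theorem IsRec.monic_coeff {P : F[X]} (h : IsRec P) {d : ℕ} (hd : P.natDegree = d) : P.coeff d = 1 := by
  rw [← hd]; exact h.1.coeff_natDegree

theorem ncard_cpal_le (h2 : (2 : F) ≠ 0) : ∀ m, (cpalSet F m).ncard ≤ cpal (Nat.card F) m
  | 0 => by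
    refine (Set.ncard_le_ncard (t := {1}) (fun P hP => ?_) (Set.finite_singleton _)).trans (by simp [cpal])
    exact hP.1.1.natDegree_eq_zero.1 (by simpa using hP.2.1)
  | 1 => by
    classical
    haveI := Fintype.ofFinite F
    refine le_trans (Set.ncard_le_ncard_of_injOn (t := ({2, -2} : Set F)ᶜ) (fun P => P.coeff 1) ?_ ?_
      (Set.toFinite _)) (le_of_eq ?_)
    · rintro P ⟨hr, hd, h1, hm⟩
      have h0 := hr.coeff_zero_of_eval_one h1
      have hl := hr.monic_coeff hd
      have e : ∀ x : F, P.eval x = x ^ 2 + P.coeff 1 * x + 1 := fun x => by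
        rw [eval_eq_sum_range, hd]
        simp only [Finset.sum_range_succ, Finset.sum_range_zero, show 2 * 1 = 2 from rfl]
        rw [h0, show P.coeff 2 = 1 from hl]; ring
      rw [e] at h1 hm
      simp only [Set.mem_compl_iff, Set.mem_insert_iff, Set.mem_singleton_iff]
      rintro (h | h) <;> rw [h] at h1 hm
      · exact hm (by ring)
      · exact h1 (by ring)
    · rintro P ⟨hP, hPd, h1, -⟩ R ⟨hR, hRd, h1', -⟩ he
      ext i
      rcases i with _ | _ | _ | i
      · rw [hP.coeff_zero_of_eval_one h1, hR.coeff_zero_of_eval_one h1']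
      · exact he
      · rw [show P.coeff 2 = 1 from hP.monic_coeff hPd, show R.coeff 2 = 1 from hR.monic_coeff hRd]
      · rw [coeff_eq_zero_of_natDegree_lt (by omega), coeff_eq_zero_of_natDegree_lt (by omega)]
    · rw [Set.ncard_compl, Set.ncard_pair fun h => h2 (mul_self_eq_zero.1 (show (2 : F) * 2 = 0 by linear_combination h))]
      rfl
  | m + 2 => by
    refine le_trans (Set.ncard_le_ncard_of_injOn (t := (Set.univ : Set (Fin m → F)) ×ˢ (({0} : Set F)ᶜ ×ˢ ({0} : Set F)ᶜ))
      (fun P => (fun i : Fin m => P.coeff (i.val + 1), P.eval 1, P.eval (-1))) ?_ ?_ (Set.toFinite _)) (le_of_eq ?_)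
    · rintro P ⟨-, -, h1, hm⟩
      exact ⟨Set.mem_univ _, h1, hm⟩
    · rintro P ⟨hP, hPd, h1, -⟩ R ⟨hR, hRd, h1', -⟩ he
      simp only [Prod.mk.injEq] at he
      obtain ⟨hc, he1, he2⟩ := he
      have low : ∀ j, j ≤ m → P.coeff j = R.coeff j := by
        intro j hj
        rcases j with _ | j
        · rw [hP.coeff_zero_of_eval_one h1, hR.coeff_zero_of_eval_one h1']
        · exact congrFun hc ⟨j, hj⟩
      have sym : ∀ i, i ≤ 2 * (m + 2) → (P - R).coeff i = (P - R).coeff (2 * (m + 2) - i) := fun i hi => by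
        rw [coeff_sub, coeff_sub, hP.coeff_eq (by omega), hR.coeff_eq (i := i) (by omega),
          hP.coeff_zero_of_eval_one h1, hR.coeff_zero_of_eval_one h1', hPd, hRd, one_mul, one_mul]
      set a := (P - R).coeff (m + 1) with ha
      set b := (P - R).coeff (m + 2) with hb
      have hD : P - R = C a * X ^ (m + 1) + C b * X ^ (m + 2) + C a * X ^ (m + 3) := by
        ext i
        simp only [coeff_add, coeff_C_mul, coeff_X_pow, mul_ite, mul_one, mul_zero]
        by_cases hi : i ≤ m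
        · rw [coeff_sub, low i hi, sub_self, if_neg (by omega), if_neg (by omega), if_neg (by omega)]; simp
        by_cases hi1 : i = m + 1
        · subst hi1; rw [if_pos rfl, if_neg (by omega), if_neg (by omega), ha]; simp
        by_cases hi2 : i = m + 2
        · subst hi2; rw [if_neg (by omega), if_pos rfl, if_neg (by omega), hb]; simp
        by_cases hi3 : i = m + 3
        · subst hi3
          rw [if_neg (by omega), if_neg (by omega), if_pos rfl, sym _ (by omega),
            show 2 * (m + 2) - (m + 3) = m + 1 by omega, ha]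
          simp
        · rw [if_neg (by omega), if_neg (by omega), if_neg (by omega)]
          by_cases hd : i ≤ 2 * (m + 2)
          · rw [sym _ hd, coeff_sub, low _ (by omega)]; simp
          · rw [coeff_sub, coeff_eq_zero_of_natDegree_lt (by omega), coeff_eq_zero_of_natDegree_lt (by omega)]; simp
      have e1 := congrArg (eval 1) hD
      have e2 := congrArg (eval (-1 : F)) hD
      simp only [eval_sub, eval_add, eval_mul, eval_C, eval_pow, eval_X, one_pow, he1, he2, sub_self] at e1 e2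
      rw [show (-1 : F) ^ (m + 3) = (-1) ^ (m + 1) by ring, show (-1 : F) ^ (m + 2) = -(-1) ^ (m + 1) by ring] at e2
      have e2' : (2 * a - b) * (-1) ^ (m + 1) = 0 := by linear_combination -e2
      have e3 := (mul_eq_zero.1 e2').resolve_right (pow_ne_zero _ (neg_ne_zero.2 one_ne_zero))
      have ha0 : a = 0 := by
        refine (mul_eq_zero.1 (show (2 * 2 : F) * a = 0 by linear_combination e3 - e1)).resolve_left ?_
        exact mul_ne_zero h2 h2
      have hb0 : b = 0 := by linear_combination 2 * ha0 - e3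
      rw [ha0, hb0] at hD
      exact sub_eq_zero.1 (by rw [hD]; simp)
    · rw [Set.ncard_prod, Set.ncard_prod, Set.ncard_univ, Nat.card_fun, Nat.card_fin, Set.ncard_compl,
        Set.ncard_singleton]
      simp only [cpal]
      ring

/-- Data at exponent one with at most simple roots at `1` and `-1`. -/
def simpleSet (F : Type*) [Field F] : Set (Datum F) :=
  {x | x ∈ admSet (F := F) 1 1 ∧ x.1.rootMultiplicity 1 ≤ 1 ∧ x.1.rootMultiplicity (-1) ≤ 1}

theorem simpleSet_card (h2 : (2 : F) ≠ 0) (d : ℕ) :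
    {x ∈ simpleSet F | x.1.natDegree = d}.Finite ∧
      {x ∈ simpleSet F | x.1.natDegree = d}.ncard ≤ rwgt (Nat.card F) d := by
  classical
  have hsq : (-1 : F) * -1 = 1 := by ring
  have hne : (1 : F) ≠ -1 := fun h => h2 (by linear_combination h)
  have hsub0 : {x ∈ simpleSet F | x.1.natDegree = d} ⊆ {x ∈ admSet (F := F) 1 1 | x.1.natDegree = d} :=
    fun x hx => ⟨hx.1.1, hx.2⟩
  have hfin := (admSet_card h2 1 1 d).1.subset hsub0
  refine ⟨hfin, ?_⟩
  -- the cofactor of the simple roots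
  have key : ∀ x ∈ simpleSet F, x.1.natDegree = d →
      (x.2.1 = true → x.1.IsRoot 1) ∧ (x.2.2 = true → x.1.IsRoot (-1)) ∧
      ((¬ x.1.IsRoot 1 ∧ ¬ x.1.IsRoot (-1) ∧ d % 2 = 0 ∧ x.1 ∈ cpalSet F (d / 2)) ∨
       (x.1.IsRoot 1 ∧ ¬ x.1.IsRoot (-1) ∧ d % 2 = 1 ∧ ∃ R ∈ cpalSet F (d / 2), x.1 = (X - C 1) * R) ∨
       (¬ x.1.IsRoot 1 ∧ x.1.IsRoot (-1) ∧ d % 2 = 1 ∧ ∃ R ∈ cpalSet F (d / 2), x.1 = (X - C (-1)) * R) ∨
       (2 ≤ d ∧ d % 2 = 0 ∧ ∃ R ∈ cpalSet F (d / 2 - 1), x.1 = (X - C 1) * ((X - C (-1)) * R))) := by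
    rintro ⟨P, s, t⟩ ⟨⟨hr, hc⟩, m1, m2⟩ hd
    rw [if_pos rfl] at hc
    refine ⟨hc.1, hc.2, ?_⟩
    dsimp only at hd hr m1 m2 ⊢
    have cp : ∀ {R : F[X]}, IsRec R → ¬ R.IsRoot 1 → ¬ R.IsRoot (-1) →
        R.natDegree % 2 = 0 ∧ R ∈ cpalSet F (R.natDegree / 2) := fun {R} hR a b => by
      have := Nat.even_iff.1 (hR.even_of_eval_neg_one h2 (hR.coeff_zero_of_eval_one a) b)
      exact ⟨this, hR, by omega, a, b⟩
    have drop : ∀ {T : F[X]} {c : F} {R : F[X]}, T = (X - C c) * R → T ≠ 0 → T.rootMultiplicity c ≤ 1 →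
        ¬ R.IsRoot c := by
      intro T c R hT hT0 hm hR
      subst hT
      rw [rootMultiplicity_mul hT0, rootMultiplicity_X_sub_C_self] at hm
      have := (rootMultiplicity_pos (right_ne_zero_of_mul hT0)).2 hR
      omega
    have other : ∀ {c c' : F} {R : F[X]}, c' ≠ c → (((X - C c) * R).IsRoot c' ↔ R.IsRoot c') := by
      intro c c' R hcc
      rw [IsRoot, IsRoot, eval_mul, eval_sub, eval_X, eval_C, mul_eq_zero, sub_eq_zero]
      simp [hcc]
    by_cases a1 : P.IsRoot 1 <;> by_cases a2 : P.IsRoot (-1)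
    · obtain ⟨R, hR⟩ := dvd_iff_isRoot.2 a1
      obtain ⟨hRr, hRd⟩ := isRec_div hr (one_mul 1) hR
      have b2 : R.IsRoot (-1) := (other hne.symm).1 (hR ▸ a2)
      obtain ⟨W, hW⟩ := dvd_iff_isRoot.2 b2
      obtain ⟨hWr, hWd⟩ := isRec_div hRr hsq hW
      have w1 : ¬ W.IsRoot 1 := fun h => drop hR hr.1.ne_zero m1 (hW ▸ (other hne).2 h)
      have w2 : ¬ W.IsRoot (-1) := by
        refine drop (T := R) hW hRr.1.ne_zero ?_
        refine le_trans ?_ m2
        rw [hR, rootMultiplicity_mul (hR ▸ hr.1.ne_zero)]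
        exact Nat.le_add_left _ _
      obtain ⟨hev, hmem⟩ := cp hWr w1 w2
      refine Or.inr (Or.inr (Or.inr ⟨by omega, by omega, W, ?_, by rw [hR, hW]⟩))
      rwa [show d / 2 - 1 = W.natDegree / 2 by omega]
    · obtain ⟨R, hR⟩ := dvd_iff_isRoot.2 a1
      obtain ⟨hRr, hRd⟩ := isRec_div hr (one_mul 1) hR
      obtain ⟨hev, hmem⟩ := cp hRr (drop hR hr.1.ne_zero m1) (fun h => a2 (hR ▸ (other hne.symm).2 h))
      refine Or.inr (Or.inl ⟨a1, a2, by omega, R, ?_, hR⟩)
      rwa [show d / 2 = R.natDegree / 2 by omega]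
    · obtain ⟨R, hR⟩ := dvd_iff_isRoot.2 a2
      obtain ⟨hRr, hRd⟩ := isRec_div hr hsq hR
      obtain ⟨hev, hmem⟩ := cp hRr (fun h => a1 (hR ▸ (other hne).2 h)) (drop hR hr.1.ne_zero m2)
      refine Or.inr (Or.inr (Or.inl ⟨a1, a2, by omega, R, ?_, hR⟩))
      rwa [show d / 2 = R.natDegree / 2 by omega]
    · obtain ⟨hev, hmem⟩ := cp hr a1 a2
      rw [hd] at hev hmem
      exact Or.inl ⟨a1, a2, hev, hmem⟩
  unfold rwgt
  split_ifs with hev hlt
  · refine le_trans (Set.ncard_le_ncard_of_injOn (fun x => x.1) ?_ ?_ (cpalSet_finite _))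
      ((ncard_cpal_le h2 _).trans (Nat.le_add_right _ _))
    · rintro x ⟨hx, hd⟩
      obtain ⟨-, -, h | h | h | h⟩ := key x hx hd
      · exact h.2.2.2
      all_goals omega
    · rintro ⟨P, s, t⟩ ⟨hx, hd⟩ ⟨P', s', t'⟩ ⟨hx', hd'⟩ he
      dsimp only at he
      subst he
      obtain ⟨hs, ht, h | h | h | h⟩ := key _ hx hd
      · obtain ⟨hs', ht', -⟩ := key _ hx' hd'
        dsimp only at hs ht hs' ht' h
        cases s <;> cases t <;> cases s' <;> cases t' <;> simp_all
      all_goals omega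
  · let U : Set (Datum F) := (fun R => (R, false, false)) '' cpalSet F (d / 2)
    let V : Set (Datum F) := (fun y : F[X] × Bool × Bool => ((X - C 1) * ((X - C (-1)) * y.1), y.2.1, y.2.2)) ''
      (cpalSet F (d / 2 - 1) ×ˢ Set.univ)
    have hU : U.Finite := (cpalSet_finite _).image _
    have hV : V.Finite := ((cpalSet_finite _).prod Set.finite_univ).image _
    refine (Set.ncard_le_ncard (t := U ∪ V) ?_ (hU.union hV)).trans ((Set.ncard_union_le _ _).trans (add_le_add ?_ ?_))
    · rintro ⟨P, s, t⟩ ⟨hx, hd⟩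
      obtain ⟨hs, ht, h | h | h | ⟨-, -, R, hR, h⟩⟩ := key _ hx hd
      · refine Or.inl ⟨P, h.2.2.2, ?_⟩
        dsimp only at hs ht h
        cases s <;> cases t <;> simp_all
      · omega
      · omega
      · dsimp only at h; subst h
        exact Or.inr ⟨(R, s, t), ⟨hR, Set.mem_univ _⟩, rfl⟩
    · exact (Set.ncard_image_le (cpalSet_finite _)).trans (ncard_cpal_le h2 _)
    · refine (Set.ncard_image_le ((cpalSet_finite _).prod Set.finite_univ)).trans ?_
      rw [Set.ncard_prod, Set.ncard_univ, Nat.card_prod, Nat.card_eq_fintype_card (α := Bool), Fintype.card_bool,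
        mul_comm]
      exact Nat.mul_le_mul le_rfl (ncard_cpal_le h2 _)
  · let U : Set (Datum F) := (fun y : F[X] × Bool => ((X - C 1) * y.1, y.2, false)) '' (cpalSet F (d / 2) ×ˢ Set.univ)
    let V : Set (Datum F) :=
      (fun y : F[X] × Bool => ((X - C (-1)) * y.1, false, y.2)) '' (cpalSet F (d / 2) ×ˢ Set.univ)
    have hU : U.Finite := ((cpalSet_finite _).prod Set.finite_univ).image _
    have hV : V.Finite := ((cpalSet_finite _).prod Set.finite_univ).image _
    refine (Set.ncard_le_ncard (t := U ∪ V) ?_ (hU.union hV)).trans ((Set.ncard_union_le _ _).trans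
      (le_trans (add_le_add (b := 2 * cpal (Nat.card F) (d / 2)) (d := 2 * cpal (Nat.card F) (d / 2)) ?_ ?_)
        (le_of_eq (by ring))))
    · rintro ⟨P, s, t⟩ ⟨hx, hd⟩
      obtain ⟨hs, ht, h | ⟨a1, a2, -, R, hR, h⟩ | ⟨a1, a2, -, R, hR, h⟩ | h⟩ := key _ hx hd
      · omega
      · dsimp only at hs ht a2 h
        subst h
        refine Or.inl ⟨(R, s), ⟨hR, Set.mem_univ _⟩, ?_⟩
        cases t
        · rfl
        · exact absurd (ht rfl) a2
      · dsimp only at hs ht a1 h
        subst h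
        refine Or.inr ⟨(R, t), ⟨hR, Set.mem_univ _⟩, ?_⟩
        cases s
        · rfl
        · exact absurd (hs rfl) a1
      · omega
    all_goals
      refine (Set.ncard_image_le ((cpalSet_finite _).prod Set.finite_univ)).trans ?_
      rw [Set.ncard_prod, Set.ncard_univ, Nat.card_eq_fintype_card (α := Bool), Fintype.card_bool, mul_comm]
      exact Nat.mul_le_mul le_rfl (ncard_cpal_le h2 _)

end Cfsg.Agent.SpOClassCount
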