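import Cfsg.Agent.Lib.SpOClassCount.Bound
import Cfsg.Agent.Lib.SpOClassCount.OddPoly
/-!
# Classes of orthogonal groups in odd dimension

* `Simple g` : at most simple roots at `1`, `-1` of the polynomial at exponent one;
* `two_mul_classes_odd_le`, `two_mul_simple_le` : both bounded by the counting series.
-/
set_option autoImplicit false
set_option linter.unusedVariables false
set_option linter.unusedSectionVars false

open scoped Classical

namespace Cfsg.Agent.SpOClassCount

open Polynomial SLComm

variable {F : Type*} [Field F] [Finite F] {ι : Type} [Fintype ι] [DecidableEq ι] {Γ : Type*} [Group Γ]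
  {S : Matrix ι ι F} {ρ : Γ →* Matrix ι ι F} {n : ℕ}

variable (R : IsRep (1 : F) S ρ) (hι : Fintype.card ι = 2 * n + 1)
include R hι

theorem finite_group_odd : Finite Γ :=
  haveI : Finite (Matrix ι ι F) := inferInstanceAs (Finite (ι → ι → F))
  Finite.of_injective ρ R.inj

theorem dat_mem_odd (g : Γ) : dat R 1 g ∈
    choiceSet (admSet (F := F) 1) (1, false, false) (fun x => x.1.natDegree) (expList (n + 1)) (2 * n + 1) := by
  have h := dat_mem R (Or.inr ⟨rfl, rfl⟩) g (expList_nodup (n + 1)) fun i h1 h2 => mem_expList h1 (by omega)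
  rwa [hι] at h

omit hι in
theorem exists_odd_mem : ∀ {l : List ℕ}, l.sum % 2 = 1 → ∃ x ∈ l, x % 2 = 1
  | [], h => by simp at h
  | a :: l, h => by
    rw [List.sum_cons] at h
    by_cases ha : a % 2 = 1
    · exact ⟨a, List.mem_cons_self, ha⟩
    · obtain ⟨x, hx, hx1⟩ := exists_odd_mem (l := l) (by omega)
      exact ⟨x, List.mem_cons_of_mem _ hx, hx1⟩

theorem hasMark_dat (g : Γ) : HasMark fun e => (dat R 1 g e).1 := by
  obtain ⟨-, -, hsum⟩ := dat_mem_odd R hι g
  obtain ⟨x, hx, hodd⟩ := exists_odd_mem R (l := (expList (n + 1)).map fun w => w * (dat R 1 g w).1.natDegree)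
    (by rw [hsum]; omega)
  obtain ⟨w, -, rfl⟩ := List.mem_map.1 hx
  obtain ⟨hw, hd⟩ := Nat.odd_mul.1 (Nat.odd_iff.2 hodd)
  refine ⟨w, Nat.odd_iff.1 hw, ?_⟩
  by_contra hc
  simp only [not_or] at hc
  have hrec := isRec_tup R g w
  exact Nat.not_even_iff_odd.2 hd
    (hrec.even_of_eval_neg_one R.two (hrec.coeff_zero_of_eval_one hc.1) hc.2)

/-- The marked data of a class. -/
noncomputable def markPair (x : Bool × ConjClasses Γ) : ℕ → Datum F :=
  setMark (dat R 1 x.2.out) (hasMark_dat R hι x.2.out) x.1

theorem markPair_mem (x : Bool × ConjClasses Γ) : markPair R hι x ∈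
    choiceSet (admSet (F := F) 1) (1, false, false) (fun y => y.1.natDegree) (expList (n + 1)) (2 * n + 1) := by
  obtain ⟨b, c⟩ := x
  unfold markPair
  dsimp only
  set z := dat R 1 c.out
  have hx := dat_mem_odd R hι c.out
  set h := hasMark_dat R hι c.out
  obtain ⟨h1, h2, h3⟩ := hx
  obtain ⟨ho, hr⟩ := Nat.find_spec h
  have hmem : Nat.find h ∈ expList (n + 1) := by
    by_contra hc
    dsimp only at hr
    rw [h1 _ hc] at hr
    simp at hr
  refine ⟨fun i hi => ?_, fun i hi => ?_, ?_⟩
  · rw [setMark, Function.update_of_ne (fun e : i = Nat.find h => hi (by rw [e]; exact hmem))]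
    exact h1 i hi
  · by_cases he : i = Nat.find h
    · subst he
      obtain ⟨hrec, hc⟩ := h2 _ hi
      rw [if_pos ho] at hc
      rw [setMark, Function.update_self]
      refine ⟨hrec, ?_⟩
      rw [if_pos ho]
      dsimp only at hr ⊢
      split_ifs with h1'
      · exact ⟨fun _ => h1', hc.2⟩
      · exact ⟨hc.1, fun _ => hr.resolve_left h1'⟩
    · rw [setMark, Function.update_of_ne he]
      exact h2 i hi
  · rw [← h3]
    exact congrArg List.sum (List.map_congr_left fun w _ => by simp only [setMark_fst])

theorem markPair_injective : Function.Injective (markPair R hι) := by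
  rintro ⟨b, c⟩ ⟨b', c'⟩ he
  simp only [markPair] at he
  set h := hasMark_dat R hι c.out with hh
  set h' := hasMark_dat R hι c'.out with hh'
  have hfst : ∀ e, (dat R 1 c.out e).1 = (dat R 1 c'.out e).1 := fun e => by
    rw [← setMark_fst (dat R 1 c.out) h b e, he, setMark_fst]
  have hfind : Nat.find h' = Nat.find h := Nat.find_congr' (fun {e} => by simp only [hfst e])
  set e₀ := Nat.find h with he₀
  have h0 := congrFun he e₀
  simp only [setMark, hfind, Function.update_self, ← he₀, ← hfst] at h0
  have hcc : c = c' := by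
    rw [← Quotient.out_eq c, ← Quotient.out_eq c']
    refine Quotient.sound (sig_unique (Or.inr ⟨rfl, rfl⟩) rfl e₀ (decide ((dat R 1 c.out e₀).1.IsRoot 1))
      (funext fun e => (hfst e).symm) (fun e hne => ?_) (fun hside => ?_) (fun hside => ?_))
    · have := congrFun he e
      rwa [setMark, setMark, Function.update_of_ne hne, Function.update_of_ne (hfind ▸ hne)] at this
    · rw [if_neg (by simpa using hside), if_neg (by simpa using hside), Prod.mk.injEq, Prod.mk.injEq] at h0
      exact h0.2.1
    · rw [if_pos (by simpa using hside), if_pos (by simpa using hside), Prod.mk.injEq, Prod.mk.injEq] at h0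
      exact h0.2.2
  subst hcc
  refine Prod.ext ?_ rfl
  by_cases hr : (dat R 1 c.out e₀).1.IsRoot 1
  · rw [if_pos hr, if_pos hr, Prod.mk.injEq, Prod.mk.injEq] at h0; exact h0.2.1
  · rw [if_neg hr, if_neg hr, Prod.mk.injEq, Prod.mk.injEq] at h0; exact h0.2.2

/-- Twice the number of classes. -/
theorem two_mul_classes_odd_le :
    2 * Nat.card (ConjClasses Γ) ≤ wcnt (scoef 1 (Nat.card F)) (expList (n + 1)) (2 * n + 1) := by
  haveI := finite_group_odd R hι
  obtain ⟨hfin, hcard⟩ := choiceSet_card (admSet (F := F) 1) (1, false, false) (fun x => x.1.natDegree) _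
    (fun w j => admSet_card R.two 1 w j) _ (expList_nodup (n + 1)) (expList_pos (n + 1)) (2 * n + 1)
  refine le_trans ?_ hcard
  calc 2 * Nat.card (ConjClasses Γ) = Nat.card (Bool × ConjClasses Γ) := by
        rw [Nat.card_prod, Nat.card_eq_fintype_card (α := Bool), Fintype.card_bool]
    _ = (Set.range (markPair R hι)).ncard := by rw [Set.ncard_range_of_injective (markPair_injective R hι)]
    _ ≤ _ := Set.ncard_le_ncard (Set.range_subset_iff.2 (markPair_mem R hι)) hfin

omit hι in
/-- At most simple roots at exponent one. -/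
def Simple (g : Γ) : Prop :=
  (tup R g 1).rootMultiplicity 1 ≤ 1 ∧ (tup R g 1).rootMultiplicity (-1) ≤ 1

/-- Twice the number of classes with simple roots. -/
theorem two_mul_simple_le :
    2 * Nat.card {c : ConjClasses Γ // Simple R c.out} ≤
      wcnt (rcoef (Nat.card F)) (expList (n + 1)) (2 * n + 1) := by
  haveI := finite_group_odd R hι
  let A : ℕ → Set (Datum F) := fun w => if w = 1 then simpleSet F else admSet (F := F) 1 w
  obtain ⟨hfin, hcard⟩ := choiceSet_card A (1, false, false) (fun x => x.1.natDegree) (rcoef (Nat.card F))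
    (fun w j => by
      simp only [A, rcoef]
      split_ifs with hw
      · exact simpleSet_card R.two j
      · exact admSet_card R.two 1 w j) _ (expList_nodup (n + 1)) (expList_pos (n + 1)) (2 * n + 1)
  refine le_trans ?_ hcard
  let f : Bool × {c : ConjClasses Γ // Simple R c.out} → (ℕ → Datum F) := fun x => markPair R hι (x.1, x.2.1)
  have hinj : Function.Injective f := fun x y he => by
    have h := markPair_injective R hι he
    exact Prod.ext (congrArg Prod.fst h :) (Subtype.ext (congrArg Prod.snd h :))
  calc 2 * Nat.card {c : ConjClasses Γ // Simple R c.out} = Nat.card (Bool × {c : ConjClasses Γ // Simple R c.out}) := by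
        rw [Nat.card_prod, Nat.card_eq_fintype_card (α := Bool), Fintype.card_bool]
    _ = (Set.range f).ncard := by rw [Set.ncard_range_of_injective hinj]
    _ ≤ _ := by
      refine Set.ncard_le_ncard (Set.range_subset_iff.2 ?_) hfin
      rintro ⟨b, c, hc⟩
      obtain ⟨h1, h2, h3⟩ := markPair_mem R hι (b, c)
      refine ⟨h1, fun i hi => ?_, h3⟩
      simp only [A]
      split_ifs with hw
      · subst hw
        have e : (f (b, ⟨c, hc⟩) 1).1 = tup R c.out 1 := setMark_fst _ _ _ _
        exact ⟨h2 1 hi, by rw [e]; exact hc.1, by rw [e]; exact hc.2⟩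
      · exact h2 i hi

end Cfsg.Agent.SpOClassCount
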