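import Cfsg.Agent.Lib.SpOClassCount.Bound
import Cfsg.Agent.Lib.SpOClassCount.Lower
import Cfsg.Agent.Lib.Forms.Standard
/-!
# Class numbers of full orthogonal groups, odd characteristic, even dimension

* `isometryGroup_isRep` : an isometry group as the group of isometries of its polar matrix;
* `orth_even_bounds` : `q^n ≤ 2 k` and `2 k ≤ 19 q^n`.
-/
set_option autoImplicit false
set_option linter.unusedVariables false
set_option linter.unusedSectionVars false

open scoped Classical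

namespace Cfsg.Agent.SpOClassCount

open Polynomial Matrix Cfsg.Agent.Forms

variable {F : Type*} [Field F] [Finite F] {ι : Type} [Fintype ι] [DecidableEq ι]

/-- The matrix of an isometry. -/
noncomputable def isoHom (Q : QuadraticForm F (ι → F)) :
    Cfsg.isometryGroup F (⇑Q) →* Matrix ι ι F :=
  (Units.coeHom (Matrix ι ι F)).comp (Subgroup.subtype _)

/-- The polar matrix. -/
noncomputable def polMat (Q : QuadraticForm F (ι → F)) : Matrix ι ι F :=
  LinearMap.BilinForm.toMatrix' Q.polarBilin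

theorem polar_eq_dot (Q : QuadraticForm F (ι → F)) (x y : ι → F) :
    QuadraticMap.polar Q x y = x ⬝ᵥ (polMat Q *ᵥ y) := by
  rw [← Matrix.toBilin'_apply', polMat, Matrix.toBilin'_toMatrix', QuadraticMap.polarBilin_apply_apply]

theorem polMat_transpose (Q : QuadraticForm F (ι → F)) : (polMat Q)ᵀ = polMat Q := by
  ext i j
  simp only [polMat, Matrix.transpose_apply, LinearMap.BilinForm.toMatrix'_apply,
    QuadraticMap.polarBilin_apply_apply]
  exact QuadraticMap.polar_comm _ _ _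

theorem preserves_iff (h2 : (2 : F) ≠ 0) (Q : QuadraticForm F (ι → F)) (A : Matrix ι ι F) :
    Aᵀ * polMat Q * A = polMat Q ↔ ∀ v, Q (A *ᵥ v) = Q v := by
  constructor
  · intro h v
    have e : QuadraticMap.polar Q (A *ᵥ v) (A *ᵥ v) = QuadraticMap.polar Q v v := by
      rw [polar_eq_dot, polar_eq_dot]
      conv_rhs => rw [← h, ← Matrix.mulVec_mulVec, ← Matrix.mulVec_mulVec, Matrix.dotProduct_mulVec,
        Matrix.vecMul_transpose]
    rw [QuadraticMap.polar_self, QuadraticMap.polar_self, nsmul_eq_mul, nsmul_eq_mul] at e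
    exact mul_left_cancel₀ (by exact_mod_cast h2) e
  · intro h
    refine Matrix.toBilin'.injective (LinearMap.ext fun x => LinearMap.ext fun y => ?_)
    rw [Matrix.toBilin'_apply', Matrix.toBilin'_apply', ← Matrix.mulVec_mulVec, ← Matrix.mulVec_mulVec,
      Matrix.dotProduct_mulVec, Matrix.vecMul_transpose, ← polar_eq_dot, ← polar_eq_dot]
    simp only [QuadraticMap.polar, ← Matrix.mulVec_add, h]

theorem isometryGroup_isRep (h2 : (2 : F) ≠ 0) (Q : QuadraticForm F (ι → F))
    (hQ : Q.polarBilin.Nondegenerate) : IsRep (1 : F) (polMat Q) (isoHom Q) := by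
  have hu : IsUnit (polMat Q) := by
    rw [Matrix.isUnit_iff_isUnit_det, isUnit_iff_ne_zero]
    exact Matrix.nondegenerate_iff_det_ne_zero.1 (LinearMap.BilinForm.nondegenerate_toMatrix'_iff.2 hQ)
  refine ⟨Units.val_injective.comp Subtype.coe_injective, fun A hA => ?_, fun g => ?_, hu, ?_, mul_one 1, h2⟩
  · have hd : IsUnit A.det := by
      have h := congrArg Matrix.det hA
      rw [Matrix.det_mul, Matrix.det_mul, Matrix.det_transpose] at h
      refine isUnit_iff_ne_zero.2 fun h0 => ((Matrix.isUnit_iff_isUnit_det _).1 hu).ne_zero ?_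
      rw [← h, h0, mul_zero]
    exact ⟨⟨Matrix.GeneralLinearGroup.mkOfDetNeZero A hd.ne_zero,
      (mem_isometryGroup _ _).2 ((preserves_iff h2 Q A).1 hA)⟩, rfl⟩
  · exact (preserves_iff h2 Q _).2 ((mem_isometryGroup _ _).1 g.2)
  · rw [polMat_transpose, one_smul]

/-- The classes of an orthogonal group are at least half of `q ^ n`. -/
theorem pow_le_card_classes_orth {Γ : Type*} [Group Γ] [Finite Γ] {S : Matrix ι ι F}
    {ρ : Γ →* Matrix ι ι F} (R : IsRep (1 : F) S ρ) {n : ℕ} (hι : Fintype.card ι = 2 * n) (hn : 2 ≤ n) :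
    Nat.card F ^ n ≤ 2 * Nat.card (ConjClasses Γ) := by
  obtain ⟨m, rfl⟩ : ∃ m, n = m + 2 := ⟨n - 2, by omega⟩
  let e : ι ≃ Fin (m + 2) ⊕ Fin (m + 2) := Fintype.equivOfCardEq (by simp; omega)
  set S' := Matrix.reindex e e S with hS'
  have hs' : S'ᵀ = S' := by rw [hS', Matrix.transpose_reindex, R.symm, one_smul]
  have hu' : IsUnit S' := by
    rw [hS', Matrix.isUnit_iff_isUnit_det, Matrix.det_reindex_self, ← Matrix.isUnit_iff_isUnit_det]
    exact R.unit
  set δ := (Matrix.J (Fin (m + 2)) F).det * S'.det with hδ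
  have hδ0 : δ ≠ 0 :=
    mul_ne_zero (Matrix.isUnit_det_J _ F).ne_zero ((Matrix.isUnit_iff_isUnit_det _).1 hu').ne_zero
  let A : Set (F[X] × (F × F)) := {P : F[X] | IsPal m P} ×ˢ {p : F × F | IsSquare (p.1 * p.2 * δ)}
  let T : Set F[X] := (fun x => palOf m x.1 x.2.1 x.2.2) '' A
  have hT : T.ncard = A.ncard := Set.ncard_image_of_injOn (s := A) (by
    rintro ⟨P, u, v⟩ hx ⟨P', u', v'⟩ hy he
    obtain ⟨rfl, rfl, rfl⟩ := palOf_injective R.two hx.1 hy.1 he
    rfl)
  have h1 : Nat.card F ^ (m + 2) ≤ 2 * T.ncard := by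
    rw [hT, Set.ncard_prod, pow_add, mul_left_comm]
    exact Nat.mul_le_mul (pow_le_ncard_pal R.two m) (ncard_square_pairs R.two hδ0)
  refine h1.trans (Nat.mul_le_mul_left 2 (ncard_le_classes ρ T fun P hP => ?_))
  obtain ⟨⟨Q, u, v⟩, ⟨hQ, hsq⟩, rfl⟩ := hP
  obtain ⟨hpal, he1, he2⟩ := palOf_spec R.two hQ u v
  obtain ⟨M, hM, hc⟩ := real_pal (m := m + 1) R.two hpal hs' hu' (by rw [he1, he2]; exact hsq)
  obtain ⟨g, hg⟩ := R.range (Matrix.reindex e.symm e.symm M) (by
    have := congrArg (Matrix.reindex e.symm e.symm) hM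
    simpa [hS', Matrix.reindex_apply, Matrix.submatrix_mul_equiv, ← Matrix.submatrix_mul_equiv _ _ _ e _,
      Matrix.transpose_submatrix] using this)
  exact ⟨g, by rw [hg, Matrix.charpoly_reindex, hc]⟩

/-- The bounds. -/
theorem orth_even_bounds (h2 : (2 : F) ≠ 0) (Q : QuadraticForm F (ι → F)) (hQ : Q.polarBilin.Nondegenerate)
    {n : ℕ} (hι : Fintype.card ι = 2 * n) (hn : 2 ≤ n) :
    Nat.card F ^ n ≤ 2 * Nat.card (ConjClasses (Cfsg.isometryGroup F (⇑Q))) ∧
      2 * Nat.card (ConjClasses (Cfsg.isometryGroup F (⇑Q))) ≤ 19 * Nat.card F ^ n :=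
  ⟨pow_le_card_classes_orth (isometryGroup_isRep h2 Q hQ) hι hn,
    card_classes_orth_le (isometryGroup_isRep h2 Q hQ) hι rfl⟩

end Cfsg.Agent.SpOClassCount
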