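import Cfsg.Agent.Lib.SpOClassCount.IndexTwo
import Cfsg.Agent.Lib.SpOClassCount.OddBound
import Cfsg.Agent.Lib.SpOClassCount.Orth
import Cfsg.Agent.Lib.Orth.Spinor
import Cfsg.Agent.S4200
/-!
# Classes of `Ω(2n+1,q)`, `q` odd

* `exists_plane` : two size-one blocks give an eigen-plane;
* `omega_odd_upper`, `omega_odd_lower` : the bounds `7.3 q^n` and `q^n / 2`.
-/
set_option autoImplicit false
set_option linter.unusedVariables false
set_option linter.unusedSectionVars false

open scoped Classical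

namespace Cfsg.Agent.SpOClassCount

open Polynomial Matrix Cfsg.Agent.Forms Cfsg.Agent.Forms.UnipCent
open QuadraticMap (polar)

variable {F : Type*} [Field F] [Fintype F] {ι : Type} [Fintype ι] [DecidableEq ι]

/-- An eigenspace for `±1` carries two values with non-square product. -/
def HasPlane {Q : QuadraticForm F (ι → F)} (g : Orth.IsoGrp Q) : Prop :=
  ∃ c : F, (c = 1 ∨ c = -1) ∧ ∃ v w, Orth.ap g v = c • v ∧ Orth.ap g w = c • w ∧
    Q v ≠ 0 ∧ Q w ≠ 0 ∧ quadraticChar F (Q v) * quadraticChar F (Q w) = -1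

theorem hasPlane_of_form (h2 : (2 : F) ≠ 0) {Q : QuadraticForm F (ι → F)} (g : Orth.IsoGrp Q) {c : F}
    (hc : c = 1 ∨ c = -1) {κ : Type} [Fintype κ] [DecidableEq κ] (hκ : 2 ≤ Fintype.card κ) (u : κ → ι → F)
    (hu : ∀ k, Orth.ap g (u k) = c • u k) (hG : IsUnit (Matrix.of fun k l => polar ⇑Q (u k) (u l))) :
    HasPlane g := by
  set G := Matrix.of fun k l => polar ⇑Q (u k) (u l)
  have hlin : ∀ a : κ → F, ∀ l, polar ⇑Q (∑ k, a k • u k) (u l) = (a ᵥ* G) l := fun a l => by
    rw [show polar ⇑Q (∑ k, a k • u k) (u l) = Q.polarBilin (∑ k, a k • u k) (u l) from rfl, map_sum,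
      LinearMap.sum_apply]
    exact Finset.sum_congr rfl fun k _ => by rw [map_smul, LinearMap.smul_apply]; rfl
  have hinj : Function.Injective fun a : κ → F => a ᵥ* G := Matrix.vecMul_injective_iff_isUnit.2 hG
  have hli : LinearIndependent F u := by
    refine Fintype.linearIndependent_iff.2 fun a ha => ?_
    have : a = 0 := hinj (by
      funext l
      show (a ᵥ* G) l = ((0 : κ → F) ᵥ* G) l
      rw [← hlin, ha, Matrix.zero_vecMul]; exact Orth.pl_zero_left (Q := Q) _)
    exact congrFun this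
  set W := Submodule.span F (Set.range u)
  have hdim : 2 ≤ Module.finrank F W := by rwa [finrank_span_eq_card hli]
  have hW : ∀ x ∈ W, x ≠ 0 → ∃ y ∈ W, polar ⇑Q x y ≠ 0 := by
    intro x hx hx0
    obtain ⟨a, rfl⟩ := (Submodule.mem_span_range_iff_exists_fun F).1 hx
    by_contra hall
    simp only [not_exists, not_and, not_not] at hall
    refine hx0 ?_
    have : a = 0 := hinj (by
      funext l
      show (a ᵥ* G) l = ((0 : κ → F) ᵥ* G) l
      rw [← hlin, Matrix.zero_vecMul, hall _ (Submodule.subset_span ⟨l, rfl⟩)]; rfl)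
    simp [this]
  obtain ⟨d, hd⟩ := quadraticChar_exists_neg_one' (F := F) (fun h => h2 (by
    have := ringChar.charP F
    have := CharP.cast_eq_zero F (ringChar F)
    rw [h] at this; exact_mod_cast this))
  obtain ⟨v, hv, hQv⟩ := Orth.exists_Q_eq_in W hW hdim 1
  obtain ⟨w, hw, hQw⟩ := Orth.exists_Q_eq_in W hW hdim (d : F)
  have heig : ∀ x ∈ W, Orth.ap g x = c • x := fun x hx => by
    obtain ⟨a, rfl⟩ := (Submodule.mem_span_range_iff_exists_fun F).1 hx
    rw [map_sum, Finset.smul_sum]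
    exact Finset.sum_congr rfl fun k _ => by rw [map_smul, hu, smul_comm]
  exact ⟨c, hc, v, w, heig v hv, heig w hw, by rw [hQv]; exact one_ne_zero, by rw [hQw]; exact d.ne_zero,
    by rw [hQv, hQw, map_one, one_mul, hd]⟩

/-- The block form of the chains of length one. -/
theorem isUnit_tops {a : ℕ} (d : Fin a → ℕ) (hd : ∀ k, 1 ≤ d k) {H : GL (Ix d) F}
    (hH : UnipCls.IsForm d (1 : F) H) (h : 1 ∈ Finset.univ.image d) :
    IsUnit (Matrix.of fun k l : Fb d ⟨1, h⟩ => (H : Matrix (Ix d) (Ix d) F) (o d hd k.1) (o d hd l.1)) := by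
  have hu := isUnit_G d hd (RingHom.id F) H hH.pres ⟨1, h⟩
  have e : G d hd H ⟨1, h⟩ =
      Matrix.of fun k l : Fb d ⟨1, h⟩ => (H : Matrix (Ix d) (Ix d) F) (o d hd k.1) (o d hd l.1) := by
    ext k l
    simp [G, topBlock]
  rwa [e] at hu

theorem nt_col_one {a : ℕ} (d : Fin a → ℕ) {k : Fin a} (hk : d k = 1) (x : Ix d) (j : Fin (d k)) :
    Jordan.NT F d x ⟨k, j⟩ = 0 := by
  rw [Jordan.NT_apply, if_neg]
  rintro ⟨h1, h3⟩
  obtain ⟨x1, x2⟩ := x
  dsimp only at h1 h3
  subst h1
  have := x2.isLt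
  omega

theorem gram_apply {μ : Type} [Fintype μ] [DecidableEq μ] (S : Matrix ι ι F) (P : Matrix ι μ F) (i j : μ) :
    (Pᵀ * S * P) i j = (P *ᵥ Pi.single i 1) ⬝ᵥ (S *ᵥ (P *ᵥ Pi.single j 1)) := by
  rw [Matrix.mulVec_mulVec, Matrix.mulVec_single_one, Matrix.mulVec_single_one, Matrix.mul_assoc, Matrix.mul_apply]
  rfl

theorem exists_plane (h2 : (2 : F) ≠ 0) {Q : QuadraticForm F (ι → F)} (R : IsRep (1 : F) (polMat Q) (isoHom Q))
    (g : Orth.IsoGrp Q) (hns : ¬ Simple R g) : HasPlane g := by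
  obtain ⟨m, -⟩ : ∃ m : Model (tup R g), True := ⟨model R _ ⟨g, rfl⟩, trivial⟩
  obtain ⟨HP, HM, HR, hA⟩ := exists_adapted R m (g := g) rfl
  obtain ⟨P, P', hPP', hP'P, hg, hH⟩ := hA.basis
  set T := Tm m.dP m.dM m.M with hT
  have mk : ∀ {κ : Type} [Fintype κ] [DecidableEq κ] (c : F), (c = 1 ∨ c = -1) → 2 ≤ Fintype.card κ →
      ∀ e : κ → m.Idx, (∀ k, T *ᵥ Pi.single (e k) 1 = c • Pi.single (e k) 1) →
      IsUnit (Matrix.of fun k l => (Pᵀ * polMat Q * P) (e k) (e l)) → HasPlane g := by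
    intro κ _ _ c hc hκ e he hu
    refine hasPlane_of_form h2 g hc hκ (fun k => P *ᵥ Pi.single (e k) 1) (fun k => ?_) ?_
    · show isoHom Q g *ᵥ (P *ᵥ Pi.single (e k) 1) = _
      rw [Matrix.mulVec_mulVec, hg, ← Matrix.mulVec_mulVec, he, Matrix.mulVec_smul]
    · convert hu using 1
      ext k l
      rw [Matrix.of_apply, Matrix.of_apply, polar_eq_dot, gram_apply]
  unfold Simple at hns
  rw [← m.cP, ← m.cM] at hns
  rcases not_and_or.1 hns with h | h
  · have hlt : 2 ≤ Fintype.card {k // m.dP k = 1} := by omega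
    obtain ⟨⟨k₀, hk₀⟩⟩ := (Fintype.card_pos_iff.1 (by omega) : Nonempty {k // m.dP k = 1})
    have hmem : 1 ∈ Finset.univ.image m.dP := Finset.mem_image.2 ⟨k₀, Finset.mem_univ _, hk₀⟩
    refine mk (κ := Fb m.dP ⟨1, hmem⟩) 1 (Or.inl rfl) hlt (fun k => Sum.inl (Sum.inl (o m.dP m.hP k.1))) (fun k => ?_) ?_
    · rw [one_smul, Matrix.mulVec_single_one]
      funext x
      rcases x with (x | x) | x <;> simp [hT, Tm, Pi.single_apply, Matrix.one_apply, nt_col_one m.dP k.2, eq_comm]
    · convert isUnit_tops m.dP m.hP hA.formP hmem using 1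
      ext k l
      simp [hH]
  · have hlt : 2 ≤ Fintype.card {k // m.dM k = 1} := by omega
    obtain ⟨⟨k₀, hk₀⟩⟩ := (Fintype.card_pos_iff.1 (by omega) : Nonempty {k // m.dM k = 1})
    have hmem : 1 ∈ Finset.univ.image m.dM := Finset.mem_image.2 ⟨k₀, Finset.mem_univ _, hk₀⟩
    refine mk (κ := Fb m.dM ⟨1, hmem⟩) (-1) (Or.inr rfl) hlt (fun k => Sum.inl (Sum.inr (o m.dM m.hM k.1))) (fun k => ?_) ?_
    · rw [Matrix.mulVec_single_one]
      funext x
      rcases x with (x | x) | x <;>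
        simp [hT, Tm, Pi.single_apply, Matrix.one_apply, nt_col_one m.dM k.2, eq_comm]
      split_ifs <;> simp
    · convert isUnit_tops m.dM m.hM hA.formM hmem using 1
      ext k l
      simp [hH]

section Groups

variable {Q : QuadraticForm F (ι → F)} (hG : Orth.Good Q) (h2 : (2 : F) ≠ 0) {n : ℕ}
  (hι : Fintype.card ι = 2 * n + 1)

/-- The negative of the identity. -/
def negOne (Q : QuadraticForm F (ι → F)) : Orth.IsoGrp Q :=
  ⟨-1, (Forms.mem_isometryGroup _ _).2 fun v => by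
    rw [Units.val_neg, Units.val_one, Matrix.neg_mulVec, Matrix.one_mulVec, QuadraticMap.map_neg]⟩

theorem ap_negOne (v : ι → F) : Orth.ap (negOne Q) v = -v := by
  rw [Orth.ap_apply, negOne, Units.val_neg, Units.val_one, Matrix.neg_mulVec, Matrix.one_mulVec]

theorem negOne_comm (g : Orth.IsoGrp Q) : Commute (negOne Q) g :=
  Orth.ext_ap fun x => by rw [Orth.ap_mul, Orth.ap_mul, ap_negOne, ap_negOne, map_neg]

theorem negOne_sq : negOne Q * negOne Q = 1 :=
  Orth.ext_ap fun x => by rw [Orth.ap_mul, ap_negOne, ap_negOne, neg_neg, Orth.ap_one]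

include hG h2 hι in
theorem dick_negOne : Orth.dick (negOne Q) = -1 := by
  rcases Orth.dick_eq_or (negOne Q) with h | h
  · exfalso
    have := Orth.det_eq_dick hG (negOne Q)
    rw [h, negOne, Units.val_neg, Units.val_one, Matrix.det_neg, Matrix.det_one, mul_one, hι, Odd.neg_one_pow ⟨n, rfl⟩,
      Int.cast_one] at this
    exact h2 (by linear_combination -this)
  · exact h

theorem hasPlane_neg {g : Orth.IsoGrp Q} (h : HasPlane (negOne Q * g)) : HasPlane g := by
  obtain ⟨c, hc, v, w, hv, hw, h1, h3, h4⟩ := h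
  refine ⟨-c, by rcases hc with rfl | rfl <;> simp, v, w, ?_, ?_, h1, h3, h4⟩
  · rw [Orth.ap_mul, ap_negOne] at hv; rw [neg_smul, ← hv, neg_neg]
  · rw [Orth.ap_mul, ap_negOne] at hw; rw [neg_smul, ← hw, neg_neg]

theorem hasPlane_conj {g h : Orth.IsoGrp Q} (hp : HasPlane g) : HasPlane (h * g * h⁻¹) := by
  obtain ⟨c, hc, v, w, hv, hw, h1, h3, h4⟩ := hp
  exact ⟨c, hc, Orth.ap h v, Orth.ap h w, by simp [hv], by simp [hw], by simpa using h1, by simpa using h3,
    by simpa using h4⟩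

/-- The elements of Dickson sign one. -/
noncomputable def evenGrp : Subgroup (Orth.IsoGrp Q) := (Orth.dickHom hG).toHomUnits.ker

theorem mem_evenGrp {g : Orth.IsoGrp Q} : g ∈ evenGrp hG ↔ Orth.dick g = 1 := by
  simp [evenGrp, MonoidHom.mem_ker, Units.ext_iff]

theorem arith_three {k e f K T A B q : ℕ} (h1 : 2 * k ≤ e + 3 * f) (hS : 2 * e ≤ K) (hT : 2 * K ≤ T)
    (h3 : 2 * f ≤ A) (h4 : 2 * A ≤ B) (h5 : 5 * (T + 3 * B) ≤ 292 * q) : 10 * k ≤ 73 * q := by omega

theorem arith_five {k e K T q : ℕ} (h1 : k ≤ 2 * e) (hS : 2 * e ≤ K) (hT : 2 * K ≤ T)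
    (h5 : 5 * T ≤ 73 * q) : 10 * k ≤ 73 * q := by omega

theorem omega_le_even : Cfsg.Omega F ⇑Q ≤ evenGrp hG := fun g hg =>
  (mem_evenGrp hG).2 ((Orth.mem_omega_iff hG g).1 hg).1

include h2 hι in
theorem two_mul_even_le : 2 * Nat.card (ConjClasses (evenGrp hG)) ≤ Nat.card (ConjClasses (Orth.IsoGrp Q)) := by
  let f : ConjClasses (evenGrp hG) ⊕ ConjClasses (evenGrp hG) → ConjClasses (Orth.IsoGrp Q) := fun
    | Sum.inl c => ConjClasses.mk (c.out : Orth.IsoGrp Q)
    | Sum.inr c => ConjClasses.mk (negOne Q * (c.out : Orth.IsoGrp Q))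
  have hd : ∀ s : evenGrp hG, Orth.dick (s : Orth.IsoGrp Q) = 1 := fun s => (mem_evenGrp hG).1 s.2
  have hconj : ∀ a b : evenGrp hG, IsConj (a : Orth.IsoGrp Q) b → IsConj a b := by
    intro a b hab
    obtain ⟨x, hx⟩ := isConj_iff.1 hab
    rcases Orth.dick_eq_or x with hx1 | hx1
    · exact isConj_iff.2 ⟨⟨x, (mem_evenGrp hG).2 hx1⟩, Subtype.ext hx⟩
    · refine isConj_iff.2 ⟨⟨negOne Q * x, (mem_evenGrp hG).2 ?_⟩, Subtype.ext ?_⟩
      · rw [Orth.dick_mul hG, dick_negOne hG h2 hι, hx1]; norm_num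
      · show negOne Q * x * (a : Orth.IsoGrp Q) * (negOne Q * x)⁻¹ = b
        rw [mul_assoc (negOne Q), ← hx, _root_.mul_inv_rev]
        calc negOne Q * (x * a) * (x⁻¹ * (negOne Q)⁻¹) = negOne Q * (x * a * x⁻¹) * (negOne Q)⁻¹ := by group
          _ = x * a * x⁻¹ := by rw [(negOne_comm (x * (a : Orth.IsoGrp Q) * x⁻¹)).eq, mul_inv_cancel_right]
  have hdiff : ∀ a b : evenGrp hG, ¬ IsConj (a : Orth.IsoGrp Q) (negOne Q * b) := by
    intro a b hab
    obtain ⟨x, hx⟩ := isConj_iff.1 hab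
    have h := congrArg (Orth.dickHom hG) hx
    have hxx : Orth.dickHom hG x * Orth.dickHom hG x⁻¹ = 1 := by rw [← map_mul, mul_inv_cancel, map_one]
    rw [map_mul, map_mul, map_mul, mul_right_comm, hxx, Orth.dickHom_apply, Orth.dickHom_apply, Orth.dickHom_apply,
      hd, hd, dick_negOne hG h2 hι] at h
    norm_num at h
  rw [two_mul, ← Nat.card_sum]
  refine Nat.card_le_card_of_injective f ?_
  rintro (c | c) (d | d) he <;> simp only [f, ConjClasses.mk_eq_mk_iff_isConj] at he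
  · refine congrArg Sum.inl ?_
    rw [← Quotient.out_eq c, ← Quotient.out_eq d]
    exact Quotient.sound (hconj _ _ he)
  · exact absurd he (hdiff _ _)
  · exact absurd he.symm (hdiff _ _)
  · refine congrArg Sum.inr ?_
    rw [← Quotient.out_eq c, ← Quotient.out_eq d]
    refine Quotient.sound (hconj _ _ ?_)
    obtain ⟨x, hx⟩ := isConj_iff.1 he
    refine isConj_iff.2 ⟨x, mul_left_cancel (a := negOne Q) ?_⟩
    rw [← hx, ← mul_assoc (negOne Q) (x * _), ← mul_assoc (negOne Q) x, (negOne_comm x).eq]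
    group

include h2 hι in
theorem two_mul_noPlane_le (R : IsRep (1 : F) (polMat Q) (isoHom Q)) :
    2 * Nat.card {c : ConjClasses (evenGrp hG) // ¬ HasPlane (c.out : Orth.IsoGrp Q)} ≤
      Nat.card {c : ConjClasses (Orth.IsoGrp Q) // Simple R c.out} := by
  have hs : ∀ y : Orth.IsoGrp Q, ¬ HasPlane y → Simple R (ConjClasses.mk y).out := fun y hy => by
    by_contra hns
    obtain ⟨x, hx⟩ := isConj_iff.1 (ConjClasses.mk_eq_mk_iff_isConj.1 (Quotient.out_eq (ConjClasses.mk y)))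
    exact hy (hx ▸ hasPlane_conj (exists_plane h2 R _ hns))
  let T := {c : ConjClasses (evenGrp hG) // ¬ HasPlane (c.out : Orth.IsoGrp Q)}
  let f : T ⊕ T → {c : ConjClasses (Orth.IsoGrp Q) // Simple R c.out} := fun
    | Sum.inl c => ⟨ConjClasses.mk (c.1.out : Orth.IsoGrp Q), hs _ c.2⟩
    | Sum.inr c => ⟨ConjClasses.mk (negOne Q * (c.1.out : Orth.IsoGrp Q)), hs _ fun h => c.2 (hasPlane_neg h)⟩
  rw [two_mul, ← Nat.card_sum]
  refine Nat.card_le_card_of_injective f ?_
  have hd : ∀ s : evenGrp hG, Orth.dick (s : Orth.IsoGrp Q) = 1 := fun s => (mem_evenGrp hG).1 s.2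
  have hconj : ∀ a b : evenGrp hG, IsConj (a : Orth.IsoGrp Q) b → IsConj a b := by
    intro a b hab
    obtain ⟨x, hx⟩ := isConj_iff.1 hab
    rcases Orth.dick_eq_or x with hx1 | hx1
    · exact isConj_iff.2 ⟨⟨x, (mem_evenGrp hG).2 hx1⟩, Subtype.ext hx⟩
    · refine isConj_iff.2 ⟨⟨negOne Q * x, (mem_evenGrp hG).2 ?_⟩, Subtype.ext ?_⟩
      · rw [Orth.dick_mul hG, dick_negOne hG h2 hι, hx1]; norm_num
      · show negOne Q * x * (a : Orth.IsoGrp Q) * (negOne Q * x)⁻¹ = b
        rw [mul_assoc (negOne Q), ← hx, _root_.mul_inv_rev]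
        calc negOne Q * (x * a) * (x⁻¹ * (negOne Q)⁻¹) = negOne Q * (x * a * x⁻¹) * (negOne Q)⁻¹ := by group
          _ = x * a * x⁻¹ := by rw [(negOne_comm (x * (a : Orth.IsoGrp Q) * x⁻¹)).eq, mul_inv_cancel_right]
  have hdiff : ∀ a b : evenGrp hG, ¬ IsConj (a : Orth.IsoGrp Q) (negOne Q * b) := by
    intro a b hab
    obtain ⟨x, hx⟩ := isConj_iff.1 hab
    have h := congrArg (Orth.dickHom hG) hx
    have hxx : Orth.dickHom hG x * Orth.dickHom hG x⁻¹ = 1 := by rw [← map_mul, mul_inv_cancel, map_one]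
    rw [map_mul, map_mul, map_mul, mul_right_comm, hxx, Orth.dickHom_apply, Orth.dickHom_apply, Orth.dickHom_apply,
      hd, hd, dick_negOne hG h2 hι] at h
    norm_num at h
  rintro (c | c) (d | d) he <;> simp only [f, Subtype.mk.injEq, ConjClasses.mk_eq_mk_iff_isConj] at he
  · refine congrArg Sum.inl (Subtype.ext ?_)
    rw [← Quotient.out_eq c.1, ← Quotient.out_eq d.1]
    exact Quotient.sound (hconj _ _ he)
  · exact absurd he (hdiff _ _)
  · exact absurd he.symm (hdiff _ _)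
  · refine congrArg Sum.inr (Subtype.ext ?_)
    rw [← Quotient.out_eq c.1, ← Quotient.out_eq d.1]
    refine Quotient.sound (hconj _ _ ?_)
    obtain ⟨x, hx⟩ := isConj_iff.1 he
    refine isConj_iff.2 ⟨x, mul_left_cancel (a := negOne Q) ?_⟩
    rw [← hx, ← mul_assoc (negOne Q) (x * _), ← mul_assoc (negOne Q) x, (negOne_comm x).eq]
    group

include hG in
/-- An element with a plane commutes with an even isometry outside `Ω`. -/
theorem exists_commute_outside {g : Orth.IsoGrp Q} (hp : HasPlane g) :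
    ∃ y ∈ evenGrp hG, Commute g y ∧ y ∉ Cfsg.Omega F ⇑Q := by
  obtain ⟨c, hc, v, w, hv, hw, h1, h3, h4⟩ := hp
  have hc0 : c ≠ 0 := by rcases hc with rfl | rfl <;> simp
  have hcomm : ∀ u : ι → F, Orth.ap g u = c • u → Commute g (Orth.refl Q u) := fun u hu => by
    have h := Orth.conj_refl g u
    rw [hu, Orth.refl_smul (Q := Q) hc0] at h
    exact mul_inv_eq_iff_eq_mul.1 h
  refine ⟨Orth.refl Q v * Orth.refl Q w, (mem_evenGrp hG).2 ?_, (hcomm v hv).mul_right (hcomm w hw), fun hmem => ?_⟩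
  · rw [Orth.dick_mul hG, Orth.dick_refl hG.nd h1, Orth.dick_refl hG.nd h3]; norm_num
  · have := ((Orth.mem_omega_iff hG _).1 hmem).2
    rw [Orth.spin_mul hG, Orth.spin_refl hG.nd h1, Orth.spin_refl hG.nd h3] at this
    rw [show quadraticChar F (Q v) * quadraticChar F (Q w) = -1 from h4] at this
    norm_num at this

include hG h2 hι in
/-- The upper bound. -/
theorem omega_odd_upper (hn : 1 ≤ n) :
    10 * Nat.card (ConjClasses (Cfsg.Omega F ⇑Q)) ≤ 73 * Nat.card F ^ n := by
  set R := isometryGroup_isRep h2 Q hG.nd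
  set E := evenGrp hG
  set K := (Cfsg.Omega F ⇑Q).subgroupOf E
  have hiso : Nat.card (ConjClasses (Cfsg.Omega F ⇑Q)) = Nat.card (ConjClasses K) := by
    let e : K ≃* Cfsg.Omega F ⇑Q := Subgroup.subgroupOfEquivOfLe (omega_le_even hG)
    have hb : Function.Bijective (ConjClasses.map e.toMonoidHom) := by
      constructor
      · intro x y
        refine Quotient.inductionOn₂ x y fun a b hab => ?_
        have h := ConjClasses.mk_eq_mk_iff_isConj.1 hab
        obtain ⟨z, hz⟩ := isConj_iff.1 h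
        refine ConjClasses.mk_eq_mk_iff_isConj.2 (isConj_iff.2 ⟨e.symm z, ?_⟩)
        apply e.injective
        simpa using hz
      · exact ConjClasses.map_surjective e.surjective
    exact (Nat.card_congr (Equiv.ofBijective _ hb)).symm
  have hE : E.index = 2 := by
    rw [show E.index = _ from Subgroup.index_ker (Orth.dickHom hG).toHomUnits]
    rw [MonoidHom.range_eq_top.2, Subgroup.card_top]
    · simp
    · intro u
      rcases Int.units_eq_one_or u with rfl | rfl
      · exact ⟨1, map_one _⟩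
      · exact ⟨negOne Q, Units.ext (dick_negOne hG h2 hι)⟩
  have hK : K.index = 2 := by
    have h4 := Subgroup.relIndex_mul_index (omega_le_even hG)
    rw [Orth.omega_index_odd hG (by omega) h2, hE] at h4
    show (Cfsg.Omega F ⇑Q).relIndex (evenGrp hG) = 2
    omega
  have hS := two_mul_even_le hG h2 hι
  have hT := two_mul_classes_odd_le R hι
  have hq : 3 ≤ Nat.card F := three_le_card h2
  change 2 * Nat.card (ConjClasses E) ≤ Nat.card (ConjClasses (Orth.IsoGrp Q)) at hS
  change 2 * Nat.card (ConjClasses (Orth.IsoGrp Q)) ≤ _ at hT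
  have hN : 20 ≤ max (2 * (n + 1)) 20 := le_max_right _ _
  rw [hiso]
  rcases Nat.lt_or_ge (Nat.card F) 5 with hlt | hge
  · have hq3 : Nat.card F = 3 := by
      have h2' : Nat.card F % 2 = 1 := by
        rw [Nat.card_eq_fintype_card]
        refine FiniteField.odd_card_of_char_ne_two fun hc => h2 ?_
        have := ringChar.charP F
        have := CharP.cast_eq_zero F (ringChar F)
        rw [hc] at this; exact_mod_cast this
      omega
    let p : ConjClasses E → Prop := fun c => ¬ HasPlane (c.out : Orth.IsoGrp Q)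
    have h1 := two_mul_classes_le K hK p (fun x hx hall => fun hp => by
      obtain ⟨z, hz⟩ := isConj_iff.1 (ConjClasses.mk_eq_mk_iff_isConj.1 (Quotient.out_eq (ConjClasses.mk x)))
      have hx' : HasPlane (x : Orth.IsoGrp Q) := by
        have := hasPlane_conj (h := (z : Orth.IsoGrp Q)) hp
        rwa [show (z : Orth.IsoGrp Q) * _ * (z : Orth.IsoGrp Q)⁻¹ = (x : Orth.IsoGrp Q) from
          congrArg Subtype.val hz] at this
      obtain ⟨y, hyE, hc, hy⟩ := exists_commute_outside hG hx'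
      exact hy (hall ⟨y, hyE⟩ (Subtype.ext hc)))
    have h3 := two_mul_noPlane_le hG h2 hι R
    have h4 := two_mul_simple_le R hι
    change 2 * Nat.card {c : ConjClasses E // ¬ HasPlane (c.out : Orth.IsoGrp Q)} ≤
      Nat.card {c : ConjClasses (Orth.IsoGrp Q) // Simple R c.out} at h3
    change 2 * Nat.card {c : ConjClasses (Orth.IsoGrp Q) // Simple R c.out} ≤ _ at h4
    have h5 := wcnt_odd_three_le (n := n) hN
    rw [hq3] at hT h4 ⊢
    change 2 * _ ≤ wcnt (scoef 1 3) (1 :: SLComm.downTwo (max (2 * (n + 1)) 20)) (2 * n + 1) at hT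
    change 2 * _ ≤ wcnt (rcoef 3) (1 :: SLComm.downTwo (max (2 * (n + 1)) 20)) (2 * n + 1) at h4
    exact arith_three h1 hS hT h3 h4 h5
  · have h1 : Nat.card (ConjClasses K) ≤ 2 * Nat.card (ConjClasses E) := by
      have := (S4200.result K).1
      rwa [hK] at this
    have h5 := wcnt_odd_five_le hge (n := n) hN
    change 2 * _ ≤ wcnt (scoef 1 (Nat.card F)) (1 :: SLComm.downTwo (max (2 * (n + 1)) 20)) (2 * n + 1) at hT
    exact arith_five h1 hS hT h5

include hG h2 hι in
/-- The lower bound. -/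
theorem omega_odd_lower (hn : 1 ≤ n) :
    Nat.card F ^ n ≤ 2 * Nat.card (ConjClasses (Cfsg.Omega F ⇑Q)) := by
  set R := isometryGroup_isRep h2 Q hG.nd
  have hS4 : Nat.card (ConjClasses (Orth.IsoGrp Q)) ≤ 4 * Nat.card (ConjClasses (Cfsg.Omega F ⇑Q)) := by
    have := (S4200.result (Cfsg.Omega F ⇑Q)).2.1
    rwa [Orth.omega_index_odd hG (by omega) h2] at this
  obtain ⟨m, rfl⟩ : ∃ m, n = m + 1 := ⟨n - 1, by omega⟩
  let e : ι ≃ Unit ⊕ (Fin (m + 1) ⊕ Fin (m + 1)) := Fintype.equivOfCardEq (by simp; omega)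
  set S' := Matrix.reindex e e (polMat Q) with hS'
  have hs' : S'ᵀ = S' := by rw [hS', Matrix.transpose_reindex, polMat_transpose]
  have hu' : IsUnit S' := by
    rw [hS', Matrix.isUnit_iff_isUnit_det, Matrix.det_reindex_self, ← Matrix.isUnit_iff_isUnit_det]
    exact R.unit
  let T : Set F[X] := (fun x : Bool × F[X] => (X - C (if x.1 then (1 : F) else -1)) * x.2) ''
    ((Set.univ : Set Bool) ×ˢ {P : F[X] | IsPal (m + 1) P})
  have hcard : T.ncard = 2 * {P : F[X] | IsPal (m + 1) P}.ncard := by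
    rw [Set.InjOn.ncard_image, Set.ncard_prod, Set.ncard_univ, Nat.card_eq_fintype_card, Fintype.card_bool]
    rintro ⟨b, P⟩ ⟨-, hP⟩ ⟨b', P'⟩ ⟨-, hP'⟩ he
    dsimp only at he
    have h0 := congrArg (fun A : F[X] => A.coeff 0) he
    simp only [mul_coeff_zero, coeff_sub, coeff_X_zero, coeff_C_zero, IsPal.coeff_zero hP, IsPal.coeff_zero hP',
      zero_sub, mul_one, neg_inj] at h0
    have hb : b = b' := by
      cases b <;> cases b' <;> simp only [if_true, Bool.false_eq_true, if_false] at h0 <;>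
        first | rfl | exact absurd (show (2 : F) = 0 by linear_combination h0) h2 |
          exact absurd (show (2 : F) = 0 by linear_combination -h0) h2
    subst hb
    exact Prod.ext rfl (mul_left_cancel₀ (monic_X_sub_C _).ne_zero he)
  have hreal : ∀ P ∈ T, ∃ g, (isoHom Q g).charpoly = P := by
    rintro _ ⟨⟨b, P⟩, ⟨-, hP⟩, rfl⟩
    obtain ⟨M, H, hs, hu, hi, hc⟩ := exists_symm_any h2 (m + 1) P hP
    dsimp only
    set c := if b then (1 : F) else -1
    have hcc : c * c = 1 := by simp only [c]; split_ifs <;> simp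
    have hd0 : H.det ≠ 0 := ((Matrix.isUnit_iff_isUnit_det _).1 hu).ne_zero
    have hS0 : S'.det ≠ 0 := ((Matrix.isUnit_iff_isUnit_det _).1 hu').ne_zero
    let H' : Matrix (Unit ⊕ (Fin (m + 1) ⊕ Fin (m + 1))) (Unit ⊕ (Fin (m + 1) ⊕ Fin (m + 1))) F :=
      Matrix.fromBlocks ((S'.det * H.det) • (1 : Matrix Unit Unit F)) 0 0 H
    have hdet : H'.det = S'.det * (H.det * H.det) := by
      simp only [H', Matrix.det_fromBlocks_zero₂₁, Matrix.det_smul, Matrix.det_one]; simp [mul_assoc]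
    have hH'u : IsUnit H' := by
      rw [Matrix.isUnit_iff_isUnit_det, hdet, isUnit_iff_ne_zero]
      exact mul_ne_zero hS0 (mul_ne_zero hd0 hd0)
    have hH's : H'ᵀ = H' := by
      simp only [H', Matrix.fromBlocks_transpose, Matrix.transpose_zero, Matrix.transpose_smul, Matrix.transpose_one, hs]
    have hsq : IsSquare H'.det ↔ IsSquare S'.det := by
      rw [hdet, isSquare_mul_iff h2 hS0 (mul_ne_zero hd0 hd0)]
      simp only [show IsSquare (H.det * H.det) from ⟨_, rfl⟩, iff_true]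
    obtain ⟨B, hB, hBH⟩ := Forms.UnipCls.exists_congr_symm h2 H' S' hH's hs' hH'u hu' hsq
    have hi' : (Matrix.fromBlocks (c • (1 : Matrix Unit Unit F)) 0 0 M)ᵀ * H' *
        Matrix.fromBlocks (c • 1) 0 0 M = H' := by
      simp only [H', Matrix.fromBlocks_transpose, Matrix.transpose_zero, Matrix.fromBlocks_multiply, Matrix.mul_zero,
        Matrix.zero_mul, add_zero, zero_add, hi, Matrix.transpose_smul, Matrix.transpose_one, Matrix.smul_mul,
        Matrix.mul_smul, Matrix.one_mul, Matrix.mul_one, smul_smul, smul_zero]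
      rw [show c * (S'.det * H.det * c) = c * c * (S'.det * H.det) by ring, hcc, one_mul]
    obtain ⟨M', hM', hc'⟩ := exists_transfer hB hBH hi'
    obtain ⟨g, hg⟩ := R.range (Matrix.reindex e.symm e.symm M') (by
      have := congrArg (Matrix.reindex e.symm e.symm) hM'
      simpa [hS', Matrix.reindex_apply, Matrix.submatrix_mul_equiv, ← Matrix.submatrix_mul_equiv _ _ _ e _,
        Matrix.transpose_submatrix] using this)
    refine ⟨g, ?_⟩
    rw [hg, Matrix.charpoly_reindex, hc', Matrix.charpoly_fromBlocks_zero₂₁, hc, smul_one_eq_diagonal,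
      Matrix.charpoly_diagonal]
    simp
  have h1 := ncard_le_classes (isoHom Q) T hreal
  change T.ncard ≤ Nat.card (ConjClasses (Orth.IsoGrp Q)) at h1
  have h2' := pow_le_ncard_pal h2 (m + 1)
  omega

end Groups

end Cfsg.Agent.SpOClassCount
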